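import Mathlib
import Cfsg.Agent.H26.Cover6

set_option autoImplicit false

/-!
# Fong–Reynolds correspondence, algebraic part
-/

namespace Cfsg.Agent.H26

open MonoidAlgebra MulAction

section FR

variable {k : Type*} [Field k] [IsAlgClosed k] {G : Type*} [Group G] [Finite G]
  {N : Subgroup G} [hN : N.Normal] {e : MonoidAlgebra k G}

omit [IsAlgClosed k] [Finite G] in
theorem mem_stab_top {f : MonoidAlgebra k G} {g : G} : g ∈ stab ⊤ f ↔ cj g f = f := by
  rw [mem_stab]
  exact ⟨fun h => h.2, fun h => ⟨Subgroup.mem_top g, h⟩⟩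

omit [IsAlgClosed k] in
theorem mul_cj_of_notMem (he : IsBlk N e) {g : G} (hg : g ∉ stab ⊤ e) : e * cj g e = 0 := by
  apply he.mul_of_ne (he.cj_of_normalizer (mem_nz_normal g))
  intro h
  exact hg (mem_stab_top.mpr h.symm)

omit [IsAlgClosed k] in
theorem e_mul_single_mul_e (he : IsBlk N e) {x : G} (hx : x ∉ stab ⊤ e) (c : k) :
    e * single x c * e = 0 := by
  have h1 : single x c * e = cj x e * single x c := by
    have h2 : (single x c : MonoidAlgebra k G) = c • single x 1 := by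
      rw [smul_single, smul_eq_mul, mul_one]
    rw [h2, smul_mul_assoc, single_mul_eq, mul_smul_comm]
  rw [mul_assoc, h1, ← mul_assoc, mul_cj_of_notMem he hx, zero_mul]

omit [IsAlgClosed k] [Finite G] in
theorem eq_sum_single [Fintype G] (a : MonoidAlgebra k G) : a = ∑ x : G, single x (a.coeff x) := by
  classical
  ext y
  rw [MonoidAlgebra.coeff_sum, Finsupp.finsetSum_apply, Finset.sum_eq_single y]
  · rw [MonoidAlgebra.coeff_single, Finsupp.single_apply, if_pos rfl]
  · intro x _ hx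
    rw [MonoidAlgebra.coeff_single, Finsupp.single_apply, if_neg hx]
  · intro h; exact absurd (Finset.mem_univ _) h

omit [IsAlgClosed k] in
/-- `e a e = e a_T e` -/
theorem e_mul_e_rst (he : IsBlk N e) (a : MonoidAlgebra k G) :
    e * a * e = e * rst (stab ⊤ e : Set G) a * e := by
  classical
  have := Fintype.ofFinite G
  have h1 : e * (a - rst (stab ⊤ e : Set G) a) * e = 0 := by
    rw [eq_sum_single (a - rst (stab ⊤ e : Set G) a), Finset.mul_sum, Finset.sum_mul]
    apply Finset.sum_eq_zero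
    intro x _
    by_cases hx : x ∈ stab ⊤ e
    · have h2 : (a - rst (stab ⊤ e : Set G) a).coeff x = 0 := by
        rw [MonoidAlgebra.coeff_sub, Finsupp.sub_apply, coeff_rst_of_mem a hx, sub_self]
      rw [h2, single_zero, mul_zero, zero_mul]
    · exact e_mul_single_mul_e he hx _
  rw [mul_sub, sub_mul, sub_eq_zero] at h1
  exact h1

omit [IsAlgClosed k] in
theorem le_stab_top (he : IsBlk N e) : N ≤ stab ⊤ e := le_stab le_top he.isFx

omit [IsAlgClosed k] in
theorem e_mem_Zc_stab (he : IsBlk N e) : e ∈ Zc k (stab ⊤ e) :=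
  ⟨he.isSup.mono (le_stab_top he), isFx_stab ⊤ e⟩

omit [IsAlgClosed k] in
/-- for central `z`: `z e = z_T e` -/
theorem central_mul_e (he : IsBlk N e) {z : MonoidAlgebra k G} (hz : z ∈ Zc k (⊤ : Subgroup G)) :
    z * e = rst (stab ⊤ e : Set G) z * e ∧ rst (stab ⊤ e : Set G) z ∈ Zc k (stab ⊤ e) := by
  have hr : rst (stab ⊤ e : Set G) z ∈ Zc k (stab ⊤ e) := rst_mem_Zc le_top hz
  refine ⟨?_, hr⟩
  have h1 : z * e = e * z * e := by
    rw [(Zc_commute hz (isSup_top e)).eq.symm, mul_assoc, he.idem]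
  rw [h1, e_mul_e_rst he, ← (Zc_commute hr (he.isSup.mono (le_stab_top he))).eq, mul_assoc,
    he.idem]

variable {E' : MonoidAlgebra k G}

omit [IsAlgClosed k] in
theorem e_mul_E' (he : IsBlk N e) (hE' : IsBlk (stab ⊤ e) E') (hne : E' * e ≠ 0) :
    e * E' = E' ∧ E' * e = E' := by
  have hc : E' * e = e * E' := (Zc_commute hE'.mem (e_mem_Zc_stab he).1).eq
  have h1 := (hE'.mul_eq_or (e_mem_Zc_stab he) he.idem).resolve_left (by rw [← hc]; exact hne)
  exact ⟨h1, by rw [hc]; exact h1⟩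

omit [IsAlgClosed k] in
theorem E'_mul_cj (he : IsBlk N e) (hE' : IsBlk (stab ⊤ e) E') (hne : E' * e ≠ 0) {g : G}
    (hg : g ∉ stab ⊤ e) : E' * cj g E' = 0 := by
  obtain ⟨h1, h2⟩ := e_mul_E' he hE' hne
  calc E' * cj g E' = (E' * e) * cj g (e * E') := by rw [h1, h2]
    _ = E' * (e * cj g e) * cj g E' := by rw [map_mul]; noncomm_ring
    _ = 0 := by rw [mul_cj_of_notMem he hg, mul_zero, zero_mul]

omit [IsAlgClosed k] in
theorem stab_E' (he : IsBlk N e) (hE' : IsBlk (stab ⊤ e) E') (hne : E' * e ≠ 0) :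
    stab ⊤ E' = stab ⊤ e := by
  ext g
  constructor
  · intro hg
    by_contra h
    have h1 := E'_mul_cj he hE' hne h
    rw [mem_stab_top.mp hg, hE'.idem] at h1
    exact hE'.ne_zero h1
  · intro hg
    exact mem_stab_top.mpr (hE'.isFx g hg)

omit [IsAlgClosed k] in
theorem orb_orth (he : IsBlk N e) (hE' : IsBlk (stab ⊤ e) E') (hne : E' * e ≠ 0)
    {x y : MonoidAlgebra k G} (hx : x ∈ orb ⊤ E') (hy : y ∈ orb ⊤ E') (hxy : x ≠ y) :
    x * y = 0 := by
  obtain ⟨g, -, rfl⟩ := mem_orb.mp hx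
  obtain ⟨h, -, rfl⟩ := mem_orb.mp hy
  have h1 : g⁻¹ * h ∉ stab ⊤ e := by
    intro h0
    apply hxy
    have h2 := hE'.isFx _ h0
    rw [cj_mul_apply] at h2
    have h3 := congrArg (cj g) h2
    rw [cj_cj_inv] at h3
    exact h3.symm
  have h2 := E'_mul_cj he hE' hne h1
  have h3 := congrArg (cj g) h2
  rw [map_mul, ← cj_mul_apply, mul_inv_cancel_left, map_zero] at h3
  exact h3

omit [IsAlgClosed k] in
theorem mul_osum_FR (he : IsBlk N e) (hE' : IsBlk (stab ⊤ e) E') (hne : E' * e ≠ 0)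
    {x : MonoidAlgebra k G} (hx : x ∈ orb ⊤ E') : x * osum ⊤ E' = x := by
  classical
  unfold osum
  rw [Finset.mul_sum, Finset.sum_eq_single x]
  · obtain ⟨g, -, rfl⟩ := mem_orb.mp hx
    rw [← map_mul, hE'.idem]
  · intro y hy hyx
    exact orb_orth he hE' hne hx hy hyx.symm
  · intro h; exact absurd hx h

omit [IsAlgClosed k] in
theorem osum_mem_Zc_top (f : MonoidAlgebra k G) : osum ⊤ f ∈ Zc k (⊤ : Subgroup G) :=
  ⟨isSup_top _, isFx_osum ⊤ f⟩

omit [IsAlgClosed k] in
theorem osum_mul_e (he : IsBlk N e) (hE' : IsBlk (stab ⊤ e) E') (hne : E' * e ≠ 0) :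
    osum ⊤ E' * e = E' := by
  classical
  obtain ⟨h1, h2⟩ := e_mul_E' he hE' hne
  unfold osum
  rw [Finset.sum_mul, Finset.sum_eq_single E']
  · exact h2
  · intro y hy hyx
    obtain ⟨g, -, rfl⟩ := mem_orb.mp hy
    have hg : g ∉ stab ⊤ e := by
      intro h0
      exact hyx (hE'.isFx g h0)
    have hg' : g⁻¹ ∉ stab ⊤ e := fun h => hg ((Subgroup.inv_mem_iff _).mp h)
    have h3 : cj g e * e = 0 := by
      have h4 := mul_cj_of_notMem he hg'
      have h5 := congrArg (cj g) h4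
      rw [map_mul, cj_cj_inv, map_zero] at h5
      exact h5
    have h6 : cj g E' = cj g E' * cj g e := by rw [← map_mul, h2]
    rw [h6, mul_assoc, h3, mul_zero]
  · intro h; exact absurd (self_mem_orb ⊤ E') h

omit [IsAlgClosed k] in
theorem osum_idem_FR (he : IsBlk N e) (hE' : IsBlk (stab ⊤ e) E') (hne : E' * e ≠ 0) :
    osum ⊤ E' * osum ⊤ E' = osum ⊤ E' := by
  have h1 : osum ⊤ E' * osum ⊤ E' = ∑ x ∈ orb ⊤ E', x * osum ⊤ E' := by
    conv_lhs => rw [osum, Finset.sum_mul]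
    rfl
  rw [h1, Finset.sum_congr rfl fun x hx => mul_osum_FR he hE' hne hx]
  rfl

omit [IsAlgClosed k] in
theorem E'_mul_osum (he : IsBlk N e) (hE' : IsBlk (stab ⊤ e) E') (hne : E' * e ≠ 0) :
    E' * osum ⊤ E' = E' ∧ osum ⊤ E' * E' = E' := by
  have h1 := mul_osum_FR he hE' hne (self_mem_orb ⊤ E')
  exact ⟨h1, by rw [(Zc_commute (osum_mem_Zc_top E') (isSup_top E')).eq]; exact h1⟩

omit [IsAlgClosed k] in
/-- The Fong–Reynolds correspondent is a block. -/
theorem isBlk_osum_FR (he : IsBlk N e) (hE' : IsBlk (stab ⊤ e) E') (hne : E' * e ≠ 0) :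
    IsBlk ⊤ (osum ⊤ E') := by
  have h0 := E'_mul_osum he hE' hne
  refine ⟨osum_mem_Zc_top E', osum_idem_FR he hE' hne, ?_, ?_⟩
  · intro h
    rw [h, mul_zero] at h0
    exact hE'.ne_zero h0.1.symm
  · intro a ha haa haE
    obtain ⟨h1, h2⟩ := central_mul_e he ha
    have hac : a * e = e * a := (Zc_commute ha (isSup_top e)).eq
    have hmem : a * e ∈ Zc k (stab ⊤ e) := by
      rw [h1]; exact Subalgebra.mul_mem _ h2 (e_mem_Zc_stab he)
    have hidem : (a * e) * (a * e) = a * e := by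
      calc (a * e) * (a * e) = a * (e * a) * e := by noncomm_ring
        _ = a * (a * e) * e := by rw [hac]
        _ = (a * a) * (e * e) := by noncomm_ring
        _ = _ := by rw [haa, he.idem]
    have haE' : (a * e) * E' = a * e := by
      have h3 : a * e = a * osum ⊤ E' * e := by rw [haE]
      have h4 : a * osum ⊤ E' * e = a * E' := by
        rw [mul_assoc, osum_mul_e he hE' hne]
      rw [mul_assoc, (e_mul_E' he hE' hne).1, ← h4, ← h3]
    have hconj : ∀ x ∈ orb ⊤ E', ∃ g, cj g (a * E') = a * x := by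
      intro x hx
      obtain ⟨g, -, rfl⟩ := mem_orb.mp hx
      exact ⟨g, by rw [map_mul, ha.2 g (Subgroup.mem_top g)]⟩
    have haE'' : a * E' = a * e := by
      rw [← haE', mul_assoc, (e_mul_E' he hE' hne).1]
    rcases hE'.2.2.2 (a * e) hmem hidem haE' with h3 | h3
    · left
      rw [← haE]
      unfold osum
      rw [Finset.mul_sum]
      apply Finset.sum_eq_zero
      intro x hx
      obtain ⟨g, hg⟩ := hconj x hx
      rw [← hg, haE'', h3, map_zero]
    · right
      rw [← haE]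
      unfold osum
      rw [Finset.mul_sum]
      apply Finset.sum_congr rfl
      intro x hx
      obtain ⟨g, -, rfl⟩ := mem_orb.mp hx
      have h5 : a * cj g E' = cj g (a * E') := by rw [map_mul, ha.2 g (Subgroup.mem_top g)]
      rw [h5, haE'', h3]

/-- every block covering `e` is a Fong–Reynolds correspondent -/
theorem exists_FR {E : MonoidAlgebra k G} (he : IsBlk N e) (hE : IsBlk ⊤ E) (hne : E * e ≠ 0) :
    ∃ E' : MonoidAlgebra k G, IsBlk (stab ⊤ e) E' ∧ E' * e ≠ 0 ∧ osum ⊤ E' = E := by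
  obtain ⟨h1, h2⟩ := central_mul_e he hE.mem
  have hac : E * e = e * E := (Zc_commute hE.mem (isSup_top e)).eq
  have hmem : E * e ∈ Zc k (stab ⊤ e) := by
    rw [h1]; exact Subalgebra.mul_mem _ h2 (e_mem_Zc_stab he)
  have hidem : (E * e) * (E * e) = E * e := by
    calc (E * e) * (E * e) = E * (e * E) * e := by noncomm_ring
      _ = E * (E * e) * e := by rw [hac]
      _ = (E * E) * (e * e) := by noncomm_ring
      _ = _ := by rw [hE.idem, he.idem]
  obtain ⟨E', hE', hEE'⟩ := exists_blk_of_ne_zero hmem hidem hne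
  have h3 : e * E' = E' := by
    calc e * E' = e * ((E * e) * E') := by rw [hEE']
      _ = (e * E) * (e * E') := by noncomm_ring
      _ = (E * e) * (e * E') := by rw [hac]
      _ = (E * (e * e)) * E' := by noncomm_ring
      _ = E' := by rw [he.idem, hEE']
  have h4 : E' * e = E' := by
    rw [(Zc_commute hE'.mem (e_mem_Zc_stab he).1).eq, h3]
  have hne' : E' * e ≠ 0 := by rw [h4]; exact hE'.ne_zero
  have h5 : E * E' = E' := by
    have : (E * e) * E' = E * E' := by rw [mul_assoc, h3]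
    rw [← this]; exact hEE'
  refine ⟨E', hE', hne', ?_⟩
  by_contra hne2
  have h6 := (isBlk_osum_FR he hE' hne').mul_of_ne hE hne2
  apply hE'.ne_zero
  calc E' = E' * osum ⊤ E' * E' := by rw [(E'_mul_osum he hE' hne').1, hE'.idem]
    _ = E' * (osum ⊤ E' * (E * E')) := by rw [h5, mul_assoc]
    _ = E' * (osum ⊤ E' * E) * E' := by noncomm_ring
    _ = 0 := by rw [h6, mul_zero, zero_mul]

/-- block induction -/
theorem ind_FR (he : IsBlk N e) (hE' : IsBlk (stab ⊤ e) E') (hne : E' * e ≠ 0) :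
    Ind ⊤ (stab ⊤ e) E' (osum ⊤ E') := by
  have hE := isBlk_osum_FR he hE' hne
  obtain ⟨μ, hμ'⟩ := algHom_of_isBlk hE'
  have hμ : μ ⟨E', hE'.mem⟩ = 1 := hμ' _
  obtain ⟨ν, hν'⟩ := algHom_of_isBlk hE
  have hν : ν ⟨osum ⊤ E', hE.mem⟩ = 1 := hν' _
  rw [ind_iff' le_top hE' hE hμ hν]
  -- z E' = z_T E'
  have hzE : ∀ z ∈ Zc k (⊤ : Subgroup G), z * E' = rst (stab ⊤ e : Set G) z * E' := by
    intro z hz
    rw [← (e_mul_E' he hE' hne).1, ← mul_assoc, (central_mul_e he hz).1, mul_assoc]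
  have hmem : ∀ z ∈ Zc k (⊤ : Subgroup G), z * E' ∈ Zc k (stab ⊤ e) := by
    intro z hz
    rw [hzE z hz]
    exact Subalgebra.mul_mem _ (central_mul_e he hz).2 hE'.mem
  have hval : ∀ z : Zc k (⊤ : Subgroup G),
      μ ⟨rst (stab ⊤ e : Set G) (z : MonoidAlgebra k G), rst_mem_Zc le_top z.2⟩ =
        μ ⟨(z : MonoidAlgebra k G) * E', hmem z z.2⟩ := by
    intro z
    have h1 : (⟨(z : MonoidAlgebra k G) * E', hmem z z.2⟩ : Zc k (stab ⊤ e)) =
        ⟨rst (stab ⊤ e : Set G) (z : MonoidAlgebra k G), rst_mem_Zc le_top z.2⟩ *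
          ⟨E', hE'.mem⟩ := Subtype.ext (hzE z z.2)
    rw [h1, map_mul, hμ, mul_one]
  let ν' : Zc k (⊤ : Subgroup G) →ₐ[k] k :=
    AlgHom.ofLinearMap
      { toFun := fun z => μ ⟨(z : MonoidAlgebra k G) * E', hmem z z.2⟩
        map_add' := by
          intro x y
          rw [← map_add]
          congr 1
          apply Subtype.ext
          change ((x : MonoidAlgebra k G) + y) * E' = (x : MonoidAlgebra k G) * E' + y * E'
          rw [add_mul]
        map_smul' := by
          intro c x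
          rw [RingHom.id_apply, ← map_smul]
          congr 1
          apply Subtype.ext
          change (c • (x : MonoidAlgebra k G)) * E' = c • ((x : MonoidAlgebra k G) * E')
          rw [smul_mul_assoc] }
      (by
        change μ ⟨((1 : Zc k (⊤ : Subgroup G)) : MonoidAlgebra k G) * E', _⟩ = 1
        rw [← hμ]
        congr 1
        apply Subtype.ext
        change (1 : MonoidAlgebra k G) * E' = E'
        rw [one_mul])
      (by
        intro x y
        change μ ⟨((x * y : Zc k (⊤ : Subgroup G)) : MonoidAlgebra k G) * E', _⟩ =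
          μ ⟨(x : MonoidAlgebra k G) * E', _⟩ * μ ⟨(y : MonoidAlgebra k G) * E', _⟩
        rw [← map_mul]
        congr 1
        apply Subtype.ext
        change (x : MonoidAlgebra k G) * y * E' = (x : MonoidAlgebra k G) * E' * (y * E')
        have h1 : E' * (y : MonoidAlgebra k G) = y * E' :=
          ((Zc_commute y.2 (isSup_top E')).eq).symm
        calc (x : MonoidAlgebra k G) * y * E' = x * (y * E') := by rw [mul_assoc]
          _ = x * (E' * (y * E')) := by rw [← mul_assoc E', h1, mul_assoc (y : MonoidAlgebra k G), hE'.idem]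
          _ = _ := by noncomm_ring)
  have h1 : ν' ⟨osum ⊤ E', hE.mem⟩ = 1 := by
    change μ ⟨osum ⊤ E' * E', _⟩ = 1
    rw [← hμ]
    congr 1
    exact Subtype.ext (E'_mul_osum he hE' hne).2
  have h2 : ν' = ν := algHom_unique_of_isBlk hE h1 hν
  intro z
  rw [hval, ← h2]
  rfl

/-- uniqueness of the induced block -/
theorem ind_unique {H K : Subgroup G} (hKH : K ≤ H) {a f f' : MonoidAlgebra k G}
    (h : Ind H K a f) (h' : Ind H K a f') : f = f' := by
  obtain ⟨μ, hμ⟩ := algHom_of_isBlk h.1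
  obtain ⟨ν, hν⟩ := algHom_of_isBlk h.2.1
  obtain ⟨ν', hν'⟩ := algHom_of_isBlk h'.2.1
  have h1 := (ind_iff' hKH h.1 h.2.1 (hμ _) (hν _)).mp h
  have h2 := (ind_iff' hKH h'.1 h'.2.1 (hμ _) (hν' _)).mp h'
  by_contra hne
  have h3 := h.2.1.mul_of_ne h'.2.1 hne
  have h4 := h1 ⟨f', h'.2.1.mem⟩
  have h5 := h2 ⟨f', h'.2.1.mem⟩
  rw [h4, hν'] at h5
  have h6 : ν (⟨f, h.2.1.mem⟩ * ⟨f', h'.2.1.mem⟩) = 0 := by
    have : (⟨f, h.2.1.mem⟩ * ⟨f', h'.2.1.mem⟩ : Zc k H) = 0 := Subtype.ext h3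
    rw [this, map_zero]
  rw [map_mul, hν, h5, mul_one] at h6
  exact one_ne_zero h6

variable {p : ℕ} [Fact p.Prime] [CharP k p]

omit [IsAlgClosed k] in
theorem isDef_FR (he : IsBlk N e) (hE' : IsBlk (stab ⊤ e) E') (hne : E' * e ≠ 0)
    {D : Subgroup G} (hD : IsDef p (stab ⊤ e) E' D) : IsDef p ⊤ (osum ⊤ E') D := by
  refine ⟨le_top, hD.2.1, ?_, ?_⟩
  · intro h0
    apply hD.2.2.1
    rw [← osum_mul_e he hE' hne, br_mul hD.2.1 ((isFx_osum ⊤ E').mono le_top)
      ((isFx_stab ⊤ e).mono hD.1), h0, zero_mul]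
  · have h1 : TrI p (stab ⊤ E') D E' := by
      rw [stab_E' he hE' hne]; exact hD.trI
    exact h1.osum

end FR

end Cfsg.Agent.H26
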