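import Mathlib
import Cfsg.Agent.H26.Cover7
import Cfsg.Agent.H26.StD
import Cfsg.Agent.H11.Misc1
import Cfsg.Agent.H3.Berger1

set_option autoImplicit false

/-!
# Fong–Reynolds correspondence: characters
-/

namespace Cfsg.Agent.H26

open MonoidAlgebra MulAction Cfsg Cfsg.Agent.H11 Cfsg.Agent.H3

universe u

section Sub

variable {M : Ideal AlgInt} [hM : M.IsPrime] {G : Type u} [Group G] [Finite G]

/-- `K` inside `T` -/
noncomputable def subE {K T : Subgroup G} (hKT : K ≤ T) : K ≃* K.subgroupOf T :=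
  (Subgroup.subgroupOfEquivOfLe hKT).symm

omit [Finite G] in
theorem subE_coe {K T : Subgroup G} (hKT : K ≤ T) (x : K) :
    ((subE hKT x : K.subgroupOf T) : T) = ⟨(x : G), hKT x.2⟩ := by
  have h := (Subgroup.subgroupOfEquivOfLe hKT).apply_symm_apply x
  have h2 : (((subE hKT x : K.subgroupOf T) : T) : G) = (x : G) := congrArg Subtype.val h
  exact Subtype.ext h2

theorem up_EH_sub {K T : Subgroup G} (hKT : K ≤ T) (b : Set (IrrCharacter K)) :
    up (EH M (K.subgroupOf T) (irrMap (subE hKT) '' b)) = EH M K b := by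
  have h1 : EH M (K.subgroupOf T) (irrMap (subE hKT) '' b) =
      Eb M ((subE hKT).trans (MulEquiv.refl (K.subgroupOf T))) b :=
    Eb_irrMap (M := M) (subE hKT) (MulEquiv.refl (K.subgroupOf T)) b
  rw [h1]
  ext g
  by_cases hgT : g ∈ T
  · have h2 : (up (Eb M ((subE hKT).trans (MulEquiv.refl (K.subgroupOf T))) b)).coeff g =
        (Eb M ((subE hKT).trans (MulEquiv.refl (K.subgroupOf T))) b).coeff ⟨g, hgT⟩ :=
      coeff_up _ ⟨g, hgT⟩
    rw [h2]
    by_cases hgK : g ∈ K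
    · have h3 := coeff_upf (M := M) ((subE hKT).trans (MulEquiv.refl (K.subgroupOf T)))
        (blockCoeff b) ⟨g, hgK⟩
      have h4 : ((((subE hKT).trans (MulEquiv.refl (K.subgroupOf T))) ⟨g, hgK⟩ :
          K.subgroupOf T) : T) = ⟨g, hgT⟩ := subE_coe hKT ⟨g, hgK⟩
      rw [h4] at h3
      have h5 := coeff_upf (M := M) (MulEquiv.refl K) (blockCoeff b) ⟨g, hgK⟩
      exact h3.trans h5.symm
    · have h3 := coeff_upf_of_notMem (M := M) ((subE hKT).trans (MulEquiv.refl (K.subgroupOf T)))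
        (blockCoeff b) (g := ⟨g, hgT⟩) (fun h => hgK h)
      have h5 := coeff_upf_of_notMem (M := M) (MulEquiv.refl K) (blockCoeff b) hgK
      exact h3.trans h5.symm
  · rw [coeff_up_of_notMem _ hgT]
    have hgK : g ∉ K := fun h => hgT (hKT h)
    have h5 := coeff_upf_of_notMem (M := M) (MulEquiv.refl K) (blockCoeff b) hgK
    exact h5.symm

omit [Finite G] in
theorem classInner_sub {K T : Subgroup G} (hKT : K ≤ T) [Fintype K] [Fintype (K.subgroupOf T)]
    (ψ : T → ℂ) (θ : IrrCharacter K) :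
    classInner (fun n : K.subgroupOf T => ψ n) (irrMap (subE hKT) θ : K.subgroupOf T → ℂ) =
      classInner (fun n : K => ψ ⟨(n : G), hKT n.2⟩) (θ : K → ℂ) := by
  rw [← classInner_comp_equiv (subE hKT)]
  have h1 : (fun x : K => ψ ((subE hKT x : K.subgroupOf T) : T)) =
      fun n : K => ψ ⟨(n : G), hKT n.2⟩ := by
    funext n
    rw [subE_coe]
  have h2 : (fun x : K => (irrMap (subE hKT) θ : K.subgroupOf T → ℂ) (subE hKT x)) =
      (θ : K → ℂ) := by
    funext n
    exact irrMap_apply' (subE hKT) θ n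
  rw [h1, h2]

/-- covering inside a subgroup -/
theorem cov_sub_iff {K T : Subgroup G} (hKT : K ≤ T) (hn : (K.subgroupOf T).Normal) [Fintype K]
    {B' : Set (IrrCharacter T)} (hB' : IsPBlock M B') {b : Set (IrrCharacter K)}
    (hb : IsPBlock M b) :
    (∃ ψ ∈ B', ∃ θ ∈ b, classInner (fun n : K => (ψ : T → ℂ) ⟨(n : G), hKT n.2⟩) (θ : K → ℂ) ≠ 0)
      ↔ EH M T B' * EH M K b ≠ 0 := by
  classical
  have := Fintype.ofFinite (K.subgroupOf T)
  have h1 := covB_iff (N := K.subgroupOf T) hB' (isPBlock_irrMap (subE hKT) hb)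
  have h2 : CovB B' (irrMap (subE hKT) '' b) ↔ (∃ ψ ∈ B', ∃ θ ∈ b,
      classInner (fun n : K => (ψ : T → ℂ) ⟨(n : G), hKT n.2⟩) (θ : K → ℂ) ≠ 0) := by
    constructor
    · rintro ⟨ψ, hψ, _, ⟨θ, hθ, rfl⟩, h⟩
      refine ⟨ψ, hψ, θ, hθ, ?_⟩
      rw [← classInner_sub hKT]
      exact h
    · rintro ⟨ψ, hψ, θ, hθ, h⟩
      refine ⟨ψ, hψ, _, ⟨θ, hθ, rfl⟩, ?_⟩
      rw [classInner_sub hKT]
      exact h
  rw [← h2, h1, ← up_EH_sub (M := M) hKT b, ← up_EG B', ← up_mul, ne_eq, ne_eq, up_eq_zero]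

/-- constituents in a stable covered block -/
theorem mem_of_inner_sub {K T : Subgroup G} (hKT : K ≤ T) (hn : (K.subgroupOf T).Normal)
    [Fintype K] {B' : Set (IrrCharacter T)} (hB' : IsPBlock M B') {b : Set (IrrCharacter K)}
    (hb : IsPBlock M b) (hmul : EH M T B' * EH M K b = EH M T B') {ψ : IrrCharacter T}
    (hψ : ψ ∈ B') {θ : IrrCharacter K}
    (h : classInner (fun n : K => (ψ : T → ℂ) ⟨(n : G), hKT n.2⟩) (θ : K → ℂ) ≠ 0) : θ ∈ b := by
  classical
  have := Fintype.ofFinite (K.subgroupOf T)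
  have := Fintype.ofFinite G
  -- the block of θ
  obtain ⟨b', hb', hθb'⟩ : ∃ b' : Set (IrrCharacter K), IsPBlock M b' ∧ θ ∈ b' :=
    ⟨blockOf M (θ : K → ℂ), ⟨θ, rfl⟩, mem_blockOf_self θ⟩
  have h1 := (cov_sub_iff hKT hn hB' hb').mp ⟨ψ, hψ, θ, hθb', h⟩
  by_contra hne
  have h2 : EH M K b ≠ EH M K b' := by
    intro h0
    apply hne
    rw [EH_injective hb hb' h0]
    exact hθb'
  have h3 := (isBlk_EH hb).mul_of_ne (isBlk_EH hb') h2
  apply h1
  rw [← hmul, mul_assoc, h3, mul_zero]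

end Sub

section Cliff

variable {G : Type u} [Group G] [Fintype G]

/-- induction from a subgroup containing the inertia group -/
theorem ind_eq_of_inertia_le {N T : Subgroup G} (hN : N.Normal) (hNT : N ≤ T) [Fintype N]
    [Fintype T] {θ : IrrCharacter N} (hI : inertia hN (θ : N → ℂ) ≤ T) {ψ : IrrCharacter T}
    (hψ : classInner (fun n : N => (ψ : T → ℂ) ⟨(n : G), hNT n.2⟩) (θ : N → ℂ) ≠ 0)
    {χ : IrrCharacter G} (hχ : classInner (fun t : T => (χ : G → ℂ) t) (ψ : T → ℂ) ≠ 0) :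
    indFun T (ψ : T → ℂ) = (χ : G → ℂ) := by
  classical
  have := Fintype.ofFinite (N.subgroupOf T)
  have hN' : (N.subgroupOf T).Normal := hN.subgroupOf T
  -- multiplicities
  obtain ⟨eψ, heψ⟩ := classInner_char_nat
    (isChar_restrict (N.subgroupOf T) (irr_isChar ψ.2)) (irr_isChar (irrMap (subE hNT) θ).2)
  have hsub := classInner_sub hNT (ψ : T → ℂ) θ
  have h1 : classInner (fun n : N => (ψ : T → ℂ) ⟨(n : G), hNT n.2⟩) (θ : N → ℂ) = eψ := by
    rw [← hsub]; exact heψ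
  -- χ|_T - ψ is a character
  have hrest := isChar_restrict T (irr_isChar χ.2)
  have hsubc := isChar_sub_irr hrest ψ.2 hχ
  obtain ⟨m, hm⟩ := classInner_char_nat (isChar_restrict (N.subgroupOf T) hsubc)
    (irr_isChar (irrMap (subE hNT) θ).2)
  have hm' : classInner (fun n : N => (χ : G → ℂ) n - (ψ : T → ℂ) ⟨(n : G), hNT n.2⟩)
      (θ : N → ℂ) = m := by
    rw [← hm]
    exact (classInner_sub hNT (fun t : T => (χ : G → ℂ) t - (ψ : T → ℂ) t) θ).symm
  have h2 : classInner (fun n : N => (χ : G → ℂ) n) (θ : N → ℂ) = ((eψ + m : ℕ) : ℂ) := by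
    have h3 := classInner_sub_left (fun n : N => (χ : G → ℂ) n)
      (fun n : N => (ψ : T → ℂ) ⟨(n : G), hNT n.2⟩) (θ : N → ℂ)
    have h4 : classInner ((fun n : N => (χ : G → ℂ) n) -
      (fun n : N => (ψ : T → ℂ) ⟨(n : G), hNT n.2⟩)) (θ : N → ℂ) = m := hm'
    rw [h4, h1] at h3
    push_cast
    linear_combination -h3
  have heψ0 : eψ ≠ 0 := by
    rintro rfl
    exact hψ (by rw [h1, Nat.cast_zero])
  have hχN : classInner (fun n : N => (χ : G → ℂ) n) (θ : N → ℂ) ≠ 0 := by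
    rw [h2]
    exact_mod_cast (by omega : eψ + m ≠ 0)
  have hd1 := clifford_degree hN χ.2 θ.2 hχN
  have hd2 := clifford_degree hN' ψ.2 (irrMap (subE hNT) θ).2 (by rw [hsub]; exact hψ)
  rw [hsub, h1] at hd2
  rw [h2] at hd1
  have hθ1 : (irrMap (subE hNT) θ : N.subgroupOf T → ℂ) 1 = (θ : N → ℂ) 1 := by
    have := irrMap_apply' (subE hNT) θ 1
    rw [map_one] at this
    exact this
  rw [hθ1] at hd2
  -- index of the inertia group
  have hin : inertia hN' (irrMap (subE hNT) θ : N.subgroupOf T → ℂ) =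
      (inertia hN (θ : N → ℂ)).subgroupOf T := by
    ext t
    rw [Subgroup.mem_subgroupOf, mem_inertia', mem_inertia']
    have key : ∀ n : N, (irrMap (subE hNT) θ : N.subgroupOf T → ℂ)
        ⟨t * (subE hNT n : N.subgroupOf T) * t⁻¹, hN'.conj_mem _ (subE hNT n).2 t⟩ =
        (θ : N → ℂ) ⟨(t : G) * n * (t : G)⁻¹, hN.conj_mem n n.2 t⟩ := by
      intro n
      have h5 : (⟨t * (subE hNT n : N.subgroupOf T) * t⁻¹, hN'.conj_mem _ (subE hNT n).2 t⟩ :
          N.subgroupOf T) = subE hNT ⟨(t : G) * n * (t : G)⁻¹, hN.conj_mem n n.2 t⟩ := by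
        refine Subtype.ext (Eq.trans ?_ (subE_coe hNT _).symm)
        apply Subtype.ext
        change (t : G) * (((subE hNT n : N.subgroupOf T) : T) : G) * (t : G)⁻¹ =
          (t : G) * n * (t : G)⁻¹
        rw [subE_coe]
      rw [h5, irrMap_apply']
    constructor
    · intro h n
      rw [← key n]
      have := h (subE hNT n)
      rw [this, irrMap_apply']
    · intro h n
      obtain ⟨n', rfl⟩ := (subE hNT).surjective n
      rw [key n', h n', irrMap_apply']
  rw [hin] at hd2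
  have hidx : ((inertia hN (θ : N → ℂ)).subgroupOf T).index * T.index =
      (inertia hN (θ : N → ℂ)).index := Subgroup.relIndex_mul_index hI
  -- compare degrees
  obtain ⟨dχ, -⟩ := charDegree_spec χ.2
  obtain ⟨dψ, -⟩ := charDegree_spec ψ.2
  obtain ⟨dθ, dθ0⟩ := charDegree_spec θ.2
  have hone : indFun T (ψ : T → ℂ) 1 = ((T.index * charDegree (ψ : T → ℂ) : ℕ) : ℂ) := by
    rw [indFun_one_apply, dψ]
    push_cast
    rfl
  have hne : classInner (indFun T (ψ : T → ℂ)) (χ : G → ℂ) ≠ 0 := by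
    rw [frobenius_reciprocity T _ (irr_classFun χ.2)]
    exact classInner_ne_zero_symm hχ
  have hle := char_degree_le_of_inner_ne_zero (isChar_ind T (irr_isChar ψ.2)) χ.2 hne hone dχ
  rw [dχ, dθ] at hd1
  rw [dψ, dθ] at hd2
  have hd1' : charDegree (χ : G → ℂ) = (eψ + m) * (inertia hN (θ : N → ℂ)).index *
      charDegree (θ : N → ℂ) := by exact_mod_cast hd1
  have hd2' : charDegree (ψ : T → ℂ) = eψ * ((inertia hN (θ : N → ℂ)).subgroupOf T).index *
      charDegree (θ : N → ℂ) := by exact_mod_cast hd2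
  have hge : T.index * charDegree (ψ : T → ℂ) ≤ charDegree (χ : G → ℂ) := by
    rw [hd1', hd2', ← hidx]
    have : T.index * (eψ * ((inertia hN (θ : N → ℂ)).subgroupOf T).index *
      charDegree (θ : N → ℂ)) = eψ * (((inertia hN (θ : N → ℂ)).subgroupOf T).index * T.index) *
        charDegree (θ : N → ℂ) := by ring
    rw [this]
    exact Nat.mul_le_mul_right _ (Nat.mul_le_mul_right _ (Nat.le_add_right _ _))
  apply char_eq_of_degree (isChar_ind T (irr_isChar ψ.2)) χ.2 hne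
  rw [hone, dχ, le_antisymm hge hle]

end Cliff

end Cfsg.Agent.H26
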