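import Mathlib
import Cfsg.Agent.H26.Cover8

set_option autoImplicit false

/-!
# Fong–Reynolds correspondence: statements
-/

namespace Cfsg.Agent.H26

open MonoidAlgebra MulAction Cfsg Cfsg.Agent.H11 Cfsg.Agent.H3

universe u

section Dict

variable {M : Ideal AlgInt} [hM : M.IsPrime] {G : Type u} [Group G] [Finite G]
  {N : Subgroup G} [hN : N.Normal]

omit [Finite G] in
theorem eq_irrMap_of_conj {θ θ' : IrrCharacter N} {g : G}
    (h : ∀ n : N, (θ' : N → ℂ) n = (θ : N → ℂ) ⟨g * n * g⁻¹, hN.conj_mem n n.2 g⟩) :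
    θ' = irrMap (normConj N (mem_nz_normal g⁻¹)) θ := by
  apply Subtype.ext
  funext n
  rw [irrMap_apply, h n]
  have h6 : (normConj N (mem_nz_normal g⁻¹)).symm n =
      ⟨g * (n : G) * g⁻¹, hN.conj_mem n n.2 g⟩ := by
    rw [MulEquiv.symm_apply_eq]
    apply Subtype.ext
    rw [normConj_coe]
    change (n : G) = g⁻¹ * (g * n * g⁻¹) * g⁻¹⁻¹
    group
  rw [h6]

theorem irrMap_mem_iff {b : Set (IrrCharacter N)} (hb : IsPBlock M b) {g : G}
    {θ : IrrCharacter N} (hθ : θ ∈ b) :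
    irrMap (normConj N (mem_nz_normal g)) θ ∈ b ↔ cj g (EH M N b) = EH M N b := by
  constructor
  · intro h
    exact cj_EH_eq_of_mem hb (mem_nz_normal g) hθ h
  · intro h
    have h4 := Eb_normConj (M := M) (mem_nz_normal (N := N) g) b
    have h5 : irrMap (normConj N (mem_nz_normal g)) '' b = b := by
      apply EH_injective (M := M) (isPBlock_irrMap _ hb) hb
      exact h4.trans h
    rw [← h5]
    exact ⟨θ, hθ, rfl⟩

/-- the stabilizer of a block -/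
theorem stab_eq {b : Set (IrrCharacter N)} (hb : IsPBlock M b) {T : Subgroup G}
    (hT : ∀ g : G, g ∈ T ↔ ∀ θ ∈ b, ∀ θ' : IrrCharacter N,
      (∀ n : N, (θ' : N → ℂ) n = (θ : N → ℂ) ⟨g * n * g⁻¹, hN.conj_mem n n.2 g⟩) → θ' ∈ b) :
    T = stab ⊤ (EH M N b) := by
  ext g
  rw [hT, mem_stab_top]
  constructor
  · intro h
    obtain ⟨θ, hθ⟩ := exists_mem_block hb
    have h1 : irrMap (normConj N (mem_nz_normal g⁻¹)) θ ∈ b := by
      apply h θ hθ
      intro n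
      rw [irrMap_apply]
      have h6 : (normConj N (mem_nz_normal g⁻¹)).symm n =
          ⟨g * (n : G) * g⁻¹, hN.conj_mem n n.2 g⟩ := by
        rw [MulEquiv.symm_apply_eq]
        apply Subtype.ext
        rw [normConj_coe]
        change (n : G) = g⁻¹ * (g * n * g⁻¹) * g⁻¹⁻¹
        group
      rw [h6]
    have h2 := (irrMap_mem_iff hb hθ).mp h1
    have h3 := congrArg (cj g) h2
    rw [cj_cj_inv] at h3
    exact h3.symm
  · intro h θ hθ θ' hθ'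
    rw [eq_irrMap_of_conj hθ', irrMap_mem_iff hb hθ]
    have h3 := congrArg (cj g⁻¹) h
    rw [cj_inv_cj] at h3
    exact h3.symm

theorem inertia_le_stab {b : Set (IrrCharacter N)} (hb : IsPBlock M b) {θ : IrrCharacter N}
    (hθ : θ ∈ b) : inertia hN (θ : N → ℂ) ≤ stab ⊤ (EH M N b) := by
  intro x hx
  rw [mem_stab_top, ← irrMap_mem_iff hb hθ]
  have h5 : irrMap (normConj N (mem_nz_normal x)) θ = θ := by
    apply Subtype.ext
    funext n
    rw [irrMap_apply]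
    have h6 := (mem_inertia' hN (θ : N → ℂ) x).mp hx ((normConj N (mem_nz_normal x)).symm n)
    have h7 : normConj N (mem_nz_normal x) ((normConj N (mem_nz_normal x)).symm n) = n :=
      MulEquiv.apply_symm_apply _ _
    have h8 := congrArg Subtype.val h7
    rw [normConj_coe] at h8
    rw [← h6]
    exact congrArg (θ : N → ℂ) (Subtype.ext h8)
  rw [h5]; exact hθ

variable {b : Set (IrrCharacter N)} {B' : Set (IrrCharacter (stab ⊤ (EH M N b)))}

theorem FR_block (hb : IsPBlock M b) (hB' : IsPBlock M B')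
    (hne : EH M (stab ⊤ (EH M N b)) B' * EH M N b ≠ 0) :
    ∃ B : Set (IrrCharacter G), IsPBlock M B ∧
      EG M B = osum ⊤ (EH M (stab ⊤ (EH M N b)) B') ∧
      IsInducedBlock M (stab ⊤ (EH M N b)) B' B ∧ EG M B * EH M N b ≠ 0 := by
  have hbe := isBlk_EH hb
  have hE' := isBlk_EH hB'
  obtain ⟨B, hB, hBE⟩ := exists_EG (isBlk_osum_FR hbe hE' hne)
  refine ⟨B, hB, hBE, ?_, ?_⟩
  · rw [isInducedBlock_iff]
    exact ⟨hB', hB, by rw [hBE]; exact ind_FR hbe hE' hne⟩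
  · rw [hBE, osum_mul_e hbe hE' hne]
    exact hE'.ne_zero

theorem FR_ind_eq (hb : IsPBlock M b) (hB' : IsPBlock M B')
    (hne : EH M (stab ⊤ (EH M N b)) B' * EH M N b ≠ 0)
    {B : Set (IrrCharacter G)} (hind : IsInducedBlock M (stab ⊤ (EH M N b)) B' B) :
    EG M B = osum ⊤ (EH M (stab ⊤ (EH M N b)) B') := by
  obtain ⟨B₀, hB₀, hE₀, hind₀, -⟩ := FR_block hb hB' hne
  rw [isInducedBlock_iff] at hind hind₀
  rw [← hE₀]
  exact ind_unique le_top hind.2.2 hind₀.2.2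

theorem ind_mem_of_induced [Fintype G] {H : Subgroup G} {b : Set (IrrCharacter H)}
    {B : Set (IrrCharacter G)} (hind : IsInducedBlock M H b B) {ψ : IrrCharacter H}
    (hψ : ψ ∈ b) {χ : IrrCharacter G} (hχ : (χ : G → ℂ) = indFun H (ψ : H → ℂ)) : χ ∈ B := by
  obtain ⟨χ', hχ'⟩ := exists_mem_block hind.2.1
  rw [mem_isPBlock_iff hind.2.1 hχ']
  intro g
  have h1 := hind.2.2 ψ hψ χ' hχ' g
  rw [inducedCentralChar_eq, ← hχ] at h1
  exact li_sub_comm.mp h1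

theorem FR_ind [Fintype G] [hfT : Fintype (stab ⊤ (EH M N b))] (hb : IsPBlock M b) (hB' : IsPBlock M B')
    (hne : EH M (stab ⊤ (EH M N b)) B' * EH M N b ≠ 0)
    {ψ : IrrCharacter (stab ⊤ (EH M N b))} (hψ : ψ ∈ B')
    {χ : IrrCharacter G} (hχ : classInner (fun t : stab ⊤ (EH M N b) => (χ : G → ℂ) t)
      (ψ : stab ⊤ (EH M N b) → ℂ) ≠ 0) :
    indFun (stab ⊤ (EH M N b)) (ψ : stab ⊤ (EH M N b) → ℂ) = (χ : G → ℂ) := by
  classical
  have := Fintype.ofFinite N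
  have hbe := isBlk_EH hb
  have hE' := isBlk_EH hB'
  have hNT : N ≤ stab ⊤ (EH M N b) := le_stab_top hbe
  have hn : (N.subgroupOf (stab ⊤ (EH M N b))).Normal := hN.subgroupOf _
  have hfin : Fintype (N.subgroupOf (stab ⊤ (EH M N b))) := Fintype.ofFinite _
  obtain ⟨θ', hθ'⟩ := exists_constituent_restrict (N := N.subgroupOf (stab ⊤ (EH M N b))) ψ
  obtain ⟨θ, rfl⟩ := (irrMap (subE hNT)).surjective θ'
  rw [classInner_sub hNT] at hθ'
  have hθb : θ ∈ b := mem_of_inner_sub hNT hn hB' hb (e_mul_E' hbe hE' hne).2 hψ hθ'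
  exact ind_eq_of_inertia_le hN hNT (inertia_le_stab hb hθb) hθ' hχ

theorem FR_surj [Fintype G] (hb : IsPBlock M b) (hB' : IsPBlock M B')
    (hne : EH M (stab ⊤ (EH M N b)) B' * EH M N b ≠ 0)
    {B : Set (IrrCharacter G)} (hB : IsPBlock M B)
    (hE : EG M B = osum ⊤ (EH M (stab ⊤ (EH M N b)) B'))
    {χ : IrrCharacter G} (hχ : χ ∈ B) :
    ∃ ψ ∈ B', (χ : G → ℂ) = indFun (stab ⊤ (EH M N b)) (ψ : stab ⊤ (EH M N b) → ℂ) := by
  classical
  have := Fintype.ofFinite N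
  have hbe := isBlk_EH hb
  have hE' := isBlk_EH hB'
  have hNT : N ≤ stab ⊤ (EH M N b) := le_stab_top hbe
  have hn : (N.subgroupOf (stab ⊤ (EH M N b))).Normal := hN.subgroupOf _
  have hfin : Fintype (N.subgroupOf (stab ⊤ (EH M N b))) := Fintype.ofFinite _
  have hfT : Fintype (stab ⊤ (EH M N b)) := Fintype.ofFinite _
  have hcov : EG M B * EH M N b ≠ 0 := by
    rw [hE, osum_mul_e hbe hE' hne]; exact hE'.ne_zero
  -- a constituent in b
  obtain ⟨θ, hθb, hθ⟩ : ∃ θ ∈ b, classInner (fun n : N => (χ : G → ℂ) n) (θ : N → ℂ) ≠ 0 := by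
    obtain ⟨ψ, hψ⟩ := exists_constituent_restrict (N := N) χ
    obtain ⟨g, θ, hθ, h1⟩ := exists_inner_of_cov hB hb hcov hχ hψ
    exact ⟨θ, hθ, by rw [← inner_conj χ θ ψ g h1]; exact hψ⟩
  -- a constituent of the restriction to T over θ
  have hrest := isChar_restrict (stab ⊤ (EH M N b)) (irr_isChar χ.2)
  obtain ⟨ψ, hψχ, hψθ⟩ : ∃ ψ : IrrCharacter (stab ⊤ (EH M N b)),
      classInner (fun t : stab ⊤ (EH M N b) => (χ : G → ℂ) t) (ψ : _ → ℂ) ≠ 0 ∧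
      classInner (fun n : N => (ψ : stab ⊤ (EH M N b) → ℂ) ⟨(n : G), hNT n.2⟩) (θ : N → ℂ) ≠ 0 := by
    have : Fintype (IrrCharacter (stab ⊤ (EH M N b))) := Fintype.ofFinite _
    have hexp := classFun_expand_apply (char_classFun hrest)
    obtain ⟨c, hc⟩ : ∃ c : IrrCharacter (stab ⊤ (EH M N b)) → ℂ, ∀ ψ, c ψ =
        classInner (fun t : stab ⊤ (EH M N b) => (χ : G → ℂ) t) (ψ : _ → ℂ) := ⟨_, fun _ => rfl⟩
    have h3 : (fun n : N => (χ : G → ℂ) n) = fun n : N =>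
        ∑ ψ : IrrCharacter (stab ⊤ (EH M N b)),
        c ψ * (ψ : stab ⊤ (EH M N b) → ℂ) ⟨(n : G), hNT n.2⟩ := by
      funext n
      rw [Finset.sum_congr rfl (fun ψ _ => by rw [hc ψ])]
      exact hexp ⟨(n : G), hNT n.2⟩
    have h2 : classInner (fun n : N => (χ : G → ℂ) n) (θ : N → ℂ) =
        ∑ ψ : IrrCharacter (stab ⊤ (EH M N b)),
          c ψ * classInner (fun n : N => (ψ : stab ⊤ (EH M N b) → ℂ) ⟨(n : G), hNT n.2⟩)
            (θ : N → ℂ) := by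
      rw [h3]
      unfold classInner
      simp only [Finset.sum_mul]
      rw [Finset.sum_comm, Finset.mul_sum]
      apply Finset.sum_congr rfl
      intro ψ _
      rw [Finset.mul_sum, Finset.mul_sum, Finset.mul_sum]
      apply Finset.sum_congr rfl
      intro n _
      ring
    simp only [hc] at h2
    rw [h2] at hθ
    obtain ⟨ψ, -, hψ⟩ := Finset.exists_ne_zero_of_sum_ne_zero hθ
    exact ⟨ψ, left_ne_zero_of_mul hψ, right_ne_zero_of_mul hψ⟩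
  -- the block of ψ
  obtain ⟨B'', hB'', hψB''⟩ : ∃ B'' : Set (IrrCharacter (stab ⊤ (EH M N b))),
      IsPBlock M B'' ∧ ψ ∈ B'' := ⟨blockOf M (ψ : _ → ℂ), ⟨ψ, rfl⟩, mem_blockOf_self ψ⟩
  have hne'' := (cov_sub_iff hNT hn hB'' hb).mp ⟨ψ, hψB'', θ, hθb, hψθ⟩
  have hindψ := FR_ind hb hB'' hne'' hψB'' hψχ
  obtain ⟨B₀, hB₀, hE₀, hind₀, -⟩ := FR_block hb hB'' hne''
  have hχB₀ := ind_mem_of_induced hind₀ hψB'' hindψ.symm
  have hBB : B = B₀ := by
    rw [isPBlock_eq_blockOf hB hχ, isPBlock_eq_blockOf hB₀ hχB₀]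
  have h3 : EH M (stab ⊤ (EH M N b)) B'' = EH M (stab ⊤ (EH M N b)) B' := by
    rw [← osum_mul_e hbe (isBlk_EH hB'') hne'', ← hE₀, ← hBB, hE, osum_mul_e hbe hE' hne]
  rw [EH_injective hB'' hB' h3] at hψB''
  exact ⟨ψ, hψB'', hindψ.symm⟩

end Dict

section St

variable {G : Type u} [Group G] [Fintype G]

theorem st4435 (p : ℕ) [Fact p.Prime] (M : Ideal AlgInt) (hM : IsPModular p M) (N : Subgroup G)
    [hN : N.Normal] [Fintype N] (b : Set (IrrCharacter N)) (hb : IsPBlock M b) (T : Subgroup G)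
    [Fintype T] (hT : ∀ g : G, g ∈ T ↔ ∀ θ ∈ b, ∀ θ' : IrrCharacter N,
      (∀ n : N, (θ' : N → ℂ) n = (θ : N → ℂ) ⟨g * n * g⁻¹, hN.conj_mem n n.2 g⟩) → θ' ∈ b)
    (hNT : N ≤ T) :
    (∀ B' : Set (IrrCharacter T), IsPBlock M B' →
      (∃ ψ ∈ B', ∃ θ ∈ b, classInner (fun n : N => (ψ : T → ℂ) ⟨(n : G), hNT n.2⟩)
        (θ : N → ℂ) ≠ 0) →
      ∃ B : Set (IrrCharacter G), IsInducedBlock M T B' B ∧
        (∃ χ ∈ B, ∃ θ ∈ b, classInner (fun n : N => (χ : G → ℂ) n) (θ : N → ℂ) ≠ 0) ∧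
        (∀ ψ ∈ B', IsIrrCharacter G (indFun T (ψ : T → ℂ))) ∧
        ∀ χ : IrrCharacter G, χ ∈ B ↔ ∃ ψ ∈ B', (χ : G → ℂ) = indFun T (ψ : T → ℂ)) ∧
    (∀ B'₁ B'₂ : Set (IrrCharacter T), IsPBlock M B'₁ → IsPBlock M B'₂ →
      (∃ ψ ∈ B'₁, ∃ θ ∈ b, classInner (fun n : N => (ψ : T → ℂ) ⟨(n : G), hNT n.2⟩)
        (θ : N → ℂ) ≠ 0) →
      (∃ ψ ∈ B'₂, ∃ θ ∈ b, classInner (fun n : N => (ψ : T → ℂ) ⟨(n : G), hNT n.2⟩)
        (θ : N → ℂ) ≠ 0) →
      ∀ B : Set (IrrCharacter G), IsInducedBlock M T B'₁ B → IsInducedBlock M T B'₂ B →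
        B'₁ = B'₂) ∧
    (∀ B : Set (IrrCharacter G), IsPBlock M B →
      (∃ χ ∈ B, ∃ θ ∈ b, classInner (fun n : N => (χ : G → ℂ) n) (θ : N → ℂ) ≠ 0) →
      ∃ B' : Set (IrrCharacter T), IsPBlock M B' ∧
        (∃ ψ ∈ B', ∃ θ ∈ b, classInner (fun n : N => (ψ : T → ℂ) ⟨(n : G), hNT n.2⟩)
          (θ : N → ℂ) ≠ 0) ∧ IsInducedBlock M T B' B) := by
  have hpr : M.IsPrime := hM.2.1.isPrime
  obtain rfl := stab_eq (M := M) hb hT
  have hbe := isBlk_EH hb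
  have hn : (N.subgroupOf (stab ⊤ (EH M N b))).Normal := hN.subgroupOf _
  refine ⟨?_, ?_, ?_⟩
  · intro B' hB' hcov
    have hne := (cov_sub_iff hNT hn hB' hb).mp hcov
    obtain ⟨B, hB, hE, hind, hcovB⟩ := FR_block hb hB' hne
    have hirr : ∀ ψ ∈ B', ∃ χ : IrrCharacter G, (χ : G → ℂ) =
        indFun (stab ⊤ (EH M N b)) (ψ : stab ⊤ (EH M N b) → ℂ) := by
      intro ψ hψ
      obtain ⟨χ, hχ⟩ := exists_over (stab ⊤ (EH M N b)) ψ
      refine ⟨χ, ?_⟩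
      have := FR_ind hb hB' hne hψ (χ := χ) (by convert hχ)
      exact this.symm
    refine ⟨B, hind, (covB_iff hB hb).mpr hcovB, ?_, ?_⟩
    · intro ψ hψ
      obtain ⟨χ, hχ⟩ := hirr ψ hψ
      rw [← hχ]; exact χ.2
    · intro χ
      constructor
      · intro hχ
        exact FR_surj hb hB' hne hB hE hχ
      · rintro ⟨ψ, hψ, hχ⟩
        exact ind_mem_of_induced hind hψ hχ
  · intro B'₁ B'₂ hB₁ hB₂ hc₁ hc₂ B h₁ h₂
    have hne₁ := (cov_sub_iff hNT hn hB₁ hb).mp hc₁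
    have hne₂ := (cov_sub_iff hNT hn hB₂ hb).mp hc₂
    have e₁ := FR_ind_eq hb hB₁ hne₁ h₁
    have e₂ := FR_ind_eq hb hB₂ hne₂ h₂
    apply EH_injective hB₁ hB₂ (M := M)
    rw [← osum_mul_e hbe (isBlk_EH hB₁) hne₁, ← e₁, e₂, osum_mul_e hbe (isBlk_EH hB₂) hne₂]
  · intro B hB hcov
    have hne := (covB_iff hB hb).mp hcov
    obtain ⟨E', hE', hne', hosum⟩ := exists_FR hbe (isBlk_EG hB) hne
    obtain ⟨B', hB', rfl⟩ := exists_EH hE'
    refine ⟨B', hB', (cov_sub_iff hNT hn hB' hb).mpr hne', ?_⟩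
    rw [isInducedBlock_iff]
    exact ⟨hB', hB, by rw [← hosum]; exact ind_FR hbe hE' hne'⟩

theorem st4436 (p : ℕ) [Fact p.Prime] (M : Ideal AlgInt) (hM : IsPModular p M) (N : Subgroup G)
    [hN : N.Normal] [Fintype N] (b : Set (IrrCharacter N)) (hb : IsPBlock M b) (T : Subgroup G)
    [Fintype T] (hT : ∀ g : G, g ∈ T ↔ ∀ θ ∈ b, ∀ θ' : IrrCharacter N,
      (∀ n : N, (θ' : N → ℂ) n = (θ : N → ℂ) ⟨g * n * g⁻¹, hN.conj_mem n n.2 g⟩) → θ' ∈ b)
    (hNT : N ≤ T) (B' : Set (IrrCharacter T)) (hB' : IsPBlock M B')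
    (hcov : (∃ ψ ∈ B', ∃ θ ∈ b, classInner (fun n : N => (ψ : T → ℂ) ⟨(n : G), hNT n.2⟩)
      (θ : N → ℂ) ≠ 0))
    (B : Set (IrrCharacter G)) (hind : IsInducedBlock M T B' B) :
    (∀ D : Subgroup T, IsDefectGroup p M B' D → IsDefectGroup p M B (D.map T.subtype)) ∧
    ∀ ψ ∈ B', ∃ χ ∈ B, (χ : G → ℂ) = indFun T (ψ : T → ℂ) ∧
      blockHeight p B (χ : G → ℂ) = blockHeight p B' (ψ : T → ℂ) := by
  have hpr : M.IsPrime := hM.2.1.isPrime
  have : CharP (KF M) p := charP_KF hM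
  obtain rfl := stab_eq (M := M) hb hT
  have hbe := isBlk_EH hb
  have hn : (N.subgroupOf (stab ⊤ (EH M N b))).Normal := hN.subgroupOf _
  have hne := (cov_sub_iff hNT hn hB' hb).mp hcov
  have hE := FR_ind_eq hb hB' hne hind
  have hB := hind.2.1
  have hdef : ∀ D : Subgroup (stab ⊤ (EH M N b)), IsDefectGroup p M B' D →
      IsDefectGroup p M B (D.map (stab ⊤ (EH M N b)).subtype) := by
    intro D hD
    rw [isDefectGroup_iff_EG hB, hE]
    exact isDef_FR hbe (isBlk_EH hB') hne ((isDefectGroup_iff_EH' hB').mp hD)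
  refine ⟨hdef, ?_⟩
  intro ψ hψ
  obtain ⟨χ, hχ⟩ := exists_over (stab ⊤ (EH M N b)) ψ
  have hχi : (χ : G → ℂ) = indFun (stab ⊤ (EH M N b)) (ψ : stab ⊤ (EH M N b) → ℂ) :=
    (FR_ind hb hB' hne hψ (χ := χ) (by convert hχ)).symm
  have hχB := ind_mem_of_induced hind hψ hχi
  refine ⟨χ, hχB, hχi, ?_⟩
  obtain ⟨D, hD⟩ := exists_isDefectGroup hM hB'
  have hD' := hdef D hD
  unfold blockHeight
  rw [minDeg_eq hM hB hD', minDeg_eq hM hB' hD]
  have hdeg : charDegree (χ : G → ℂ) =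
      (stab ⊤ (EH M N b)).index * charDegree (ψ : stab ⊤ (EH M N b) → ℂ) := by
    have h1 := congrFun hχi 1
    rw [indFun_one_apply, (charDegree_spec χ.2).1, (charDegree_spec ψ.2).1] at h1
    exact_mod_cast h1
  have hidx : (D.map (stab ⊤ (EH M N b)).subtype).index = D.index * (stab ⊤ (EH M N b)).index :=
    Subgroup.index_map_subtype D
  rw [hdeg, hidx, Nat.factorization_mul Subgroup.index_ne_zero_of_finite
    (charDegree_spec ψ.2).2, Nat.factorization_mul Subgroup.index_ne_zero_of_finite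
    Subgroup.index_ne_zero_of_finite, Finsupp.add_apply, Finsupp.add_apply]
  omega

end St

end Cfsg.Agent.H26
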