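import Mathlib
import Cfsg.Agent.H26.Cover9

set_option autoImplicit false

/-!
# The Harris–Knörr correspondence
-/

namespace Cfsg.Agent.H26

open MonoidAlgebra MulAction

section Alg

variable {k : Type*} [Field k] [IsAlgClosed k] {G : Type*} [Group G] [Finite G]
  {p : ℕ} [Fact p.Prime] [CharP k p]

/-- Knörr's theorem inside a subgroup. -/
theorem knorr_sub {T K : Subgroup G} (hKT : K ≤ T) (hn : (K.subgroupOf T).Normal)
    {E e : MonoidAlgebra k G} (hE : IsBlk T E) (he : IsBlk K e) (hne : E * e ≠ 0)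
    {Q : Subgroup G} (hQ : IsDef p K e Q) : ∃ P, IsDef p T E P ∧ P ⊓ K = Q := by
  obtain ⟨E₁, rfl⟩ := exists_up (K := T) hE.isSup
  obtain ⟨e₁, rfl⟩ := exists_up (K := T) (he.isSup.mono hKT)
  have hK : um (K.subgroupOf T) = K := um_subgroupOf hKT
  have hQT : Q ≤ T := hQ.1.trans hKT
  have hQe : um (Q.subgroupOf T) = Q := um_subgroupOf hQT
  have hE₁ : IsBlk ⊤ E₁ := by
    rw [← isBlk_up, um_top]; exact hE
  have he₁ : IsBlk (K.subgroupOf T) e₁ := by
    rw [← isBlk_up, hK]; exact he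
  have hne₁ : E₁ * e₁ ≠ 0 := by
    intro h
    apply hne
    rw [← up_mul, h, up_zero]
  have hQ₁ : IsDef p (K.subgroupOf T) e₁ (Q.subgroupOf T) := by
    rw [← isDef_up, hK, hQe]; exact hQ
  obtain ⟨P, hP, hPK⟩ := knorr hE₁ he₁ hne₁ hQ₁
  refine ⟨um P, ?_, ?_⟩
  · have := isDef_up.mpr hP
    rwa [um_top] at this
  · rw [← hQe, ← hPK, um_inf, hK]

/-- The Brauer correspondent inside a normal subgroup. -/
theorem br_eq_of_ind {N Q : Subgroup G} (hQN : Q ≤ N) {d e : MonoidAlgebra k G}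
    (hd : IsBlk N d) (hD : IsDef p N d Q) (he : IsBlk (nz Q ⊓ N) e)
    (hind : Ind N (nz Q ⊓ N) e d) : br Q d = e := by
  have hdat : BrData p Q N (nz Q ⊓ N) :=
    { isP := hD.2.1
      le := inf_le_right
      le_nz := inf_le_left
      cz_le := inf_le_inf_right _ (centralizer_le_normalizer' Q)
      or := Or.inl (le_inf Subgroup.le_normalizer hQN) }
  have h1 : br Q d * e = e := (ind_iff_br hdat (fun z hz => hz.2.mono hQN) he hd).mp hind
  -- br Q d is a block of nz Q ⊓ N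
  obtain ⟨d₁, rfl⟩ := exists_up (K := N) hd.isSup
  have hQe : um (Q.subgroupOf N) = Q := um_subgroupOf hQN
  have hd₁ : IsBlk ⊤ d₁ := by
    rw [← isBlk_up, um_top]; exact hd
  have hD₁ : IsDef p ⊤ d₁ (Q.subgroupOf N) := by
    rw [← isDef_up, um_top, hQe]; exact hD
  have h2 := FM.isBlk_br hd₁ le_top hD₁
  have h3 : IsBlk (nz Q ⊓ N) (br Q (up d₁)) := by
    have := isBlk_up.mpr h2
    rwa [um_nz, ← br_up, hQe] at this
  by_contra hne
  rw [h3.mul_of_ne he hne] at h1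
  exact he.ne_zero h1.symm

variable {N : Subgroup G} [hN : N.Normal] {Q : Subgroup G}

theorem hk_data (hQ : IsPGroup p Q) : BrData p Q (⊤ : Subgroup G) (nz Q) :=
  { isP := hQ
    le := le_top
    le_nz := le_rfl
    cz_le := by rw [inf_top_eq]; exact centralizer_le_normalizer' Q
    or := Or.inl Subgroup.le_normalizer }

/-- blocks of `N_G(Q)` covering `e` induce blocks covering `d` -/
theorem hk_cov {d e c B : MonoidAlgebra k G} (hQN : Q ≤ N) (hd : IsBlk N d)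
    (hQ : IsPGroup p Q) (hbr : br Q d = e) (hB : IsBlk ⊤ B) (hBc : br Q B * c = c)
    (hc : IsBlk (nz Q) c) (hce : c * e ≠ 0) : B * d ≠ 0 := by
  intro h0
  have h1 : br Q (B * d) = br Q B * e := by
    rw [br_mul hQ (hB.isFx.mono le_top) (hd.isFx.mono hQN), hbr]
  rw [h0, map_zero] at h1
  apply hce
  have hcomm : br Q B * c = c * br Q B := by
    have h2 : br Q B ∈ Zc k (nz Q) := br_mem_Zc_nz le_top hB.isFx
    exact (Zc_commute h2 hc.isSup).eq
  rw [← hBc, hcomm, mul_assoc, ← h1, mul_zero]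

/-- a block covering `d` has a block of `N_G(Q)` below it covering `e` -/
theorem hk_exists {d e B : MonoidAlgebra k G} (hQN : Q ≤ N) (hd : IsBlk N d)
    (hQ : IsPGroup p Q) (hbr : br Q d = e) (he : e ≠ 0) (hB : IsBlk ⊤ B) (hBd : B * d ≠ 0) :
    ∃ c, IsBlk (nz Q) c ∧ c * e ≠ 0 ∧ br Q B * c = c := by
  have h1 : br Q (B * d) ≠ 0 :=
    br_cov_ne_zero hB.mem hB.idem hd hBd hQ hQN (by rw [hbr]; exact he)
  have h2 : br Q (B * d) = br Q B * e := by
    rw [br_mul hQ (hB.isFx.mono le_top) (hd.isFx.mono hQN), hbr]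
  rw [h2] at h1
  have hfin0 : Finite (blks k (nz Q)) := (blks_finite (nz Q)).to_subtype
  have hfin : Fintype (blks k (nz Q)) := Fintype.ofFinite _
  have hz : br Q B ∈ Zc k (nz Q) := br_mem_Zc_nz le_top hB.isFx
  have hzz : br Q B * br Q B = br Q B := by
    rw [← br_mul hQ (hB.isFx.mono le_top) (hB.isFx.mono le_top), hB.idem]
  have h3 : ∑ c : blks k (nz Q), (c : MonoidAlgebra k G) * (br Q B * e) ≠ 0 := by
    rw [← Finset.sum_mul, sum_blks, one_mul]; exact h1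
  obtain ⟨c, -, hc⟩ := Finset.exists_ne_zero_of_sum_ne_zero h3
  have hcb : IsBlk (nz Q) (c : MonoidAlgebra k G) := c.2
  have hcomm : br Q B * (c : MonoidAlgebra k G) = c * br Q B := (Zc_commute hz hcb.isSup).eq
  have h4 : br Q B * (c : MonoidAlgebra k G) = c := by
    rcases hcb.mul_eq_or hz hzz with h | h
    · exfalso
      apply hc
      rw [← mul_assoc, ← hcomm, h, zero_mul]
    · exact h
  refine ⟨c, hcb, ?_, h4⟩
  rw [← mul_assoc, ← hcomm, h4] at hc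
  exact hc

/-- key: defect group of a block of `N_G(Q)` covering `e` -/
theorem hk_def {e c B : MonoidAlgebra k G} (hn : ((nz Q ⊓ N).subgroupOf (nz Q)).Normal)
    (he : IsBlk (nz Q ⊓ N) e) (hDe : IsDef p (nz Q ⊓ N) e Q)
    (hB : IsBlk ⊤ B) (hc : IsBlk (nz Q) c) (hce : c * e ≠ 0) (hBc : br Q B * c = c) :
    ∃ P, IsDef p (nz Q) c P ∧ P ⊓ N = Q ∧ nz P ≤ nz Q ∧ IsDef p ⊤ B P ∧ br P B = br P c := by
  obtain ⟨P, hP, hPK⟩ := knorr_sub inf_le_left hn hc he hce hDe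
  have hPN : P ⊓ N = Q := by
    rw [← hPK]
    apply le_antisymm
    · exact le_inf inf_le_left (le_inf (inf_le_left.trans hP.1) inf_le_right)
    · exact le_inf inf_le_left (inf_le_right.trans inf_le_right)
  have hnz : nz P ≤ nz Q := by
    intro g hg
    apply mem_nz_of_cg_eq
    have h1 : cg P g = P := cg_eq_of_mem_nz hg
    have h2 : cg (P ⊓ N) g = P ⊓ N := by
      rw [← cg_inf_normal, h1]
    rwa [hPN] at h2
  have hQP : Q ≤ P := by rw [← hPN]; exact inf_le_left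
  have hb := FM.isBlk_br hc hnz hP
  have hbD := FM.isDef_br hnz hP
  obtain ⟨E, hE, hED, hEb⟩ := FM.surjective (p := p) (H := (⊤ : Subgroup G)) le_top hb hbD
  have hBE : B = E := by
    apply blk_eq_of_br_mul hP.2.1 le_top hB hE hb.ne_zero
    · rw [← br_br hQP B, ← br_mul hP.2.1, hBc]
      · exact (br_mem_Zc_nz (H := ⊤) le_top hB.isFx).2.mono hP.1
      · exact hc.isFx.mono hP.1
    · rw [hEb]; exact hb.idem
  refine ⟨P, hP, hPN, hnz, ?_, ?_⟩
  · rw [hBE]; exact hED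
  · rw [hBE]; exact hEb

theorem hk_unique {e c₁ c₂ B : MonoidAlgebra k G} (hn : ((nz Q ⊓ N).subgroupOf (nz Q)).Normal)
    (he : IsBlk (nz Q ⊓ N) e) (hDe : IsDef p (nz Q ⊓ N) e Q)
    (hB : IsBlk ⊤ B) (hc₁ : IsBlk (nz Q) c₁) (hce₁ : c₁ * e ≠ 0) (hBc₁ : br Q B * c₁ = c₁)
    (hc₂ : IsBlk (nz Q) c₂) (hce₂ : c₂ * e ≠ 0) (hBc₂ : br Q B * c₂ = c₂) : c₁ = c₂ := by
  obtain ⟨P₁, hP₁, hPN₁, hnz₁, hBP₁, hbr₁⟩ := hk_def hn he hDe hB hc₁ hce₁ hBc₁
  obtain ⟨P₂, hP₂, hPN₂, hnz₂, hBP₂, hbr₂⟩ := hk_def hn he hDe hB hc₂ hce₂ hBc₂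
  obtain ⟨g, -, hg⟩ := hBP₁.unique hBP₂
  have hgQ : g ∈ nz Q := by
    apply mem_nz_of_cg_eq
    have h2 : cg (P₁ ⊓ N) g = P₂ ⊓ N := by
      rw [← cg_inf_normal, hg]
    rwa [hPN₁, hPN₂] at h2
  have hP₁' : IsDef p (nz Q) c₁ P₂ := by
    rw [← hg]; exact hP₁.conj hc₁.isFx hgQ
  have h3 : br P₂ c₁ = br P₂ B := by
    have h4 := congrArg (cj g) hbr₁
    rw [cj_br', cj_br', hg, hB.isFx g (Subgroup.mem_top g), hc₁.isFx g hgQ] at h4
    exact h4.symm
  exact FM.injective hP₂.2.1 hP₂.1 hc₁ hc₂ hP₁'.2.2.1 (h3.trans hbr₂)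

end Alg

section Dict

open Cfsg Cfsg.Agent.H11 Cfsg.Agent.H3

universe u

variable {G : Type u} [Group G] [Fintype G]

theorem st4674 (p : ℕ) [Fact p.Prime] (M : Ideal AlgInt) (hM : IsPModular p M)
    (N : Subgroup G) [hN : N.Normal] [Fintype N] (Q : Subgroup G) (hQ : IsPGroup p Q) (hQN : Q ≤ N)
    [Fintype ↥(Subgroup.normalizer (Q : Set G) ⊓ N)] (d : Set (IrrCharacter N))
    (hd : IsPBlock M d) (hdQ : IsDefectGroup p M d (Q.subgroupOf N))
    (e : Set (IrrCharacter ↥(Subgroup.normalizer (Q : Set G) ⊓ N))) (he : IsPBlock M e)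
    (heQ : IsDefectGroup p M e (Q.subgroupOf (Subgroup.normalizer (Q : Set G) ⊓ N)))
    (hed : IsInducedBlockIn M N (Subgroup.normalizer (Q : Set G) ⊓ N) e d) :
    (∀ c : Set (IrrCharacter ↥(Subgroup.normalizer (Q : Set G))), IsPBlock M c →
      (∃ ψ ∈ c, ∃ ξ ∈ e, classInner (fun l : ↥(Subgroup.normalizer (Q : Set G) ⊓ N) =>
        (ψ : ↥(Subgroup.normalizer (Q : Set G)) → ℂ) (Subgroup.inclusion inf_le_left l))
        (ξ : ↥(Subgroup.normalizer (Q : Set G) ⊓ N) → ℂ) ≠ 0) →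
      ∃! B : Set (IrrCharacter G), IsInducedBlock M (Subgroup.normalizer (Q : Set G)) c B ∧
        (∃ χ ∈ B, ∃ θ ∈ d, classInner (fun n : N => (χ : G → ℂ) n) (θ : N → ℂ) ≠ 0)) ∧
    (∀ B : Set (IrrCharacter G), IsPBlock M B →
      (∃ χ ∈ B, ∃ θ ∈ d, classInner (fun n : N => (χ : G → ℂ) n) (θ : N → ℂ) ≠ 0) →
      ∃! c : Set (IrrCharacter ↥(Subgroup.normalizer (Q : Set G))),
        (IsPBlock M c ∧ ∃ ψ ∈ c, ∃ ξ ∈ e,
          classInner (fun l : ↥(Subgroup.normalizer (Q : Set G) ⊓ N) =>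
          (ψ : ↥(Subgroup.normalizer (Q : Set G)) → ℂ) (Subgroup.inclusion inf_le_left l))
          (ξ : ↥(Subgroup.normalizer (Q : Set G) ⊓ N) → ℂ) ≠ 0) ∧
        IsInducedBlock M (Subgroup.normalizer (Q : Set G)) c B) := by
  have hpr : M.IsPrime := hM.2.1.isPrime
  have : CharP (KF M) p := charP_KF hM
  have hn : ((nz Q ⊓ N).subgroupOf (nz Q)).Normal := by
    have : (nz Q ⊓ N).subgroupOf (nz Q) = N.subgroupOf (nz Q) := by
      ext x; simp [Subgroup.mem_subgroupOf]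
    rw [this]; exact hN.subgroupOf _
  have hd' := isBlk_EH hd
  have he' := isBlk_EH he
  have hdD := (isDefectGroup_iff_EH' hd).mp hdQ
  have heD := (isDefectGroup_iff_EH' he).mp heQ
  have e1 : (Q.subgroupOf N).map N.subtype = Q := um_subgroupOf hQN
  have e2 : (Q.subgroupOf (Subgroup.normalizer (Q : Set G) ⊓ N)).map
      (Subgroup.normalizer (Q : Set G) ⊓ N).subtype = Q :=
    um_subgroupOf (le_inf Subgroup.le_normalizer hQN)
  rw [e1] at hdD
  rw [e2] at heD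
  have hed' := ((isInducedBlockIn_iff inf_le_right e d).mp hed).2.2
  have hbr := br_eq_of_ind hQN hd' hdD he' hed'
  have hdat : BrData p Q (⊤ : Subgroup G) (nz Q) := hk_data hQ
  have hfx : ∀ z ∈ Zc (KF M) (⊤ : Subgroup G), IsFx Q z := fun z hz => hz.2.mono le_top
  constructor
  · intro c hc hcov
    have hce := (cov_sub_iff (K := nz Q ⊓ N) (T := nz Q) inf_le_left hn hc he).mp hcov
    have hc' := isBlk_EH hc
    obtain ⟨B', hB', huniq⟩ := existsUnique_ind hdat hfx hc'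
    obtain ⟨B, hB, hBE⟩ := exists_EG hB'.2.1
    have hbrB : br Q (EG M B) * EH M (nz Q) c = EH M (nz Q) c := by
      rw [hBE]; exact (ind_iff_br hdat hfx hc' hB'.2.1).mp hB'
    refine ⟨B, ⟨?_, ?_⟩, ?_⟩
    · rw [isInducedBlock_iff]
      exact ⟨hc, hB, by rw [hBE]; exact hB'⟩
    · exact (covB_iff hB hd).mpr (hk_cov hQN hd' hQ hbr (isBlk_EG hB) hbrB hc' hce)
    · rintro B₂ ⟨h1, -⟩
      rw [isInducedBlock_iff] at h1
      apply EG_injective h1.2.1 hB (M := M)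
      rw [hBE]
      exact huniq _ h1.2.2
  · intro B hB hcov
    have hBd := (covB_iff hB hd).mp hcov
    have hB' := isBlk_EG hB
    obtain ⟨c', hc', hce, hbrc⟩ := hk_exists hQN hd' hQ hbr he'.ne_zero hB' hBd
    obtain ⟨c, hc, rfl⟩ := exists_EH hc'
    refine ⟨c, ⟨⟨hc, (cov_sub_iff (K := nz Q ⊓ N) (T := nz Q) inf_le_left hn hc he).mpr hce⟩,
      ?_⟩, ?_⟩
    · rw [isInducedBlock_iff]
      exact ⟨hc, hB, (ind_iff_br hdat hfx hc' hB').mpr hbrc⟩
    · rintro c₂ ⟨⟨hc₂, hcov₂⟩, hind₂⟩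
      have hce₂ := (cov_sub_iff (K := nz Q ⊓ N) (T := nz Q) inf_le_left hn hc₂ he).mp hcov₂
      rw [isInducedBlock_iff] at hind₂
      have hbr₂ := (ind_iff_br hdat hfx (isBlk_EH hc₂) hB').mp hind₂.2.2
      apply EH_injective hc₂ hc (M := M)
      exact hk_unique hn he' heD hB' (isBlk_EH hc₂) hce₂ hbr₂ hc' hce hbrc

end Dict

end Cfsg.Agent.H26
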