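import Mathlib
import Cfsg.Agent.H26.HK

set_option autoImplicit false

/-!
# Nilpotent blocks and normal subgroups of `p`-power index
-/

namespace Cfsg.Agent.H26

open MonoidAlgebra MulAction

section Grp

variable {G : Type*} [Group G] [Finite G]

/-- reduction of membership of `p'`-elements to elements of prime power order -/
theorem mem_of_primePow {p : ℕ} {T C : Subgroup G}
    (h : ∀ y ∈ T, ∀ q a : ℕ, q.Prime → orderOf y = q ^ a → ¬ p ∣ orderOf y → y ∈ C) :
    ∀ (m : ℕ) (x : G), x ∈ T → orderOf x = m → ¬ p ∣ orderOf x → x ∈ C := by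
  intro m
  induction m using Nat.recOnPosPrimePosCoprime with
  | prime_pow q n hq hn =>
    intro x hx ho hp
    exact h x hx q n hq ho hp
  | zero =>
    intro x _ ho _
    have := orderOf_pos x
    omega
  | one =>
    intro x _ ho _
    rw [orderOf_eq_one_iff.mp ho]; exact C.one_mem
  | coprime a b ha hb hab iha ihb =>
    intro x hx ho hp
    have h1 : orderOf (x ^ b) = a := by
      rw [orderOf_pow, ho, Nat.gcd_eq_right (Dvd.intro_left a rfl), Nat.mul_div_cancel _ (by omega)]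
    have h2 : orderOf (x ^ a) = b := by
      rw [orderOf_pow, ho, Nat.gcd_eq_right (Dvd.intro b rfl), Nat.mul_div_cancel_left _ (by omega)]
    have h3 : x ^ b ∈ C := iha _ (T.pow_mem hx b) h1
      (fun h => hp (h.trans (orderOf_pow_dvd b)))
    have h4 : x ^ a ∈ C := ihb _ (T.pow_mem hx a) h2
      (fun h => hp (h.trans (orderOf_pow_dvd a)))
    have h5 : x = (x ^ a) ^ (Nat.gcdA a b) * (x ^ b) ^ (Nat.gcdB a b) := by
      have h6 : (1 : ℤ) = a * Nat.gcdA a b + b * Nat.gcdB a b := by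
        have := Nat.gcd_eq_gcd_ab a b
        rw [hab] at this
        exact_mod_cast this
      have h7 : x = x ^ (1 : ℤ) := (zpow_one x).symm
      conv_lhs => rw [h7, h6, zpow_add, zpow_mul, zpow_mul, zpow_natCast, zpow_natCast]
    rw [h5]
    exact C.mul_mem (C.zpow_mem h4 _) (C.zpow_mem h3 _)

/-- coprime action stabilizing `1 ≤ R₀ ≤ R` -/
theorem mem_cz_of_inf {p : ℕ} [Fact p.Prime] {N R : Subgroup G} [hN : N.Normal]
    (hR : IsPGroup p R) {x : G} (hx : ¬ p ∣ orderOf x) (hxN : x ∈ N) (hxR : x ∈ nz R)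
    (h : x ∈ cz (R ⊓ N)) : x ∈ cz R := by
  rw [Subgroup.mem_centralizer_iff]
  intro y hy
  have hy : y ∈ R := hy
  obtain ⟨z, hz⟩ : ∃ z, z = x * y * x⁻¹ * y⁻¹ := ⟨_, rfl⟩
  have hzR : z ∈ R := by
    rw [hz]
    exact R.mul_mem ((Subgroup.mem_normalizer_iff.mp hxR y).mp hy) (R.inv_mem hy)
  have hzN : z ∈ N := by
    rw [hz, mul_assoc, mul_assoc]
    apply N.mul_mem hxN
    rw [← mul_assoc]
    exact hN.conj_mem _ (N.inv_mem hxN) y
  have hxz : z * x = x * z := Subgroup.mem_centralizer_iff.mp h z ⟨hzR, hzN⟩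
  have h1 : ∀ n : ℕ, x ^ n * y * (x ^ n)⁻¹ = z ^ n * y := by
    intro n
    induction n with
    | zero => simp
    | succ n ih =>
      have h2 : x ^ (n + 1) * y * (x ^ (n + 1))⁻¹ = x * (x ^ n * y * (x ^ n)⁻¹) * x⁻¹ := by
        rw [pow_succ']; group
      have h3 : x * z ^ n = z ^ n * x := by
        have : Commute z x := hxz
        exact (this.pow_left n).eq.symm
      rw [h2, ih]
      calc x * (z ^ n * y) * x⁻¹ = (x * z ^ n) * y * x⁻¹ := by group
        _ = z ^ n * (x * y * x⁻¹ * y⁻¹) * y := by rw [h3]; group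
        _ = z ^ (n + 1) * y := by rw [← hz, pow_succ]
  have h2 := h1 (orderOf x)
  rw [pow_orderOf_eq_one, one_mul, inv_one, mul_one] at h2
  have h3 : z ^ orderOf x = 1 := by
    have := congrArg (· * y⁻¹) h2
    simp only [mul_inv_cancel, mul_inv_cancel_right] at this
    exact this.symm
  obtain ⟨k, hk⟩ := hR ⟨z, hzR⟩
  have hk' : z ^ p ^ k = 1 := congrArg Subtype.val hk
  have hc : Nat.Coprime (orderOf x) (p ^ k) :=
    (Nat.Coprime.pow_left k ((Nat.Prime.coprime_iff_not_dvd Fact.out).mpr hx)).symm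
  have h4 : orderOf z ∣ Nat.gcd (orderOf x) (p ^ k) :=
    Nat.dvd_gcd (orderOf_dvd_of_pow_eq_one h3) (orderOf_dvd_of_pow_eq_one hk')
  rw [hc, Nat.dvd_one, orderOf_eq_one_iff] at h4
  rw [h4] at hz
  have h5 : x * y * x⁻¹ = y := by
    rw [eq_comm, mul_inv_eq_one] at hz
    exact hz
  calc y * x = (x * y * x⁻¹) * x := by rw [h5]
    _ = x * y := by group

end Grp

section Sup

open Cfsg Cfsg.Agent.H11 Cfsg.Agent.H3

universe u

variable {M : Ideal AlgInt} [hM : M.IsPrime] {G : Type u} [Group G] [Finite G] {p : ℕ}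
  [hp : Fact p.Prime]

theorem coeff_EH_eq_zero (hMp : IsPModular p M) {K : Subgroup G} {b : Set (IrrCharacter K)}
    (hb : IsPBlock M b) {x : G} (hx : p ∣ orderOf x) : (EH M K b).coeff x = 0 := by
  have := Fintype.ofFinite K
  rw [coeff_EH]
  unfold subgroupBlockCoeff
  by_cases hxK : x ∈ K
  · rw [dif_pos hxK, blockCoeff_eq_zero hMp hb ⟨x, hxK⟩ (by rw [Subgroup.orderOf_mk]; exact hx),
      rd_zero]
  · rw [dif_neg hxK, rd_zero]

theorem coeff_idem_eq_zero (hMp : IsPModular p M) {K : Subgroup G} {a : MonoidAlgebra (KF M) G}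
    (ha : a ∈ Zc (KF M) K) (haa : a * a = a) {x : G} (hx : p ∣ orderOf x) : a.coeff x = 0 := by
  classical
  have hf : Finite (blks (KF M) K) := (blks_finite _).to_subtype
  have hft : Fintype (blks (KF M) K) := Fintype.ofFinite _
  have h1 : a = ∑ f : blks (KF M) K, a * (f : MonoidAlgebra (KF M) G) := by
    rw [← Finset.mul_sum, sum_blks, mul_one]
  rw [h1]
  have h2 : ∀ f : blks (KF M) K, (a * (f : MonoidAlgebra (KF M) G)).coeff x = 0 := by
    intro f
    obtain ⟨b, hb, hbf⟩ := exists_EH f.2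
    rcases IsBlk.mul_eq_or f.2 ha haa with h | h
    · rw [h]; rfl
    · rw [h, ← hbf]; exact coeff_EH_eq_zero hMp hb hx
  have h3 : ∀ s : Finset (blks (KF M) K),
      (∑ f ∈ s, a * (f : MonoidAlgebra (KF M) G)).coeff x = 0 := by
    intro s
    induction s using Finset.induction_on with
    | empty => rfl
    | insert f s hf ih =>
      rw [Finset.sum_insert hf]
      change (a * (f : MonoidAlgebra (KF M) G)).coeff x + _ = 0
      rw [h2, zero_add]
      exact ih
  exact h3 _

theorem isSup_idem_inf (hMp : IsPModular p M) {N : Subgroup G} [hN : N.Normal]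
    (hidx : ∃ k : ℕ, N.index = p ^ k) {K : Subgroup G} {a : MonoidAlgebra (KF M) G}
    (ha : a ∈ Zc (KF M) K) (haa : a * a = a) : IsSup (K ⊓ N) a := by
  intro x hx
  by_cases hxK : x ∈ K
  · apply coeff_idem_eq_zero hMp ha haa
    by_contra h
    exact hx ⟨hxK, mem_of_pRegular hidx h⟩
  · exact ha.1 x hxK

theorem nz_inf_normal {K N : Subgroup G} [hN : N.Normal] : nz K ≤ nz (K ⊓ N) := by
  intro g hg
  apply mem_nz_of_cg_eq
  rw [← cg_inf_normal, cg_eq_of_mem_nz hg]

theorem isBlk_osum_index (hMp : IsPModular p M) {N : Subgroup G} [hN : N.Normal]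
    (hidx : ∃ k : ℕ, N.index = p ^ k) {K : Subgroup G} {f : MonoidAlgebra (KF M) G}
    (hf : IsBlk (K ⊓ N) f) : IsBlk K (osum K f) :=
  isBlk_osum hf (Subgroup.le_normalizer.trans nz_inf_normal) inf_le_left
    (fun _ ha haa => isSup_idem_inf hMp hidx ha haa)

/-- nilpotency passes down -/
theorem isNilK_down (hMp : IsPModular p M) {N : Subgroup G} [hN : N.Normal]
    (hidx : ∃ k : ℕ, N.index = p ^ k) {e : MonoidAlgebra (KF M) G} (he : IsBlk ⊤ e)
    (h : IsNilK p ⊤ e) : IsNilK p N e := by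
  rw [isNilK_top_iff he] at h
  intro R u hRN hRp hu hmul x hxN hxR hxu hord
  have hU : IsBlk (cz R) (osum (cz R) u) := isBlk_osum_index hMp hidx hu
  have hKn : cz R ≤ nz (cz R ⊓ N) := Subgroup.le_normalizer.trans nz_inf_normal
  have hUu : osum (cz R) u * u = u := osum_mul_self hu hKn
  refine h R (osum (cz R) u) ⟨he, ⟨hRp, hU⟩, ?_⟩ x hxR ?_ hord
  · rcases hU.mul_eq_or (a := br R e) (br_mem_Zc_centralizer (he.isFx.mono le_top)) (by
      have : CharP (KF M) p := charP_KF hMp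
      rw [← br_mul hRp (he.isFx.mono le_top) (he.isFx.mono le_top), he.idem]) with h1 | h1
    · exfalso
      apply hu.ne_zero
      rw [← hmul, ← hUu, ← mul_assoc, h1, zero_mul]
    · exact h1
  · by_contra hne
    have hxc : x ∈ nz (cz R) := normalizer_le_normalizer_centralizer R hxR
    have h1 := (hU.cj_of_normalizer hxc).mul_of_ne hU hne
    apply hu.ne_zero
    have h2 : cj x (osum (cz R) u) * u = u := by
      have := congrArg (cj x) hUu
      rw [map_mul, hxu] at this
      exact this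
    calc u = cj x (osum (cz R) u) * u := h2.symm
      _ = cj x (osum (cz R) u) * (osum (cz R) u * u) := by rw [hUu]
      _ = 0 := by rw [← mul_assoc, h1, zero_mul]

/-- an element of prime power order prime to `p` which stabilizes a block of `K` fixes a block
of `K ⊓ N` below it -/
theorem exists_fixed_below (hMp : IsPModular p M) {N : Subgroup G} [hN : N.Normal]
    (hidx : ∃ k : ℕ, N.index = p ^ k) {K : Subgroup G} {V : MonoidAlgebra (KF M) G}
    (hV : IsBlk K V) {x : G} (hxK : x ∈ nz K) (hxV : cj x V = V) {q a : ℕ} (hq : q.Prime)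
    (hord : orderOf x = q ^ a) (hpx : ¬ p ∣ orderOf x) :
    ∃ v, IsBlk (K ⊓ N) v ∧ V * v = v ∧ cj x v = v := by
  classical
  by_cases hx1 : x = 1
  · obtain ⟨v, hv, hVv⟩ := exists_blk_of_ne_zero (H := K ⊓ N)
      ⟨isSup_idem_inf hMp hidx hV.mem hV.idem, hV.isFx.mono inf_le_left⟩ hV.idem hV.ne_zero
    exact ⟨v, hv, hVv, by rw [hx1]; exact cj_one_apply v⟩
  have hKn : K ≤ nz (K ⊓ N) := Subgroup.le_normalizer.trans nz_inf_normal
  obtain ⟨v, hv, hVv⟩ := exists_blk_of_ne_zero (H := K ⊓ N)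
    ⟨isSup_idem_inf hMp hidx hV.mem hV.idem, hV.isFx.mono inf_le_left⟩ hV.idem hV.ne_zero
  have hVo : V = osum K v := eq_osum hV hv hKn inf_le_left hVv
  have hmem : ∀ w, IsBlk (K ⊓ N) w → V * w = w → w ∈ orb K v := by
    intro w hw hVw
    by_contra hnot
    apply hw.ne_zero
    rw [← hVw, hVo]
    unfold osum
    rw [Finset.sum_mul]
    apply Finset.sum_eq_zero
    intro z hz
    apply (isBlk_of_mem_orb hv hKn hz).mul_of_ne hw
    rintro rfl
    exact hnot hz
  have hT : Subgroup.zpowers x ≤ stab (nz K) V := by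
    rw [Subgroup.zpowers_le]
    exact ⟨hxK, hxV⟩
  have hact : ∀ t ∈ Subgroup.zpowers x, ∀ w ∈ orb K v, cj t w ∈ orb K v := by
    intro t ht w hw
    have ht' := hT ht
    apply hmem
    · exact (isBlk_of_mem_orb hv hKn hw).cj_of_normalizer (nz_inf_normal ht'.1)
    · have h1 : V * w = w := by rw [hVo]; exact osum_mul_of_mem hv hKn hw
      have h2 := congrArg (cj t) h1
      rw [map_mul, ht'.2] at h2
      exact h2
  let act : MulAction (Subgroup.zpowers x) (orb K v) :=
    { smul := fun t w => ⟨cj (t : G) (w : MonoidAlgebra (KF M) G), hact t t.2 w w.2⟩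
      one_smul := fun w => Subtype.ext (cj_one_apply _)
      mul_smul := fun s t w => Subtype.ext (cj_mul_apply _ _ _) }
  have : Fact q.Prime := ⟨hq⟩
  have hqg : IsPGroup q (Subgroup.zpowers x) := by
    apply IsPGroup.of_card (n := a)
    rw [Nat.card_zpowers, hord]
  have ha : a ≠ 0 := by
    rintro rfl
    rw [pow_zero, orderOf_eq_one_iff] at hord
    exact hx1 hord
  have hpq : p ≠ q := by
    rintro rfl
    apply hpx
    rw [hord]
    exact dvd_pow_self p ha
  have hcard : Nat.card (orb K v) = (stab K v).relIndex K := by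
    rw [← card_orb]
    simp
  have hdvd : (stab K v).relIndex K ∣ N.index := by
    have h1 : K ⊓ N ≤ stab K v := le_stab inf_le_left hv.isFx
    have h2 : (stab K v).relIndex K ∣ (K ⊓ N).relIndex K :=
      Subgroup.relIndex_dvd_of_le_left K h1
    rw [Subgroup.inf_relIndex_left] at h2
    exact h2.trans (Subgroup.relIndex_dvd_index_of_normal N K)
  have hnd : ¬ q ∣ Nat.card (orb K v) := by
    rw [hcard]
    intro h
    obtain ⟨k, hk⟩ := hidx
    have h1 := h.trans hdvd
    rw [hk] at h1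
    exact hpq ((Nat.prime_dvd_prime_iff_eq hq hp.out).mp (hq.dvd_of_dvd_pow h1)).symm
  obtain ⟨w, hw⟩ := hqg.nonempty_fixed_point_of_prime_not_dvd_card (orb K v) hnd
  refine ⟨w, isBlk_of_mem_orb hv hKn w.2, ?_, ?_⟩
  · rw [hVo]; exact osum_mul_of_mem hv hKn w.2
  · exact congrArg Subtype.val (hw ⟨x, Subgroup.mem_zpowers x⟩)

/-- nilpotency passes up -/
theorem isNilK_up_index (hMp : IsPModular p M) {N : Subgroup G} [hN : N.Normal]
    (hidx : ∃ k : ℕ, N.index = p ^ k) {e : MonoidAlgebra (KF M) G} (he : IsBlk ⊤ e)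
    (h : IsNilK p N e) : IsNilK p ⊤ e := by
  have : CharP (KF M) p := charP_KF hMp
  rw [isNilK_top_iff he]
  intro R U hU x hxR hxU hord
  obtain ⟨-, hUb, hbr⟩ := hU
  have hxN : x ∈ N := mem_of_pRegular hidx hord
  apply mem_cz_of_inf hUb.1 hord hxN hxR
  obtain ⟨V, hV⟩ := exists_ple hUb (R ⊓ N) inf_le_left
  have hVb := hV.isBrP_left hUb
  have hinB : InB p e (R ⊓ N) V := InB.of_ple' ⟨he, hUb, hbr⟩ hV
  -- x fixes (R ⊓ N, V)
  have hT : ∀ y ∈ stab (nz R) U, y ∈ nz (R ⊓ N) ∧ cj y V = V := by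
    intro y hy
    have h1 : y ∈ nz (R ⊓ N) := nz_inf_normal hy.1
    refine ⟨h1, ?_⟩
    have h2 := hV.cj y
    rw [hy.2] at h2
    have h3 : R.map (MulAut.conj y).toMonoidHom = R := cg_eq_of_mem_nz hy.1
    have h4 : (R ⊓ N).map (MulAut.conj y).toMonoidHom = R ⊓ N := cg_eq_of_mem_nz h1
    rw [h3, h4] at h2
    exact ple_unique hUb _ h2 hV
  refine mem_of_primePow (p := p) (T := stab (nz R) U ⊓ N) (C := cz (R ⊓ N)) ?_ (orderOf x) x
    ⟨⟨hxR, hxU⟩, hxN⟩ rfl hord
  intro y hy q a hq hya hpy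
  obtain ⟨h1, h2⟩ := hT y hy.1
  obtain ⟨v, hv, hVv, hyv⟩ := exists_fixed_below hMp hidx hVb.2
    (normalizer_le_normalizer_centralizer _ h1) h2 hq hya hpy
  refine h (R ⊓ N) v inf_le_right (hUb.1.to_le inf_le_left) hv ?_ y hy.2 h1 hyv hpy
  rw [← hVv, ← mul_assoc, hinB.2.2]

end Sup

end Cfsg.Agent.H26
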