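import Mathlib
import Cfsg.Agent.H26.NilExt

set_option autoImplicit false

namespace Cfsg.Agent.H26

open MonoidAlgebra MulAction Cfsg Cfsg.Agent.H11 Cfsg.Agent.H3

universe u

theorem st4692 {G : Type u} [Group G] [Fintype G] (p : ℕ) [Fact p.Prime] (M : Ideal AlgInt)
    (hM : IsPModular p M) (N : Subgroup G) [hNn : N.Normal] (hN : ∃ k : ℕ, N.index = p ^ k)
    (c : Set (IrrCharacter N)) (hc : IsPBlock M c)
    (B : Set (IrrCharacter G)) (hB : IsPBlock M B)
    (hBc : ∀ g : G, blockCoeff B g = subgroupBlockCoeff N c g) :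
    IsNilpotentBlock p M c ↔ IsNilpotentBlock p M B := by
  have hpr : M.IsPrime := hM.2.1.isPrime
  have hch : CharP (KF M) p := charP_KF hM
  have hE : EG M B = EH M N c := (EG_eq_iff hNn hB hc).mpr hBc
  rw [isNilpotentBlock_iff (p := p) (B := B), isNilpotentBlock_iff_EH (p := p) (b := c), ← hE]
  constructor
  · rintro ⟨_, h⟩
    exact ⟨hB, isNilK_up_index hM hN (isBlk_EG hB) h⟩
  · rintro ⟨_, h⟩
    exact ⟨hc, isNilK_down hM hN (isBlk_EG hB) h⟩

end Cfsg.Agent.H26
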