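import Mathlib
import Cfsg.Agent.H26.NilExt2

set_option autoImplicit false

namespace Cfsg.Agent.H26

open MonoidAlgebra MulAction Cfsg Cfsg.Agent.H11 Cfsg.Agent.H3

universe u

section Alg

variable {M : Ideal AlgInt} [hM : M.IsPrime] {G : Type u} [Group G] [Finite G] {p : ℕ}
  [hp : Fact p.Prime]

theorem isSup_idem_of_reg (hMp : IsPModular p M) {K C : Subgroup G}
    (h : ∀ x ∈ K, ¬ p ∣ orderOf x → x ∈ C) {a : MonoidAlgebra (KF M) G}
    (ha : a ∈ Zc (KF M) K) (haa : a * a = a) : IsSup C a := by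
  intro x hx
  by_cases hxK : x ∈ K
  · apply coeff_idem_eq_zero hMp ha haa
    by_contra h'
    exact hx (h x hxK h')
  · exact ha.1 x hxK

/-- `p`-regular elements of `K` lie in a normal subgroup of `p`-power index. -/
theorem mem_of_relIndex_pow {C K : Subgroup G} (hK : K ≤ nz C)
    (hidx : ∃ j : ℕ, C.relIndex K = p ^ j) {x : G} (hx : x ∈ K) (hord : ¬ p ∣ orderOf x) :
    x ∈ C := by
  have hn : (C.subgroupOf K).Normal := by
    constructor
    intro n hn g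
    rw [Subgroup.mem_subgroupOf] at hn ⊢
    exact (Subgroup.mem_normalizer_iff.mp (hK g.2) n).mp hn
  have h1 : (⟨x, hx⟩ : K) ∈ C.subgroupOf K := by
    apply mem_of_pRegular (p := p) (N := C.subgroupOf K) hidx
    rw [Subgroup.orderOf_mk]; exact hord
  exact h1

theorem isBlk_of_stable_pow (hMp : IsPModular p M) {C K : Subgroup G} (hCK : C ≤ K)
    (hK : K ≤ nz C) (hidx : ∃ j : ℕ, C.relIndex K = p ^ j) {e : MonoidAlgebra (KF M) G}
    (he : IsBlk C e) (hst : IsFx K e) : IsBlk K e := by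
  have h1 : osum K e = e := by
    have h2 : orb K e = {e} := by
      ext z
      rw [mem_orb, Finset.mem_singleton]
      constructor
      · rintro ⟨g, hg, rfl⟩; exact hst g hg
      · rintro rfl; exact ⟨1, K.one_mem, cj_one_apply _⟩
    unfold osum
    rw [h2, Finset.sum_singleton]
  have h2 := isBlk_osum he hK hCK
    (fun _ ha haa => isSup_idem_of_reg hMp (fun x hx h => mem_of_relIndex_pow hK hidx hx h) ha haa)
  rwa [h1] at h2

theorem stab_inf_eq (hMp : IsPModular p M) {N L : Subgroup G} [hN : N.Normal] [hL : L.Normal]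
    (hNL : N ≤ L) (hLN : ∃ j : ℕ, N.relIndex L = p ^ j) {E e : MonoidAlgebra (KF M) G}
    (hE : IsBlk ⊤ E) (he : IsBlk N e) (hne : E * e ≠ 0)
    (hD : ∃ D, IsDef p ⊤ E D ∧ D ≤ N) : stab ⊤ e ⊓ L = N := by
  have hch : CharP (KF M) p := charP_KF hMp
  obtain ⟨D, hD, hDN⟩ := hD
  have hNT : N ≤ stab ⊤ e := le_stab_top he
  have hNS : N ≤ stab ⊤ e ⊓ L := le_inf hNT hNL
  have hSn : stab ⊤ e ⊓ L ≤ nz N := fun g _ => mem_nz_normal g
  have hdvd : N.relIndex (stab ⊤ e ⊓ L) ∣ N.relIndex L := by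
    have h1 : N.relIndex (stab ⊤ e ⊓ L) * (stab ⊤ e ⊓ L).relIndex L = N.relIndex L :=
      Subgroup.relIndex_mul_relIndex _ _ _ hNS inf_le_right
    exact Dvd.intro _ h1
  have hpow : ∃ j : ℕ, N.relIndex (stab ⊤ e ⊓ L) = p ^ j := by
    obtain ⟨j, hj⟩ := hLN
    rw [hj] at hdvd
    obtain ⟨i, -, hi⟩ := (Nat.dvd_prime_pow hp.out).mp hdvd
    exact ⟨i, hi⟩
  have heS : IsBlk (stab ⊤ e ⊓ L) e :=
    isBlk_of_stable_pow hMp hNS hSn hpow he ((isFx_stab ⊤ e).mono inf_le_left)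
  obtain ⟨E', hE', hne', hosum⟩ := exists_FR he hE hne
  have hn : ((stab ⊤ e ⊓ L).subgroupOf (stab ⊤ e)).Normal := by
    have : (stab ⊤ e ⊓ L).subgroupOf (stab ⊤ e) = L.subgroupOf (stab ⊤ e) := by
      ext x; simp [Subgroup.mem_subgroupOf]
    rw [this]; exact hL.subgroupOf _
  obtain ⟨Q, hQ⟩ := heS.exists_isDef (p := p)
  obtain ⟨P, hP, hPS⟩ := knorr_sub inf_le_left hn hE' heS hne' hQ
  have hPE : IsDef p ⊤ E P := by rw [← hosum]; exact isDef_FR he hE' hne' hP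
  obtain ⟨x, -, hx⟩ := hD.unique hPE
  have hPN : P ≤ N := by
    rw [← hx]
    have := cg_mono hDN x
    rwa [cg_normal N] at this
  have hQN : Q ≤ N := by rw [← hPS]; exact inf_le_left.trans hPN
  have h1 := not_dvd_relIndex_of_stable (p := p) hNS hSn he heS hQ
  rw [sup_of_le_left hQN] at h1
  obtain ⟨j, hj⟩ := hpow
  have hj0 : j = 0 := by
    by_contra h
    exact h1 (hj ▸ dvd_pow_self p h)
  rw [hj0, pow_zero, Subgroup.relIndex_eq_one] at hj
  exact le_antisymm hj hNS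

end Alg

theorem st4673 {G : Type u} [Group G] [Fintype G] (p : ℕ) [Fact p.Prime] (M : Ideal AlgInt)
    (hM : IsPModular p M) (N L : Subgroup G) [hN : N.Normal] [hL : L.Normal] [Fintype N]
    (hNL : N ≤ L) (hLN : ∃ k : ℕ, (N.subgroupOf L).index = p ^ k) (B : Set (IrrCharacter G))
    (hB : IsPBlock M B) (c : Set (IrrCharacter N)) (hc : IsPBlock M c)
    (hcov : (∃ χ ∈ B, ∃ θ ∈ c, classInner (fun n : N => (χ : G → ℂ) n) (θ : N → ℂ) ≠ 0))
    (hD : ∃ D : Subgroup G, IsDefectGroup p M B D ∧ D ≤ N) (T : Subgroup G)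
    (hT : ∀ x : G, x ∈ T ↔ StabilizesBlock N c x) : T ⊓ L = N := by
  have hpr : M.IsPrime := hM.2.1.isPrime
  have hch : CharP (KF M) p := charP_KF hM
  have hTs : T = stab ⊤ (EH M N c) := by
    ext x
    rw [hT, stabilizesBlock_iff hc, mem_stab_top]
    exact ⟨fun h => h.2, fun h => ⟨mem_nz_normal x, h⟩⟩
  rw [hTs]
  obtain ⟨D, hD, hDN⟩ := hD
  exact stab_inf_eq hM hNL hLN (isBlk_EG hB) (isBlk_EH hc) ((covB_iff hB hc).mp hcov)
    ⟨D, (isDefectGroup_iff_EG hB).mp hD, hDN⟩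

end Cfsg.Agent.H26
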