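import Mathlib
import Cfsg.Agent.H26.StabP
import Cfsg.Agent.H18.CharP

set_option autoImplicit false

namespace Cfsg.Agent.H26

open MonoidAlgebra MulAction Cfsg Cfsg.Agent.H11 Cfsg.Agent.H3

universe u

theorem st4487 {G : Type u} [Group G] [Finite G] (p : ℕ) [hp : Fact p.Prime] (M : Ideal AlgInt)
    (hM : IsPModular p M)
    (hconstr : Subgroup.centralizer ((pCore p G) : Set G) ≤ pCore p G)
    (χ ψ : IrrCharacter G) : SameBlock M (χ : G → ℂ) (ψ : G → ℂ) := by
  have hpr : M.IsPrime := hM.2.1.isPrime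
  have hch : CharP (KF M) p := charP_KF hM
  have hQp : IsPGroup p (pCore p G) := H1.pCore_isPGroup p G
  have hQn : (pCore p G).Normal := H1.pCore_normal p G
  have key : ∀ E : MonoidAlgebra (KF M) G, IsBlk ⊤ E → ∀ x ≠ 1, E.coeff x = 0 := by
    intro E hE x hx
    have h1 : br (pCore p G) E = E :=
      br_idem_eq hQp le_top (fun g _ => mem_nz_normal g) hE.mem hE.idem
    by_cases hxc : x ∈ cz (pCore p G)
    · have h2 : x ∈ pCore p G := hconstr hxc
      obtain ⟨k, hk⟩ := hQp ⟨x, h2⟩
      have hk' : x ^ p ^ k = 1 := congrArg Subtype.val hk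
      obtain ⟨j, -, hj⟩ := (Nat.dvd_prime_pow hp.out).mp (orderOf_dvd_of_pow_eq_one hk')
      apply coeff_idem_eq_zero hM hE.mem hE.idem
      rw [hj]
      apply dvd_pow_self
      rintro rfl
      rw [pow_zero, orderOf_eq_one_iff] at hj
      exact hx hj
    · rw [← h1, coeff_br_of_notMem _ hxc]
  have key2 : ∀ E : MonoidAlgebra (KF M) G, IsBlk ⊤ E → ∃ c : KF M, c ≠ 0 ∧ E = single 1 c := by
    intro E hE
    have h1 : E = single 1 (E.coeff 1) := by
      ext x
      by_cases hx : x = 1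
      · rw [hx]; simp
      · rw [key E hE x hx]
        have : (single (1 : G) (E.coeff 1) : MonoidAlgebra (KF M) G).coeff x = 0 := by
          simp [Ne.symm hx]
        exact this.symm
    refine ⟨E.coeff 1, ?_, h1⟩
    intro h0
    apply hE.ne_zero
    rw [h1, h0]
    exact single_zero 1
  have hfin : Fintype G := Fintype.ofFinite G
  have h3 : blockOf M (χ : G → ℂ) = blockOf M (ψ : G → ℂ) := by
    have hB₁ : IsPBlock M (blockOf M (χ : G → ℂ)) := ⟨χ, rfl⟩
    have hB₂ : IsPBlock M (blockOf M (ψ : G → ℂ)) := ⟨ψ, rfl⟩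
    apply EG_injective (M := M) hB₁ hB₂
    by_contra hne
    obtain ⟨c, hc, h1⟩ := key2 _ (isBlk_EG hB₁)
    obtain ⟨d, hd, h2⟩ := key2 _ (isBlk_EG hB₂)
    have h4 := (isBlk_EG hB₁).mul_of_ne (isBlk_EG hB₂) hne
    rw [h1, h2, single_mul_single, one_mul, single_eq_zero] at h4
    exact mul_ne_zero hc hd h4
  have h4 : ψ ∈ blockOf M (χ : G → ℂ) := by
    rw [h3]; exact mem_blockOf_self ψ
  exact h4

theorem st4668 {G : Type u} [Group G] [Fintype G] (p : ℕ) [hp : Fact p.Prime] (M : Ideal AlgInt)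
    (hM : IsPModular p M) (m : ℕ) (Q : Fin (m + 1) → Subgroup G) (hQ : StrictMono Q)
    (hQp : ∀ i, IsPGroup p (Q i)) (N : Subgroup G)
    (hN : ∀ g : G, g ∈ N ↔ ∀ i, g ∈ Subgroup.normalizer (Q i : Set G))
    (E : Set (IrrCharacter N)) (hE : IsPBlock M E) (n : N)
    (hn : (n : G) ∉ Subgroup.centralizer (Q (Fin.last m) : Set G)) : blockCoeff E n = 0 := by
  have hpr : M.IsPrime := hM.2.1.isPrime
  have hch : CharP (KF M) p := charP_KF hM
  by_cases hord : p ∣ orderOf n
  · have := Fintype.ofFinite N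
    exact blockCoeff_eq_zero hM hE n hord
  have hordG : (orderOf (n : G)).Coprime p := by
    rw [Subgroup.orderOf_coe]
    exact ((Nat.Prime.coprime_iff_not_dvd hp.out).mpr hord).symm
  obtain ⟨R, hR⟩ : ∃ R, R = Q (Fin.last m) ⊓ N := ⟨_, rfl⟩
  have hRp : IsPGroup p R := by rw [hR]; exact (hQp _).to_le inf_le_left
  have hRN : R ≤ N := by rw [hR]; exact inf_le_right
  have hNR : N ≤ nz R := by
    intro g hg
    apply mem_nz_of_cg_eq
    have h1 : cg (Q (Fin.last m)) g = Q (Fin.last m) := cg_eq_of_mem_nz ((hN g).mp hg _)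
    have h2 : cg N g = N := cg_eq_of_mem hg
    rw [hR]
    change (Q (Fin.last m) ⊓ N).map (MulAut.conj g).toMonoidHom = _
    rw [Subgroup.map_inf _ _ _ (MulAut.conj g).injective]
    exact congrArg₂ (· ⊓ ·) h1 h2
  have hEb := isBlk_EH hE
  have h1 : br R (EH M N E) = EH M N E := br_idem_eq hRp hRN hNR hEb.mem hEb.idem
  have hs : IsSup (cz R ⊓ N) (EH M N E) := by
    intro x hx
    by_cases hxN : x ∈ N
    · rw [← h1, coeff_br_of_notMem]
      exact fun h => hx ⟨h, hxN⟩
    · exact hEb.isSup x hxN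
  have hKn : N ≤ nz (cz R ⊓ N) := by
    intro g hg
    apply mem_nz_of_cg_eq
    have h2 : cg (cz R) g = cz R := by rw [cg_cz, cg_eq_of_mem_nz (hNR hg)]
    have h3 : cg N g = N := cg_eq_of_mem hg
    change (cz R ⊓ N).map (MulAut.conj g).toMonoidHom = _
    rw [Subgroup.map_inf _ _ _ (MulAut.conj g).injective]
    exact congrArg₂ (· ⊓ ·) h2 h3
  apply blockCoeff_eq_zero_of_isSup (M := M) (MulEquiv.refl N) inf_le_right hKn hE hs
  rintro ⟨hnR, -⟩
  apply hn
  -- the element centralizes every Q i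
  have hnN := n.2
  have key : ∀ i : ℕ, ∀ hi : i < m + 1, (n : G) ∈ cz (Q ⟨i, hi⟩) := by
    intro i
    induction i with
    | zero =>
      intro hi
      apply cz_anti (P := R) _ hnR
      rw [hR]
      refine le_inf (hQ.monotone (Fin.le_last _)) ?_
      intro g hg
      rw [hN]
      intro j
      apply Subgroup.le_normalizer
      exact hQ.monotone (Fin.zero_le j) hg
    | succ i ih =>
      intro hi
      have ih' := ih (by omega)
      refine H18.axb_elem (p := p) (B := Q ⟨i, by omega⟩) (hQp _) (hQp _) hordG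
        ((hN _).mp hnN _) ?_ ih' ?_
      · exact (hQ.monotone (by rw [Fin.le_def]; exact Nat.le_succ i)).trans Subgroup.le_normalizer
      · intro u hu huc
        have huR : u ∈ R := by
          rw [hR]
          refine ⟨hQ.monotone (Fin.le_last _) hu, (hN u).mpr ?_⟩
          intro j
          by_cases hj : (j : ℕ) ≤ i
          · apply centralizer_le_normalizer'
            exact cz_anti (hQ.monotone (show j ≤ ⟨i, by omega⟩ by rw [Fin.le_def]; exact hj)) huc
          · apply Subgroup.le_normalizer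
            exact hQ.monotone (show (⟨i + 1, hi⟩ : Fin (m + 1)) ≤ j by
              rw [Fin.le_def]; simp only; omega) hu
        exact (Subgroup.mem_centralizer_iff.mp hnR u huR).symm
  exact key m (Nat.lt_succ_self m)

end Cfsg.Agent.H26
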