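import Mathlib
import Cfsg.Agent.H26.SCore

set_option autoImplicit false

/-!
# Min–max: defects of blocks and classes
-/

namespace Cfsg.Agent.H26

open MonoidAlgebra MulAction Cfsg Cfsg.Agent.H11 Cfsg.Agent.H3

universe u

theorem card_le_of_dual {k ι S : Type*} [Field k] [Finite ι] [Finite S] (g f : ι → S → k)
    (h : ∀ i j, i ≠ j → ∑ᶠ s, g i s * f j s = 0) (h1 : ∀ i, ∑ᶠ s, g i s * f i s = 1) :
    Nat.card ι ≤ Nat.card S := by
  classical
  have := Fintype.ofFinite ι
  have := Fintype.ofFinite S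
  have hli : LinearIndependent k g := by
    rw [Fintype.linearIndependent_iff]
    intro c hc j
    have h2 : ∑ i, c i * ∑ s, g i s * f j s = 0 := by
      have h3 : ∑ i, c i * ∑ s, g i s * f j s = ∑ s, (∑ i, c i • g i) s * f j s := by
        simp only [Finset.sum_apply, Pi.smul_apply, smul_eq_mul, Finset.sum_mul, Finset.mul_sum]
        rw [Finset.sum_comm]
        apply Finset.sum_congr rfl; intro s _
        apply Finset.sum_congr rfl; intro i _
        ring
      rw [h3, hc]
      simp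
    rw [Finset.sum_eq_single j] at h2
    · rw [← finsum_eq_sum_of_fintype, h1, mul_one] at h2
      exact h2
    · intro i _ hij
      rw [← finsum_eq_sum_of_fintype, h i j hij, mul_zero]
    · intro h'; exact absurd (Finset.mem_univ j) h'
  have h2 := hli.fintype_card_le_finrank
  rw [Module.finrank_fintype_fun_eq_card] at h2
  rwa [Nat.card_eq_fintype_card, Nat.card_eq_fintype_card]

section Alg

variable {k : Type*} [Field k] {G : Type*} [Group G] [Finite G]

/-- a representative of a conjugacy class -/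
noncomputable def rp {G : Type*} [Group G] (C : ConjClasses G) : G := (Quotient.exists_rep C).choose

theorem mk_rp {G : Type*} [Group G] (C : ConjClasses G) : ConjClasses.mk (rp C) = C :=
  (Quotient.exists_rep C).choose_spec

theorem rp_isConj {G : Type*} [Group G] {C : ConjClasses G} {x : G} (h : ConjClasses.mk x = C) :
    IsConj (rp C) x := by
  rw [← ConjClasses.mk_eq_mk_iff_isConj, mk_rp, h]

theorem Zc_expand {a : MonoidAlgebra k G} (ha : a ∈ Zc k (⊤ : Subgroup G))
    [Fintype (ConjClasses G)] :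
    a = ∑ C : ConjClasses G, a.coeff (rp C) • cls k (⊤ : Subgroup G) (rp C) := by
  classical
  ext y
  have h1 : ∀ s : Finset (ConjClasses G),
      (∑ C ∈ s, a.coeff (rp C) • cls k (⊤ : Subgroup G) (rp C)).coeff y =
      ∑ C ∈ s, a.coeff (rp C) * (cls k (⊤ : Subgroup G) (rp C)).coeff y := by
    intro s
    induction s using Finset.induction_on with
    | empty => rfl
    | insert C s hC ih =>
      rw [Finset.sum_insert hC, Finset.sum_insert hC, ← ih]
      rfl
  rw [h1, Finset.sum_eq_single (ConjClasses.mk y)]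
  · rw [coeff_cls]
    obtain ⟨g, hg⟩ := isConj_iff.mp (rp_isConj (rfl : ConjClasses.mk y = ConjClasses.mk y))
    rw [if_pos ⟨g, Subgroup.mem_top g, hg⟩, mul_one]
    have h3 : (cj g a).coeff y = a.coeff y := by rw [ha.2 g (Subgroup.mem_top g)]
    rw [← h3, coeff_cj]
    have h4 : g⁻¹ * y * g = rp (ConjClasses.mk y) := by
      calc g⁻¹ * y * g = g⁻¹ * (g * rp (ConjClasses.mk y) * g⁻¹) * g := by rw [hg]
        _ = _ := by group
    rw [h4]
  · intro C _ hC
    rw [coeff_cls, if_neg, mul_zero]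
    rintro ⟨g, -, hg⟩
    apply hC
    rw [← mk_rp C, ConjClasses.mk_eq_mk_iff_isConj]
    exact isConj_iff.mpr ⟨g, hg⟩
  · intro h; exact absurd (Finset.mem_univ _) h

theorem algHom_expand {a : MonoidAlgebra k G} (ha : a ∈ Zc k (⊤ : Subgroup G))
    [Fintype (ConjClasses G)] (μ : Zc k (⊤ : Subgroup G) →ₐ[k] k) :
    μ ⟨a, ha⟩ = ∑ C : ConjClasses G, a.coeff (rp C) *
      μ ⟨cls k (⊤ : Subgroup G) (rp C), cls_mem_Zc (Subgroup.mem_top _)⟩ := by
  have h1 : (⟨a, ha⟩ : Zc k (⊤ : Subgroup G)) = ∑ C : ConjClasses G, a.coeff (rp C) •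
      (⟨cls k (⊤ : Subgroup G) (rp C), cls_mem_Zc (Subgroup.mem_top _)⟩ :
        Zc k (⊤ : Subgroup G)) := by
    apply Subtype.ext
    rw [AddSubmonoidClass.coe_finset_sum]
    exact Zc_expand ha
  rw [h1, map_sum]
  apply Finset.sum_congr rfl
  intro C _
  rw [map_smul, smul_eq_mul]

variable {p : ℕ} [hp : Fact p.Prime] [CharP k p]

omit [Finite G] hp [CharP k p] in
theorem cent_card_conj {x y : G} (h : IsConj x y) :
    Nat.card (Subgroup.centralizer ({x} : Set G)) =
      Nat.card (Subgroup.centralizer ({y} : Set G)) := by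
  obtain ⟨g, hg⟩ := isConj_iff.mp h
  have h1 : cg (Subgroup.centralizer ({x} : Set G)) g = Subgroup.centralizer ({y} : Set G) := by
    ext z
    rw [mem_cg, Subgroup.mem_centralizer_singleton_iff, Subgroup.mem_centralizer_singleton_iff,
      ← hg]
    constructor
    · intro h2
      calc z * (g * x * g⁻¹) = g * (g⁻¹ * z * g * x) * g⁻¹ := by group
        _ = g * (x * (g⁻¹ * z * g)) * g⁻¹ := by rw [h2]
        _ = g * x * g⁻¹ * z := by group
    · intro h2
      calc g⁻¹ * z * g * x = g⁻¹ * (z * (g * x * g⁻¹)) * g := by group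
        _ = g⁻¹ * (g * x * g⁻¹ * z) * g := by rw [h2]
        _ = x * (g⁻¹ * z * g) := by group
  rw [← h1, card_cg]

theorem card_dvd_centralizer {D : Subgroup G} {x : G} (h : x ∈ cz D) :
    Nat.card D ∣ Nat.card (Subgroup.centralizer ({x} : Set G)) := by
  apply Subgroup.card_dvd_of_le
  exact le_cz_iff.mpr h

/-- `λ_B(C) ≠ 0` implies `d(C) ≥ d(B)` -/
theorem card_dvd_of_lam_ne_zero [IsAlgClosed k] {μ : Zc k (⊤ : Subgroup G) →ₐ[k] k}
    {D : Subgroup G} (hD : IsDef p ⊤ ((pid μ : Zc k (⊤ : Subgroup G)) : MonoidAlgebra k G) D)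
    {x : G} (h : μ ⟨cls k (⊤ : Subgroup G) x, cls_mem_Zc (Subgroup.mem_top _)⟩ ≠ 0) :
    Nat.card D ∣ Nat.card (Subgroup.centralizer ({x} : Set G)) := by
  have h1 := br_ne_zero_of_algHom hD.2.1 le_top μ hD.2.2.1 _ h
  obtain ⟨y, hy⟩ : ∃ y, (br D (cls k (⊤ : Subgroup G) x)).coeff y ≠ 0 := by
    by_contra h2
    push Not at h2
    apply h1
    ext y
    exact h2 y
  have hyD : y ∈ cz D := by
    by_contra h2
    exact hy (coeff_br_of_notMem _ h2)
  rw [coeff_br_of_mem _ hyD, coeff_cls] at hy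
  have h3 : IsConj x y := by
    by_contra h4
    apply hy
    rw [if_neg]
    rintro ⟨g, -, hg⟩
    exact h4 (isConj_iff.mpr ⟨g, hg⟩)
  rw [cent_card_conj h3]
  exact card_dvd_centralizer hyD

/-- `a_B(C) ≠ 0` implies `d(C) ≤ d(B)` -/
theorem card_dvd_of_coeff_ne_zero {E : MonoidAlgebra k G} {D : Subgroup G}
    (hD : IsDef p ⊤ E D) {x : G} (h : E.coeff x ≠ 0) :
    p ^ (Nat.card (Subgroup.centralizer ({x} : Set G))).factorization p ∣ Nat.card D := by
  obtain ⟨R, hRp, hRx, hcard⟩ : ∃ R : Subgroup G, IsPGroup p R ∧ x ∈ cz R ∧ Nat.card R =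
      p ^ (Nat.card (Subgroup.centralizer ({x} : Set G))).factorization p := by
    let S : Sylow p (Subgroup.centralizer ({x} : Set G)) := default
    refine ⟨um (S : Subgroup (Subgroup.centralizer ({x} : Set G))),
      (isPGroup_um (K := Subgroup.centralizer ({x} : Set G))
        (D := (S : Subgroup (Subgroup.centralizer ({x} : Set G))))).mpr S.isPGroup', ?_, ?_⟩
    · rw [← le_cz_iff]; exact um_le _
    · rw [card_um]; exact S.card_eq_multiplicity
  have h1 : br R E ≠ 0 := by
    intro h2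
    apply h
    rw [← coeff_br_of_mem E hRx, h2]
    rfl
  obtain ⟨g, -, hg⟩ := hD.2.2.2 R le_top hRp h1
  rw [← hcard, ← card_cg R g]
  exact Subgroup.card_dvd_of_le hg

end Alg

section Dict

variable {M : Ideal AlgInt} [hM : M.IsPrime] {G : Type u} [Group G] [Finite G] {p : ℕ}
  [hp : Fact p.Prime]

/-- the central character of a block at a class -/
noncomputable def lmB (M : Ideal AlgInt) [M.IsPrime] (χ : IrrCharacter G) (x : G) : KF M :=
  rd M (centralChar (χ : G → ℂ) x)

theorem lmB_eq (χ : IrrCharacter G) (x : G) :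
    lam (M := M) (Subgroup.topEquiv.symm : G ≃* (⊤ : Subgroup G)) χ
      ⟨cls (KF M) (⊤ : Subgroup G) x, cls_mem_Zc (Subgroup.mem_top _)⟩ = lmB M χ x :=
  lam_cls (Subgroup.topEquiv.symm : G ≃* (⊤ : Subgroup G)) χ x

theorem lam_EG_eq (χ : IrrCharacter G) {B : Set (IrrCharacter G)} (hB : IsPBlock M B)
    [Fintype (ConjClasses G)] [Decidable (χ ∈ B)] :
    ∑ C : ConjClasses G, (EG M B).coeff (rp C) * lmB M χ (rp C) = if χ ∈ B then 1 else 0 := by
  have h1 := lam_Eb (M := M) (Subgroup.topEquiv.symm : G ≃* (⊤ : Subgroup G)) χ hB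
  rw [algHom_expand] at h1
  have h2 : ∑ C : ConjClasses G, (EG M B).coeff (rp C) * lmB M χ (rp C) =
      ∑ C : ConjClasses G, (EG M B).coeff (rp C) *
        lam (M := M) (Subgroup.topEquiv.symm : G ≃* (⊤ : Subgroup G)) χ
      ⟨cls (KF M) (⊤ : Subgroup G) (rp C), cls_mem_Zc (Subgroup.mem_top _)⟩ := by
    apply Finset.sum_congr rfl
    intro C _
    rw [lmB_eq]
  rw [h2]
  convert h1

theorem defect_le_of_lmB_ne_zero (hMp : IsPModular p M) {B : Set (IrrCharacter G)}
    (hB : IsPBlock M B) {χ : IrrCharacter G} (hχ : χ ∈ B) {x : G} (h : lmB M χ x ≠ 0) :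
    blockDefect p B ≤ (Nat.card (Subgroup.centralizer ({x} : Set G))).factorization p := by
  have hch : CharP (KF M) p := charP_KF hMp
  have hfin : Fintype G := Fintype.ofFinite G
  obtain ⟨D, hD⟩ := exists_isDefectGroup hMp hB
  have hD' := (isDefectGroup_iff_EG hB).mp hD
  have h1 := Eb_eq_pid (M := M) (Subgroup.topEquiv.symm : G ≃* (⊤ : Subgroup G)) hB hχ
  have h2 : EG M B = ((pid (lam (M := M) (Subgroup.topEquiv.symm : G ≃* (⊤ : Subgroup G)) χ) :
      Zc (KF M) (⊤ : Subgroup G)) : MonoidAlgebra (KF M) G) := congrArg Subtype.val h1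
  rw [h2] at hD'
  rw [← lmB_eq] at h
  have h3 := card_dvd_of_lam_ne_zero hD' h
  rw [card_defect hMp hB hD] at h3
  exact (hp.out.pow_dvd_iff_le_factorization Nat.card_pos.ne').mp h3

theorem le_defect_of_coeff_ne_zero (hMp : IsPModular p M) {B : Set (IrrCharacter G)}
    (hB : IsPBlock M B) {x : G} (h : (EG M B).coeff x ≠ 0) :
    (Nat.card (Subgroup.centralizer ({x} : Set G))).factorization p ≤ blockDefect p B := by
  have hch : CharP (KF M) p := charP_KF hMp
  have hfin : Fintype G := Fintype.ofFinite G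
  obtain ⟨D, hD⟩ := exists_isDefectGroup hMp hB
  have h1 := card_dvd_of_coeff_ne_zero ((isDefectGroup_iff_EG hB).mp hD) h
  rw [card_defect hMp hB hD] at h1
  exact (Nat.pow_dvd_pow_iff_le_right hp.out.one_lt).mp h1

theorem coeff_EG_pregular (hMp : IsPModular p M) {B : Set (IrrCharacter G)}
    (hB : IsPBlock M B) {x : G} (h : (EG M B).coeff x ≠ 0) : ¬ p ∣ orderOf x := by
  have hfin : Fintype G := Fintype.ofFinite G
  intro hx
  apply h
  rw [coeff_EG, blockCoeff_eq_zero hMp hB x hx, rd_zero]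

/-- counting blocks by classes -/
theorem card_blocks_le (hMp : IsPModular p M) (P : Set (IrrCharacter G) → Prop)
    (S : Set (ConjClasses G))
    (h : ∀ B B' : Set (IrrCharacter G), IsPBlock M B → IsPBlock M B' → P B → P B' →
      ∀ χ ∈ B', ∀ C : ConjClasses G, (EG M B).coeff (rp C) ≠ 0 → lmB M χ (rp C) ≠ 0 → C ∈ S) :
    Nat.card {B : Set (IrrCharacter G) // IsPBlock M B ∧ P B} ≤ Nat.card S := by
  classical
  have hfG : Fintype G := Fintype.ofFinite _
  have hfC : Fintype (ConjClasses G) := Fintype.ofFinite _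
  have hfI : Finite (IrrCharacter G) := inferInstance
  have hex : ∀ B : {B : Set (IrrCharacter G) // IsPBlock M B ∧ P B}, ∃ χ : IrrCharacter G,
      χ ∈ (B : Set (IrrCharacter G)) := fun B => exists_mem_block B.2.1
  choose c hc using hex
  have key : ∀ i j : {B : Set (IrrCharacter G) // IsPBlock M B ∧ P B},
      ∑ᶠ s : S, (EG M (i : Set (IrrCharacter G))).coeff (rp (s : ConjClasses G)) *
        lmB M (c j) (rp (s : ConjClasses G)) = if i = j then 1 else 0 := by
    intro i j
    have h1 := lam_EG_eq (M := M) (c j) i.2.1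
    rw [finsum_eq_sum_of_fintype]
    have h2 : ∑ s : S, (EG M (i : Set (IrrCharacter G))).coeff (rp (s : ConjClasses G)) *
        lmB M (c j) (rp (s : ConjClasses G)) = ∑ C : ConjClasses G,
        (EG M (i : Set (IrrCharacter G))).coeff (rp C) * lmB M (c j) (rp C) := by
      rw [← Finset.sum_subset (Finset.subset_univ (Finset.univ.filter (· ∈ S)))]
      · symm
        exact Finset.sum_subtype _ (fun x => by simp) _
      · intro C _ hC
        rw [Finset.mem_filter] at hC
        by_contra hne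
        apply hC
        exact ⟨Finset.mem_univ _, h i j i.2.1 j.2.1 i.2.2 j.2.2 (c j) (hc j) C
          (left_ne_zero_of_mul hne) (right_ne_zero_of_mul hne)⟩
    rw [h2, h1]
    by_cases hij : i = j
    · rw [if_pos hij, if_pos]
      rw [hij]; exact hc j
    · rw [if_neg hij, if_neg]
      intro hcj
      apply hij
      apply Subtype.ext
      rw [isPBlock_eq_blockOf i.2.1 hcj, isPBlock_eq_blockOf j.2.1 (hc j)]
  apply card_le_of_dual (k := KF M)
    (fun (i : {B : Set (IrrCharacter G) // IsPBlock M B ∧ P B}) (s : S) =>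
      (EG M (i : Set (IrrCharacter G))).coeff (rp (s : ConjClasses G)))
    (fun (j : {B : Set (IrrCharacter G) // IsPBlock M B ∧ P B}) (s : S) =>
      lmB M (c j) (rp (s : ConjClasses G)))
  · intro i j hij
    rw [key, if_neg hij]
  · intro i
    rw [key, if_pos rfl]

end Dict

section St

variable {G : Type u} [Group G] [Finite G]

theorem st0962 (p : ℕ) [Fact p.Prime] (M : Ideal AlgInt) (hM : IsPModular p M) (d : ℕ) :
    Nat.card {B : Set (IrrCharacter G) // IsPBlock M B ∧ d ≤ blockDefect p B} ≤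
      Nat.card {C : ConjClasses G // ∃ g : G, ConjClasses.mk g = C ∧ IsPRegular p g ∧
        d ≤ (Nat.card (Subgroup.centralizer ({g} : Set G))).factorization p} := by
  have hpr : M.IsPrime := hM.2.1.isPrime
  apply card_blocks_le hM (fun B => d ≤ blockDefect p B)
    {C : ConjClasses G | ∃ g : G, ConjClasses.mk g = C ∧ IsPRegular p g ∧
        d ≤ (Nat.card (Subgroup.centralizer ({g} : Set G))).factorization p}
  intro B B' hB hB' hd hd' χ hχ C h1 h2
  exact ⟨rp C, mk_rp C, coeff_EG_pregular hM hB h1, hd'.trans (defect_le_of_lmB_ne_zero hM hB' hχ h2)⟩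

theorem st4505 (p : ℕ) [Fact p.Prime] (M : Ideal AlgInt) (hM : IsPModular p M) (σ : ℕ) :
    Nat.card {B : Set (IrrCharacter G) // IsPBlock M B ∧ blockDefect p B = σ} ≤
      Nat.card {C : ConjClasses G // ∃ g : G, ConjClasses.mk g = C ∧ ¬ p ∣ orderOf g ∧
        (Nat.card (Subgroup.centralizer ({g} : Set G))).factorization p = σ} := by
  have hpr : M.IsPrime := hM.2.1.isPrime
  apply card_blocks_le hM (fun B => blockDefect p B = σ)
    {C : ConjClasses G | ∃ g : G, ConjClasses.mk g = C ∧ ¬ p ∣ orderOf g ∧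
        (Nat.card (Subgroup.centralizer ({g} : Set G))).factorization p = σ}
  intro B B' hB hB' hd hd' χ hχ C h1 h2
  refine ⟨rp C, mk_rp C, coeff_EG_pregular hM hB h1, le_antisymm ?_ ?_⟩
  · rw [← hd]; exact le_defect_of_coeff_ne_zero hM hB h1
  · rw [← hd']; exact defect_le_of_lmB_ne_zero hM hB' hχ h2

theorem st4510 (p : ℕ) [Fact p.Prime] (M : Ideal AlgInt) (hM : IsPModular p M) (d : ℕ)
    (χ ψ : IrrCharacter G) (hχ : blockDefect p (blockOf M (χ : G → ℂ)) = d)
    (hψ : blockDefect p (blockOf M (ψ : G → ℂ)) = d) :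
    SameBlock M (χ : G → ℂ) (ψ : G → ℂ) ↔ ∀ x : G, ¬ p ∣ orderOf x →
      (Nat.card (Subgroup.centralizer ({x} : Set G))).factorization p = d →
      MemLocalIdeal M (centralChar (χ : G → ℂ) x - centralChar (ψ : G → ℂ) x) := by
  classical
  have hpr : M.IsPrime := hM.2.1.isPrime
  have hfG : Fintype G := Fintype.ofFinite _
  have hfC : Fintype (ConjClasses G) := Fintype.ofFinite _
  constructor
  · intro h x _ _; exact h x
  · intro h
    have hB : IsPBlock M (blockOf M (χ : G → ℂ)) := ⟨χ, rfl⟩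
    have hB' : IsPBlock M (blockOf M (ψ : G → ℂ)) := ⟨ψ, rfl⟩
    have h1 := lam_EG_eq (M := M) χ hB
    have h2 := lam_EG_eq (M := M) ψ hB
    rw [if_pos (mem_blockOf_self χ)] at h1
    have h3 : ∑ C : ConjClasses G, (EG M (blockOf M (χ : G → ℂ))).coeff (rp C) * lmB M χ (rp C) =
        ∑ C : ConjClasses G, (EG M (blockOf M (χ : G → ℂ))).coeff (rp C) * lmB M ψ (rp C) := by
      apply Finset.sum_congr rfl
      intro C _
      by_cases h4 : (EG M (blockOf M (χ : G → ℂ))).coeff (rp C) = 0
      · rw [h4, zero_mul, zero_mul]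
      have h5 := le_defect_of_coeff_ne_zero hM hB h4
      have h6 := coeff_EG_pregular hM hB h4
      congr 1
      by_cases h7 : (Nat.card (Subgroup.centralizer ({rp C} : Set G))).factorization p = d
      · unfold lmB
        exact (rd_eq_iff (lr_centralChar χ.2 _) (lr_centralChar ψ.2 _)).mpr (h _ h6 h7)
      · have h8 : lmB M χ (rp C) = 0 := by
          by_contra h9
          have := defect_le_of_lmB_ne_zero hM hB (mem_blockOf_self χ) h9
          omega
        have h10 : lmB M ψ (rp C) = 0 := by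
          by_contra h9
          have := defect_le_of_lmB_ne_zero hM hB' (mem_blockOf_self ψ) h9
          omega
        rw [h8, h10]
    rw [h1, h2] at h3
    by_cases h4 : ψ ∈ blockOf M (χ : G → ℂ)
    · exact h4
    · rw [if_neg h4] at h3
      exact absurd h3 one_ne_zero

end St

end Cfsg.Agent.H26
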