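import Mathlib
import Cfsg.Agent.H26.MinMax
import Cfsg.Agent.H26.Princ

set_option autoImplicit false

/-!
# Deficiency classes
-/

namespace Cfsg.Agent.H26

open MonoidAlgebra MulAction Cfsg Cfsg.Agent.H11 Cfsg.Agent.H3

universe u

variable {G : Type u} [Group G] [Finite G] {p : ℕ} [hp : Fact p.Prime]

theorem card_isDef {M : Ideal AlgInt} [hM : M.IsPrime] (hMp : IsPModular p M) {H : Subgroup G}
    {b : Set (IrrCharacter H)} (hb : IsPBlock M b) {D : Subgroup G}
    (hD : IsDef p H (EH M H b) D) : Nat.card D = p ^ blockDefect p b := by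
  have hch : CharP (KF M) p := charP_KF hMp
  have hfin : Fintype H := Fintype.ofFinite H
  obtain ⟨D', hD'⟩ := exists_isDefectGroup hMp hb
  have h1 := (isDefectGroup_iff_EH' hb).mp hD'
  rw [hD.card_eq h1, ← card_defect hMp hb hD']
  exact card_um D'

theorem card_isDef_G {M : Ideal AlgInt} [hM : M.IsPrime] (hMp : IsPModular p M)
    {b : Set (IrrCharacter G)} (hb : IsPBlock M b) {D : Subgroup G}
    (hD : IsDef p ⊤ (EG M b) D) : Nat.card D = p ^ blockDefect p b := by
  have hch : CharP (KF M) p := charP_KF hMp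
  have hfin : Fintype G := Fintype.ofFinite G
  exact card_defect hMp hb ((isDefectGroup_iff_EG hb).mpr hD)

/-- the defect of a block of a local subgroup is at most the defect of the block of `G`. -/
theorem defect_le_of_inB {M : Ideal AlgInt} [hM : M.IsPrime] (hMp : IsPModular p M)
    {B : Set (IrrCharacter G)} (hB : IsPBlock M B) {Q : Subgroup G}
    {b : Set (IrrCharacter (cz Q))} (hb : IsPBlock M b)
    (hin : InB p (EG M B) Q (EH M (cz Q) b)) (hQ : Q ≤ cz Q) :
    blockDefect p b ≤ blockDefect p B := by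
  have hch : CharP (KF M) p := charP_KF hMp
  obtain ⟨D, hD⟩ := (isBlk_EH hb).exists_isDef (p := p)
  obtain ⟨D', hD'⟩ := (isBlk_EG hB).exists_isDef (p := p)
  have hQp := hin.2.1.1
  -- Q ≤ D
  have hQn : ∀ g ∈ cz Q, cg Q g = Q := fun g hg =>
    cg_eq_of_mem_nz (centralizer_le_normalizer' Q hg)
  have h1 : br Q (EH M (cz Q) b) = EH M (cz Q) b := (isBlk_EH hb).isSup.br_eq
  have hQD : Q ≤ D := by
    obtain ⟨h, hh, hle⟩ := hD.2.2.2 Q hQ hQp (by rw [h1]; exact (isBlk_EH hb).ne_zero)
    rw [hQn h hh] at hle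
    exact hle
  have h2 : br D (EG M B) ≠ 0 := by
    intro h0
    have h3 := congrArg (br D) hin.2.2
    have h4 : IsFx D (br Q (EG M B)) := by
      apply IsFx.rst ((EG_isFx B ⊤).mono le_top)
      intro g hg x
      have hgn : g ∈ nz (cz Q) := Subgroup.le_normalizer (hD.1 hg)
      exact (Subgroup.mem_normalizer_iff.mp hgn x).symm
    rw [br_mul hD.2.1 h4 ((isBlk_EH hb).isFx.mono hD.1), br_br hQD, h0, zero_mul] at h3
    exact hD.2.2.1 h3.symm
  obtain ⟨h, -, hle⟩ := hD'.2.2.2 D le_top hD.2.1 h2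
  have h3 := Subgroup.card_dvd_of_le hle
  rw [card_cg, card_isDef hMp hb hD, card_isDef_G hMp hB hD'] at h3
  exact (Nat.pow_dvd_pow_iff_le_right hp.out.one_lt).mp h3

theorem cent_zpowers (y : G) : Subgroup.centralizer ({y} : Set G) = cz (Subgroup.zpowers y) := by
  ext g
  rw [mem_cz_zpowers, Subgroup.mem_centralizer_singleton_iff]

theorem st4717a {M : Ideal AlgInt} [hM : M.IsPrime] (hMp : IsPModular p M) (r : ℕ)
    (h : ∀ B' : Set (IrrCharacter G), IsPBlock M B' → B' ≠ principalBlock M G →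
      blockDefect p B' < r) {y : G} (hy : ∃ k : ℕ, orderOf y = p ^ k)
    (C : Subgroup G) (hC : C = cz (Subgroup.zpowers y)) (b : Set (IrrCharacter C))
    (hb : IsPBlock M b) (hne : b ≠ principalBlock M C) : blockDefect p b < r := by
  subst hC
  have hch : CharP (KF M) p := charP_KF hMp
  have hQp : IsPGroup p (Subgroup.zpowers y) := by
    obtain ⟨k, hk⟩ := hy
    apply IsPGroup.of_card (n := k)
    rw [Nat.card_zpowers, hk]
  have hQ : Subgroup.zpowers y ≤ cz (Subgroup.zpowers y) := by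
    intro g hg
    rw [mem_cz_zpowers]
    obtain ⟨n, rfl⟩ := Subgroup.mem_zpowers_iff.mp hg
    exact ((Commute.refl y).zpow_left n).eq
  obtain ⟨E, hE, -⟩ := existsUnique_inB (p := p)
    (⟨hQp, isBlk_EH hb⟩ : IsBrP p (Subgroup.zpowers y) (EH M (cz (Subgroup.zpowers y)) b))
  obtain ⟨B, hB, rfl⟩ := exists_EG hE.1
  refine lt_of_le_of_lt (defect_le_of_inB hMp hB hb hE hQ) (h B hB ?_)
  rintro rfl
  rw [EG_principal, inB_pb_iff] at hE
  apply hne
  apply EH_injective (M := M) hb (isPBlock_principal _)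
  rw [EH_principal]
  exact hE.2

theorem st4717b {M : Ideal AlgInt} [hM : M.IsPrime] (hMp : IsPModular p M) (r : ℕ) (hr : 0 < r)
    (h : ∀ y : G, orderOf y = p → ∀ b : Set (IrrCharacter (cz (Subgroup.zpowers y))),
      IsPBlock M b → b ≠ principalBlock M (cz (Subgroup.zpowers y)) → blockDefect p b < r)
    (B : Set (IrrCharacter G)) (hB : IsPBlock M B) (hne : B ≠ principalBlock M G) :
    blockDefect p B < r := by
  have hch : CharP (KF M) p := charP_KF hMp
  by_contra hcon
  push Not at hcon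
  obtain ⟨D, hD⟩ := (isBlk_EG hB).exists_isDef (p := p)
  have hcard := card_isDef_G hMp hB hD
  obtain ⟨f, hf⟩ := hD.exists_inB (isBlk_EG hB)
  -- a central element of order p in D
  have hDne : Nontrivial D := by
    rw [← Finite.one_lt_card_iff_nontrivial, hcard]
    exact Nat.one_lt_pow (by omega) hp.out.one_lt
  have hcen : Nontrivial (Subgroup.center D) := hD.2.1.center_nontrivial
  have hdvd : p ∣ Nat.card (Subgroup.center D) := by
    obtain ⟨n, hn0, hn⟩ := (hD.2.1.to_subgroup (Subgroup.center D)).nontrivial_iff_card.mp hcen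
    rw [hn]; exact dvd_pow_self p (by omega)
  obtain ⟨z, hz⟩ := exists_prime_orderOf_dvd_card' p hdvd
  obtain ⟨y, hy⟩ : ∃ y : G, y = ((z : D) : G) := ⟨_, rfl⟩
  have hyo : orderOf y = p := by
    rw [hy, Subgroup.orderOf_coe, Subgroup.orderOf_coe]; exact hz
  have hyD : y ∈ D := by rw [hy]; exact (z : D).2
  have hyc : D ≤ cz (Subgroup.zpowers y) := by
    intro g hg
    rw [mem_cz_zpowers]
    have := Subgroup.mem_center_iff.mp z.2 ⟨g, hg⟩
    rw [hy]
    exact congrArg Subtype.val this
  have hQD : Subgroup.zpowers y ≤ D := by rw [Subgroup.zpowers_le]; exact hyD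
  obtain ⟨u, hu⟩ := exists_ple hf.2.1 (Subgroup.zpowers y) hQD
  have huB := hf.of_ple' hu
  obtain ⟨b, hb, rfl⟩ := exists_EH huB.2.1.2
  have h1 := (hu.br_ne_zero hf.2.1 hQD le_rfl (hyc.trans (centralizer_le_normalizer' _))).2
  obtain ⟨D', hD'⟩ := (isBlk_EH hb).exists_isDef (p := p)
  obtain ⟨g, -, hle⟩ := hD'.2.2.2 D hyc hD.2.1 h1
  have h3 := Subgroup.card_dvd_of_le hle
  rw [card_cg, hcard, card_isDef hMp hb hD'] at h3
  have h4 := (Nat.pow_dvd_pow_iff_le_right hp.out.one_lt).mp h3
  have h5 := h y hyo b hb (by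
    rintro rfl
    apply hne
    apply EG_injective (M := M) hB (isPBlock_principal _)
    rw [EG_principal]
    have h6 : InB p (pb (KF M) ⊤) (Subgroup.zpowers y)
        (EH M (cz (Subgroup.zpowers y)) (principalBlock M (cz (Subgroup.zpowers y)))) := by
      rw [EH_principal]
      exact inB_pb huB.2.1.1
    exact (existsUnique_inB huB.2.1).unique huB h6)
  omega

theorem st4717 (p : ℕ) [Fact p.Prime] (M : Ideal AlgInt) (hM : IsPModular p M) (r : ℕ) :
    ((∀ B' : Set (IrrCharacter G), IsPBlock M B' → B' ≠ principalBlock M G →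
      blockDefect p B' < r) → ∀ y : G, (∃ k : ℕ, orderOf y = p ^ k) →
      (∀ B' : Set (IrrCharacter ↥(Subgroup.centralizer ({y} : Set G))), IsPBlock M B' →
        B' ≠ principalBlock M ↥(Subgroup.centralizer ({y} : Set G)) → blockDefect p B' < r)) ∧
    (0 < r → (∀ y : G, orderOf y = p →
      (∀ B' : Set (IrrCharacter ↥(Subgroup.centralizer ({y} : Set G))), IsPBlock M B' →
        B' ≠ principalBlock M ↥(Subgroup.centralizer ({y} : Set G)) → blockDefect p B' < r)) →
      (∀ B' : Set (IrrCharacter G), IsPBlock M B' → B' ≠ principalBlock M G →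
        blockDefect p B' < r)) := by
  have hpr : M.IsPrime := hM.2.1.isPrime
  constructor
  · intro h y hy b hb hne
    exact st4717a hM r h hy _ (cent_zpowers y) b hb hne
  · intro hr h
    apply st4717b hM r hr
    intro y hy
    have h1 := h y hy
    rw [cent_zpowers y] at h1
    exact h1

end Cfsg.Agent.H26
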