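import Mathlib
import Cfsg.Agent.H26.MinMax
import Cfsg.Agent.H26.NormDef
import Cfsg.Agent.H26.Defic

set_option autoImplicit false

/-!
# The sum of the squares of the degrees of a block
-/

namespace Cfsg.Agent.H26

open MonoidAlgebra MulAction Cfsg Cfsg.Agent.H11 Cfsg.Agent.H3
open scoped ComplexConjugate

universe u

section Sum

variable {G : Type u} [Group G] [Fintype G] [Fintype (IrrCharacter G)]

open Classical in
/-- finite sums over blocks -/
theorem fms (B : Set (IrrCharacter G)) (f : IrrCharacter G → ℂ) :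
    ∑ᶠ χ ∈ B, f χ = ∑ χ ∈ Finset.univ.filter (· ∈ B), f χ := by
  rw [finsum_mem_eq_finite_toFinset_sum _ (Set.toFinite B)]
  apply Finset.sum_congr _ (fun _ _ => rfl)
  ext χ
  simp

/-- the multiplicity of the trivial character in the restriction to `S` -/
theorem exists_mS (S : Subgroup G) [Fintype S] : ∃ m : IrrCharacter G → ℕ, ∀ χ,
    (Nat.card S : ℂ) * (m χ : ℂ) = ∑ s : S, (χ : G → ℂ) (s : G) := by
  have h : ∀ χ : IrrCharacter G, ∃ n : ℕ,
      (Nat.card S : ℂ) * (n : ℂ) = ∑ s : S, (χ : G → ℂ) (s : G) := by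
    intro χ
    obtain ⟨n, hn⟩ := classInner_char_nat (isChar_restrict S (irr_isChar χ.2))
      (irr_isChar (isIrr_one (G := S)))
    refine ⟨n, ?_⟩
    rw [← hn]
    unfold classInner
    have h0 : (Nat.card S : ℂ) ≠ 0 := Nat.cast_ne_zero.mpr Nat.card_pos.ne'
    simp only [map_one, mul_one]
    rw [Nat.card_eq_fintype_card] at h0 ⊢
    field_simp
  choose m hm using h
  exact ⟨m, hm⟩

variable {p : ℕ} [hp : Fact p.Prime] {M : Ideal AlgInt}

open Classical in
theorem sum_mS (hMp : IsPModular p M) {B : Set (IrrCharacter G)} (hB : IsPBlock M B)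
    {S : Subgroup G} [Fintype S] (hS : IsPGroup p S) {m : IrrCharacter G → ℕ}
    (hm : ∀ χ, (Nat.card S : ℂ) * (m χ : ℂ) = ∑ s : S, (χ : G → ℂ) (s : G))
    {x : G} (hx : ¬ p ∣ orderOf x) :
    ∑ χ ∈ Finset.univ.filter (· ∈ B), (m χ : ℂ) * (χ : G → ℂ) x =
      (S.index : ℂ) * blockCoeff B x⁻¹ := by
  have h0 : (Nat.card S : ℂ) ≠ 0 := Nat.cast_ne_zero.mpr Nat.card_pos.ne'
  have hG0 : (Nat.card G : ℂ) ≠ 0 := Nat.cast_ne_zero.mpr Nat.card_pos.ne'
  apply mul_left_cancel₀ h0
  rw [Finset.mul_sum]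
  have h1 : ∑ χ ∈ Finset.univ.filter (· ∈ B),
      (Nat.card S : ℂ) * ((m χ : ℂ) * (χ : G → ℂ) x) =
      ∑ s : S, ∑ χ ∈ Finset.univ.filter (· ∈ B), (χ : G → ℂ) x * conj ((χ : G → ℂ) (s : G)⁻¹) := by
    rw [Finset.sum_comm]
    apply Finset.sum_congr rfl
    intro χ _
    rw [← mul_assoc, hm χ, Finset.sum_mul]
    apply Finset.sum_congr rfl
    intro s _
    rw [char_inv (irr_isChar χ.2), Complex.conj_conj, mul_comm]
  rw [h1, Finset.sum_eq_single (1 : S)]
  · have h2 : (Nat.card G : ℂ) = (Nat.card S : ℂ) * (S.index : ℂ) := by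
      rw [← Subgroup.card_mul_index S]; push_cast; rfl
    unfold blockCoeff
    rw [fms, ← mul_assoc, ← mul_assoc, ← h2, mul_inv_cancel₀ hG0, one_mul]
    apply Finset.sum_congr rfl
    intro χ _
    rw [char_inv (irr_isChar χ.2), Complex.conj_conj, OneMemClass.coe_one,
      char_inv (irr_isChar χ.2), Complex.conj_conj, mul_comm]
  · intro s _ hs
    have h2 := weak_block_orthogonality hMp hB x (s : G)⁻¹ hx (by
      rw [orderOf_inv]
      obtain ⟨k, hk⟩ := IsPGroup.iff_orderOf.mp hS s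
      rw [Subgroup.orderOf_coe, hk]
      apply dvd_pow_self
      rintro rfl
      rw [pow_zero, orderOf_eq_one_iff] at hk
      exact hs hk)
    rw [fms] at h2
    exact h2
  · intro h; exact absurd (Finset.mem_univ _) h

/-- `|K_x| χ(x) = χ(1) ω_χ(x)` -/
theorem index_mul_eq (χ : IrrCharacter G) (x : G) :
    ((Subgroup.centralizer ({x} : Set G)).index : ℂ) * (χ : G → ℂ) x =
      (χ : G → ℂ) 1 * centralChar (χ : G → ℂ) x := by
  unfold centralChar
  have h : (χ : G → ℂ) 1 ≠ 0 := H27.isIrr_one_ne_zero χ.2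
  field_simp

open Classical in
/-- the number `A_B` -/
noncomputable def AB (p : ℕ) (m : IrrCharacter G → ℕ) (D : Subgroup G)
    (B : Set (IrrCharacter G)) : ℕ :=
  ∑ χ ∈ Finset.univ.filter (· ∈ B),
    m χ * (charDegree (χ : G → ℂ) / p ^ D.index.factorization p)

theorem deg_eq_mul (hMp : IsPModular p M) {B : Set (IrrCharacter G)} (hB : IsPBlock M B)
    {D : Subgroup G} (hD : IsDefectGroup p M B D) {χ : IrrCharacter G} (hχ : χ ∈ B) :
    charDegree (χ : G → ℂ) = p ^ D.index.factorization p *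
      (charDegree (χ : G → ℂ) / p ^ D.index.factorization p) := by
  rw [Nat.mul_div_cancel']
  exact (hp.out.pow_dvd_iff_le_factorization (charDegree_spec χ.2).2).mpr
    (index_le_deg hMp hB hD hχ)

open Classical in
theorem sum_mul_deg (hMp : IsPModular p M) {B : Set (IrrCharacter G)} (hB : IsPBlock M B)
    {D : Subgroup G} (hD : IsDefectGroup p M B D) (m : IrrCharacter G → ℕ)
    (w : IrrCharacter G → ℂ) :
    ∑ χ ∈ Finset.univ.filter (· ∈ B), (m χ : ℂ) * ((χ : G → ℂ) 1 * w χ) =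
      (p : ℂ) ^ D.index.factorization p * ∑ χ ∈ Finset.univ.filter (· ∈ B),
        ((m χ * (charDegree (χ : G → ℂ) / p ^ D.index.factorization p) : ℕ) : ℂ) * w χ := by
  rw [Finset.mul_sum]
  apply Finset.sum_congr rfl
  intro χ hχ
  rw [Finset.mem_filter] at hχ
  have h1 := deg_eq_mul hMp hB hD hχ.2
  rw [(charDegree_spec χ.2).1]
  conv_lhs => rw [h1]
  push_cast
  ring

open Classical in
theorem rd_sum_AB [hM : M.IsPrime] (hMp : IsPModular p M) {B : Set (IrrCharacter G)}
    (hB : IsPBlock M B)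
    {D : Subgroup G} (hD : IsDefectGroup p M B D) (m : IrrCharacter G → ℕ)
    (w : IrrCharacter G → ℂ) (c : KF M) (hw : ∀ χ ∈ B, MemLocalRing M (w χ))
    (hc : ∀ χ ∈ B, rd M (w χ) = c) :
    rd M (∑ χ ∈ Finset.univ.filter (· ∈ B),
        ((m χ * (charDegree (χ : G → ℂ) / p ^ D.index.factorization p) : ℕ) : ℂ) * w χ) =
      (AB p m D B : KF M) * c := by
  rw [rd_sum]
  · unfold AB
    rw [Nat.cast_sum, Finset.sum_mul]
    apply Finset.sum_congr rfl
    intro χ hχ
    rw [Finset.mem_filter] at hχ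
    rw [rd_mul (lr_natCast M _) (hw χ hχ.2), rd_natCast, hc χ hχ.2]
  · intro χ hχ
    rw [Finset.mem_filter] at hχ
    exact lr_mul (lr_natCast M _) (hw χ hχ.2)

/-- the key congruence -/
theorem rd_key [hM : M.IsPrime] (hMp : IsPModular p M) {B : Set (IrrCharacter G)}
    (hB : IsPBlock M B) {D : Subgroup G} (hD : IsDefectGroup p M B D)
    {S : Subgroup G} [Fintype S] (hS : IsPGroup p S) {m : IrrCharacter G → ℕ}
    (hm : ∀ χ, (Nat.card S : ℂ) * (m χ : ℂ) = ∑ s : S, (χ : G → ℂ) (s : G))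
    {x : G} (hx : ¬ p ∣ orderOf x) {χ₀ : IrrCharacter G} (hχ₀ : χ₀ ∈ B) :
    rd M (((Subgroup.centralizer ({x} : Set G)).index : ℂ) * (S.index : ℂ) * blockCoeff B x⁻¹ /
      (p : ℂ) ^ D.index.factorization p) = (AB p m D B : KF M) * lmB M χ₀ x := by
  classical
  have hp0 : (p : ℂ) ^ D.index.factorization p ≠ 0 :=
    pow_ne_zero _ (Nat.cast_ne_zero.mpr hp.out.ne_zero)
  have h1 : ((Subgroup.centralizer ({x} : Set G)).index : ℂ) * (S.index : ℂ) * blockCoeff B x⁻¹ /
      (p : ℂ) ^ D.index.factorization p = ∑ χ ∈ Finset.univ.filter (· ∈ B),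
        ((m χ * (charDegree (χ : G → ℂ) / p ^ D.index.factorization p) : ℕ) : ℂ) *
          centralChar (χ : G → ℂ) x := by
    rw [div_eq_iff hp0, mul_comm (∑ χ ∈ _, _), ← sum_mul_deg hMp hB hD, mul_assoc,
      ← sum_mS hMp hB hS hm hx, Finset.mul_sum]
    apply Finset.sum_congr rfl
    intro χ _
    rw [← index_mul_eq]
    ring
  rw [h1]
  apply rd_sum_AB hMp hB hD
  · intro χ _; exact lr_centralChar χ.2 x
  · intro χ hχ
    have h2 : SameBlock M (χ₀ : G → ℂ) (χ : G → ℂ) := by
      rw [isPBlock_eq_blockOf hB hχ₀] at hχ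
      exact hχ
    exact ((rd_eq_iff (lr_centralChar χ₀.2 _) (lr_centralChar χ.2 _)).mpr (h2 x)).symm

theorem index_eq_mul {D : Subgroup G} {g : G}
    (h : (Nat.card (Subgroup.centralizer ({g} : Set G))).factorization p =
      (Nat.card D).factorization p) :
    (Subgroup.centralizer ({g} : Set G)).index.factorization p = D.index.factorization p := by
  have h1 := Subgroup.card_mul_index (Subgroup.centralizer ({g} : Set G))
  have h2 := Subgroup.card_mul_index D
  have h3 := congrArg (fun n => n.factorization p) (h1.trans h2.symm)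
  simp only [Nat.factorization_mul Nat.card_pos.ne' Subgroup.index_ne_zero_of_finite,
    Finsupp.add_apply] at h3
  omega

/-- `A_B` is prime to `p`. -/
theorem not_dvd_AB [hM : M.IsPrime] (hMp : IsPModular p M) {B : Set (IrrCharacter G)}
    (hB : IsPBlock M B) {D : Subgroup G} (hD : IsDefectGroup p M B D)
    {S : Subgroup G} [Fintype S] (hS : IsPGroup p S) (hSi : ¬ p ∣ S.index)
    {m : IrrCharacter G → ℕ}
    (hm : ∀ χ, (Nat.card S : ℂ) * (m χ : ℂ) = ∑ s : S, (χ : G → ℂ) (s : G)) :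
    ¬ p ∣ AB p m D B := by
  have hch : CharP (KF M) p := charP_KF hMp
  obtain ⟨g, ⟨hg1, hg2, hg3⟩, P, hP⟩ := hD
  have hD' : IsDefectGroup p M B D := ⟨g, ⟨hg1, hg2, hg3⟩, P, hP⟩
  obtain ⟨χ₀, hχ₀⟩ := exists_mem_block hB
  have hgreg : ¬ p ∣ orderOf g := by
    intro h
    apply hg2
    rw [blockCoeff_eq_zero hMp hB g h, ← rd_eq_zero_iff (lr_zero M), rd_zero]
  have h1 := rd_key hMp hB hD' hS hm (x := g⁻¹) (by rwa [orderOf_inv]) hχ₀
  rw [inv_inv] at h1
  intro hdvd
  rw [(CharP.cast_eq_zero_iff (KF M) p _).mpr hdvd, zero_mul] at h1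
  have hcard : (Nat.card (Subgroup.centralizer ({g⁻¹} : Set G))).factorization p =
      (Nat.card D).factorization p := by
    have e1 : Subgroup.centralizer ({g⁻¹} : Set G) = Subgroup.centralizer ({g} : Set G) := by
      ext z
      rw [Subgroup.mem_centralizer_singleton_iff, Subgroup.mem_centralizer_singleton_iff]
      constructor
      · intro h
        have := Commute.inv_right (show Commute z g⁻¹ from h)
        rw [inv_inv] at this
        exact this
      · intro h
        exact Commute.inv_right (show Commute z g from h)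
    rw [e1, hP, Subgroup.card_map_of_injective (Subgroup.subtype_injective _),
      P.card_eq_multiplicity, hp.out.factorization_pow, Finsupp.single_eq_same]
  have hidx := index_eq_mul hcard
  obtain ⟨k', hk'⟩ : p ^ D.index.factorization p ∣
      (Subgroup.centralizer ({g⁻¹} : Set G)).index := by
    rw [← hidx]; exact Nat.ordProj_dvd _ _
  have hk'p : ¬ p ∣ k' := by
    intro h
    have h2 : p ^ (D.index.factorization p + 1) ∣
        (Subgroup.centralizer ({g⁻¹} : Set G)).index := by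
      rw [hk', pow_succ]; exact mul_dvd_mul_left _ h
    have := (hp.out.pow_dvd_iff_le_factorization Subgroup.index_ne_zero_of_finite).mp h2
    omega
  have hp0 : (p : ℂ) ^ D.index.factorization p ≠ 0 :=
    pow_ne_zero _ (Nat.cast_ne_zero.mpr hp.out.ne_zero)
  have h3 : ((Subgroup.centralizer ({g⁻¹} : Set G)).index : ℂ) * (S.index : ℂ) * blockCoeff B g /
      (p : ℂ) ^ D.index.factorization p = ((k' * S.index : ℕ) : ℂ) * blockCoeff B g := by
    rw [hk']
    push_cast
    field_simp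
  rw [h3, rd_mul (lr_natCast M _) hg1, rd_natCast, mul_eq_zero] at h1
  rcases h1 with h1 | h1
  · rw [CharP.cast_eq_zero_iff (KF M) p] at h1
    rcases hp.out.dvd_mul.mp h1 with h4 | h4
    · exact hk'p h4
    · exact hSi h4
  · exact hg2 ((rd_eq_zero_iff hg1).mp h1)

open Classical in
/-- the sum of the squares of the degrees -/
theorem sum_sq_eq (hMp : IsPModular p M) {B : Set (IrrCharacter G)}
    (hB : IsPBlock M B) {D : Subgroup G} (hD : IsDefectGroup p M B D)
    {S : Subgroup G} [Fintype S] (hS : IsPGroup p S) {m : IrrCharacter G → ℕ}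
    (hm : ∀ χ, (Nat.card S : ℂ) * (m χ : ℂ) = ∑ s : S, (χ : G → ℂ) (s : G)) :
    ∑ χ ∈ Finset.univ.filter (· ∈ B), charDegree (χ : G → ℂ) ^ 2 =
      Nat.card S * p ^ D.index.factorization p * AB p m D B := by
  have hG0 : (Nat.card G : ℂ) ≠ 0 := Nat.cast_ne_zero.mpr Nat.card_pos.ne'
  have h1 := sum_mS hMp hB hS hm (x := 1) (by
    rw [orderOf_one]; exact hp.out.one_lt.ne' ∘ Nat.dvd_one.mp)
  have h2 := sum_mul_deg hMp hB hD m (fun _ => 1)
  simp only [mul_one] at h2
  rw [h1] at h2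
  have h3 : (Nat.card G : ℂ) = (Nat.card S : ℂ) * (S.index : ℂ) := by
    rw [← Subgroup.card_mul_index S]; push_cast; rfl
  have h4 : ((∑ χ ∈ Finset.univ.filter (· ∈ B), charDegree (χ : G → ℂ) ^ 2 : ℕ) : ℂ) =
      (Nat.card G : ℂ) * blockCoeff B 1 := by
    unfold blockCoeff
    rw [fms, ← mul_assoc, mul_inv_cancel₀ hG0, one_mul]
    push_cast
    apply Finset.sum_congr rfl
    intro χ _
    rw [(charDegree_spec χ.2).1, Complex.conj_natCast, sq]
  have h5 : ((∑ χ ∈ Finset.univ.filter (· ∈ B), charDegree (χ : G → ℂ) ^ 2 : ℕ) : ℂ) =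
      ((Nat.card S * p ^ D.index.factorization p * AB p m D B : ℕ) : ℂ) := by
    rw [h4, h3, mul_assoc, ← inv_one, h2]
    unfold AB
    push_cast
    ring
  exact_mod_cast h5

end Sum

end Cfsg.Agent.H26
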