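import Mathlib
import Cfsg.Agent.H26.Defic

set_option autoImplicit false

/-!
# Blocks over an invariant character of `O_{p'}(G)` in `p`-constrained groups
-/

namespace Cfsg.Agent.H26

open MonoidAlgebra MulAction Cfsg Cfsg.Agent.H11 Cfsg.Agent.H3

universe u

variable {G : Type u} [Group G] [Finite G] {p : ℕ} [hp : Fact p.Prime]

/-- the group-theoretic hypothesis -/
structure CL (p : ℕ) (K L : Subgroup G) : Prop where
  nK : K.Normal
  nL : L.Normal
  le : K ≤ L
  cop : ¬ p ∣ Nat.card K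
  pow : ∃ j : ℕ, K.relIndex L = p ^ j
  con : ∀ x : G, ¬ p ∣ orderOf x → (∀ l ∈ L, x * l * x⁻¹ * l⁻¹ ∈ K) → x ∈ K

variable {K L : Subgroup G} {M : Ideal AlgInt} [hM : M.IsPrime]

theorem mem_K_of_cz (h : CL p K L) {D : Subgroup G} (hD : K ⊔ D = L) {x : G}
    (hx : ¬ p ∣ orderOf x) (hxD : x ∈ cz D) : x ∈ K := by
  have hK := h.nK
  apply h.con x hx
  intro l hl
  rw [← hD, Subgroup.mem_sup_of_normal_left] at hl
  obtain ⟨a, ha, d, hd, rfl⟩ := hl
  have h1 : d * x = x * d := Subgroup.mem_centralizer_iff.mp hxD d hd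
  have h2 : x * (a * d) * x⁻¹ * (a * d)⁻¹ = x * a * x⁻¹ * a⁻¹ := by
    calc x * (a * d) * x⁻¹ * (a * d)⁻¹ = x * a * (d * x⁻¹) * d⁻¹ * a⁻¹ := by group
      _ = x * a * (x⁻¹ * d) * d⁻¹ * a⁻¹ := by
          rw [show d * x⁻¹ = x⁻¹ * d by
            calc d * x⁻¹ = x⁻¹ * (x * d) * x⁻¹ := by group
              _ = x⁻¹ * (d * x) * x⁻¹ := by rw [h1]
              _ = x⁻¹ * d := by group]
      _ = x * a * x⁻¹ * a⁻¹ := by group
  rw [h2]
  exact K.mul_mem (hK.conj_mem a ha x) (K.inv_mem ha)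

theorem isBlk_L (hMp : IsPModular p M) (h : CL p K L) {e : MonoidAlgebra (KF M) G}
    (he : IsBlk K e) (hfx : IsFx ⊤ e) : IsBlk L e := by
  have hK := h.nK
  exact isBlk_of_stable_pow hMp h.le (fun g _ => mem_nz_normal g) h.pow he (hfx.mono le_top)

theorem sup_eq_of_isDef (hMp : IsPModular p M) (h : CL p K L) {e : MonoidAlgebra (KF M) G}
    (he : IsBlk K e) (hfx : IsFx ⊤ e) {D : Subgroup G} (hD : IsDef p L e D) : K ⊔ D = L := by
  have hch : CharP (KF M) p := charP_KF hMp
  have hK := h.nK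
  have h1 := not_dvd_relIndex_of_stable (p := p) h.le (fun g _ => mem_nz_normal g) he
    (isBlk_L hMp h he hfx) hD
  have h2 : K ⊔ D ≤ L := sup_le h.le hD.1
  have h3 : (K ⊔ D).relIndex L ∣ K.relIndex L := Subgroup.relIndex_dvd_of_le_left L le_sup_left
  obtain ⟨j, hj⟩ := h.pow
  rw [hj] at h3
  obtain ⟨i, -, hi⟩ := (Nat.dvd_prime_pow hp.out).mp h3
  have hi0 : i = 0 := by
    by_contra hne
    exact h1 (hi ▸ dvd_pow_self p hne)
  rw [hi0, pow_zero, Subgroup.relIndex_eq_one] at hi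
  exact le_antisymm h2 hi

/-- the Brauer image of a block at a defect group, inside a normal subgroup -/
theorem isBlk_br_inf [CharP (KF M) p] {N Q : Subgroup G} {d : MonoidAlgebra (KF M) G}
    (hd : IsBlk N d) (hD : IsDef p N d Q) : IsBlk (nz Q ⊓ N) (br Q d) := by
  have hQN := hD.1
  obtain ⟨d₁, rfl⟩ := exists_up (K := N) hd.isSup
  have hQe : um (Q.subgroupOf N) = Q := um_subgroupOf hQN
  have hd₁ : IsBlk ⊤ d₁ := by
    rw [← isBlk_up, um_top]; exact hd
  have hD₁ : IsDef p ⊤ d₁ (Q.subgroupOf N) := by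
    rw [← isDef_up, um_top, hQe]; exact hD
  have h2 := FM.isBlk_br hd₁ le_top hD₁
  have := isBlk_up.mpr h2
  rwa [um_nz, ← br_up, hQe] at this

/-- **Key lemma.** -/
theorem isBlk_top_of_CL (hMp : IsPModular p M) (h : CL p K L) {e : MonoidAlgebra (KF M) G}
    (he : IsBlk K e) (hfx : IsFx ⊤ e) : IsBlk ⊤ e := by
  classical
  have hch : CharP (KF M) p := charP_KF hMp
  have hK := h.nK
  have hL := h.nL
  have heL := isBlk_L hMp h he hfx
  obtain ⟨D, hD⟩ := heL.exists_isDef (p := p)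
  have hsup := sup_eq_of_isDef hMp h he hfx hD
  have hez : e ∈ Zc (KF M) (⊤ : Subgroup G) := ⟨isSup_top e, hfx⟩
  have hf := isBlk_br_inf heL hD
  have key : ∀ E : MonoidAlgebra (KF M) G, IsBlk ⊤ E → E * e ≠ 0 → br D E = br D e := by
    intro E hE hne
    have h1 : br D (E * e) ≠ 0 := br_cov_ne_zero hE.mem hE.idem heL hne hD.2.1 hD.1 hD.2.2.1
    have h2 : br D (E * e) = br D E * br D e :=
      br_mul hD.2.1 (hE.isFx.mono le_top) (hfx.mono le_top)
    have hz1 : br D E ∈ Zc (KF M) (nz D) := br_mem_Zc_nz le_top hE.isFx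
    have hzz : br D E * br D E = br D E := by
      rw [← br_mul hD.2.1 (hE.isFx.mono le_top) (hE.isFx.mono le_top), hE.idem]
    have hsupp : IsSup (nz D ⊓ L) (br D E) := by
      intro x hx
      by_cases hxD : x ∈ cz D
      · apply coeff_idem_eq_zero hMp hz1 hzz
        by_contra hreg
        exact hx ⟨centralizer_le_normalizer' D hxD, h.le (mem_K_of_cz h hsup hreg hxD)⟩
      · exact coeff_br_of_notMem _ hxD
    have hz2 : br D E ∈ Zc (KF M) (nz D ⊓ L) := ⟨hsupp, hz1.2.mono inf_le_left⟩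
    have h3 : br D E * br D e = br D e := by
      rcases hf.mul_eq_or hz2 hzz with h4 | h4
      · exact absurd (h2.trans h4) h1
      · exact h4
    -- E e = E
    have h5 : E * e = E := by
      have h6 : e * E = E := by
        rcases hE.mul_eq_or hez he.idem with h7 | h7
        · exfalso
          apply hne
          rw [(Zc_commute hE.mem (isSup_top e)).eq, h7]
        · exact h7
      rw [(Zc_commute hE.mem (isSup_top e)).eq, h6]
    rw [← h3, ← h2, h5]
  -- uniqueness
  have huniq : ∀ E E' : MonoidAlgebra (KF M) G, IsBlk ⊤ E → IsBlk ⊤ E' → E * e ≠ 0 →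
      E' * e ≠ 0 → E = E' := by
    intro E E' hE hE' hne hne'
    have h1 := key E hE hne
    have h2 := key E' hE' hne'
    exact FM.injective hD.2.1 le_top hE hE' (by rw [h1]; exact hD.2.2.1) (h1.trans h2.symm)
  have hfin0 : Finite (blks (KF M) (⊤ : Subgroup G)) := (blks_finite _).to_subtype
  have hfin : Fintype (blks (KF M) (⊤ : Subgroup G)) := Fintype.ofFinite _
  have hsum : e = ∑ E : blks (KF M) (⊤ : Subgroup G), (E : MonoidAlgebra (KF M) G) * e := by
    rw [← Finset.sum_mul, sum_blks, one_mul]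
  have hne0 : ∑ E : blks (KF M) (⊤ : Subgroup G), (E : MonoidAlgebra (KF M) G) * e ≠ 0 := by
    rw [← hsum]; exact he.ne_zero
  obtain ⟨E₀, -, hE₀⟩ := Finset.exists_ne_zero_of_sum_ne_zero hne0
  have hE₀b : IsBlk ⊤ (E₀ : MonoidAlgebra (KF M) G) := E₀.2
  rw [Finset.sum_eq_single E₀] at hsum
  · have h8 : (E₀ : MonoidAlgebra (KF M) G) * e = E₀ := by
      rw [(Zc_commute hE₀b.mem (isSup_top e)).eq]
      rcases hE₀b.mul_eq_or hez he.idem with h7 | h7
      · exfalso
        apply hE₀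
        rw [(Zc_commute hE₀b.mem (isSup_top e)).eq, h7]
      · exact h7
    rw [hsum, h8]; exact hE₀b
  · intro E _ hne
    by_contra h9
    exact hne (Subtype.ext (huniq _ _ E.2 E₀.2 h9 hE₀))
  · intro h9; exact absurd (Finset.mem_univ _) h9

/-- the defect groups are the Sylow subgroups -/
theorem isDef_top_index (hMp : IsPModular p M) (h : CL p K L) {e : MonoidAlgebra (KF M) G}
    (he : IsBlk K e) (hfx : IsFx ⊤ e) {D : Subgroup G} (hD : IsDef p ⊤ e D) : ¬ p ∣ D.index := by
  have hch : CharP (KF M) p := charP_KF hMp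
  have hK := h.nK
  have h1 := not_dvd_relIndex_of_stable (p := p) (le_top : K ≤ ⊤) (fun g _ => mem_nz_normal g) he
    (isBlk_top_of_CL hMp h he hfx) hD
  rw [Subgroup.relIndex_top_right] at h1
  intro h2
  have h3 : D.relIndex (K ⊔ D) * (K ⊔ D).index = D.index :=
    Subgroup.relIndex_mul_index le_sup_right
  rw [← h3] at h2
  rcases hp.out.dvd_mul.mp h2 with h4 | h4
  · apply h.cop
    have h5 : Nat.card D * D.relIndex (K ⊔ D) = Nat.card (K ⊔ D : Subgroup G) := by
      have := Subgroup.relIndex_mul_relIndex ⊥ D (K ⊔ D) bot_le le_sup_right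
      rwa [Subgroup.relIndex_bot_left, Subgroup.relIndex_bot_left] at this
    have h6 : Nat.card K * K.relIndex (K ⊔ D) = Nat.card (K ⊔ D : Subgroup G) := by
      have := Subgroup.relIndex_mul_relIndex ⊥ K (K ⊔ D) bot_le le_sup_left
      rwa [Subgroup.relIndex_bot_left, Subgroup.relIndex_bot_left] at this
    have h7 : K.relIndex (K ⊔ D) = K.relIndex D := by
      rw [sup_comm]; exact Subgroup.relIndex_sup_right _ _
    have h8 : Nat.card (K ⊓ D : Subgroup G) * K.relIndex D = Nat.card D := by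
      have := Subgroup.relIndex_mul_relIndex ⊥ (K ⊓ D) D bot_le inf_le_right
      rwa [Subgroup.relIndex_bot_left, Subgroup.relIndex_bot_left,
        Subgroup.inf_relIndex_right] at this
    have h9 : Nat.card (K ⊓ D : Subgroup G) * D.relIndex (K ⊔ D) = Nat.card K := by
      have h10 : 0 < K.relIndex D := Nat.pos_of_ne_zero (by
        intro h0
        rw [h0, mul_zero] at h8
        exact Nat.card_pos.ne h8)
      apply Nat.eq_of_mul_eq_mul_right h10
      calc Nat.card (K ⊓ D : Subgroup G) * D.relIndex (K ⊔ D) * K.relIndex D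
          = (Nat.card (K ⊓ D : Subgroup G) * K.relIndex D) * D.relIndex (K ⊔ D) := by ring
        _ = Nat.card K * K.relIndex D := by rw [h8, h5, ← h6, h7]
    rw [← h9]
    exact h4.trans (Dvd.intro_left _ rfl)
  · exact h1 h4

end Cfsg.Agent.H26
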