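import Mathlib
import Cfsg.Agent.H26.OpCon

set_option autoImplicit false

/-!
# Blocks over an invariant character of `O_{p'}(G)`: local blocks
-/

namespace Cfsg.Agent.H26

open MonoidAlgebra MulAction Cfsg Cfsg.Agent.H11 Cfsg.Agent.H3

universe u

variable {G : Type u} [Group G] [Finite G] {p : ℕ} [hp : Fact p.Prime]

theorem exists_cg_le {T R D : Subgroup G} (hR : R ≤ T) (hRp : IsPGroup p R)
    (hidx : ¬ p ∣ R.relIndex T) (hD : D ≤ T) (hDp : IsPGroup p D) :
    ∃ h ∈ T, cg D h ≤ R := by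
  have hR' : IsPGroup p (R.subgroupOf T) := hRp.comap_subtype
  have hD' : IsPGroup p (D.subgroupOf T) := hDp.comap_subtype
  let S : Sylow p T := hR'.toSylow hidx
  obtain ⟨S', hS'⟩ := hD'.exists_le_sylow
  obtain ⟨g, hg⟩ := MulAction.exists_smul_eq T S' S
  refine ⟨(g : G), g.2, ?_⟩
  intro x hx
  rw [mem_cg] at hx
  have hxT : (g : G)⁻¹ * x * g ∈ T := hD hx
  have h1 : (⟨(g : G)⁻¹ * x * g, hxT⟩ : T) ∈ (S' : Subgroup T) := hS' hx
  have hxT' : x ∈ T := by
    have := T.mul_mem (T.mul_mem g.2 hxT) (T.inv_mem g.2)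
    convert this using 1
    group
  have h2 : (⟨x, hxT'⟩ : T) ∈ (S : Subgroup T) := by
    rw [← hg]
    refine ⟨⟨(g : G)⁻¹ * x * g, hxT⟩, h1, ?_⟩
    apply Subtype.ext
    change (g : G) * ((g : G)⁻¹ * x * g) * (g : G)⁻¹ = x
    group
  exact h2

variable {K : Subgroup G} {M : Ideal AlgInt} [hM : M.IsPrime]

theorem relIndex_sup_coprime [hK : K.Normal] (hcop : ¬ p ∣ Nat.card K) (R : Subgroup G) :
    ¬ p ∣ R.relIndex (K ⊔ R) := by
  intro h4
  have h5 : Nat.card R * R.relIndex (K ⊔ R) = Nat.card (K ⊔ R : Subgroup G) := by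
    have := Subgroup.relIndex_mul_relIndex ⊥ R (K ⊔ R) bot_le le_sup_right
    rwa [Subgroup.relIndex_bot_left, Subgroup.relIndex_bot_left] at this
  have h6 : Nat.card K * K.relIndex (K ⊔ R) = Nat.card (K ⊔ R : Subgroup G) := by
    have := Subgroup.relIndex_mul_relIndex ⊥ K (K ⊔ R) bot_le le_sup_left
    rwa [Subgroup.relIndex_bot_left, Subgroup.relIndex_bot_left] at this
  have h7 : K.relIndex (K ⊔ R) = K.relIndex R := by
    rw [sup_comm]; exact Subgroup.relIndex_sup_right _ _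
  have h8 : Nat.card (K ⊓ R : Subgroup G) * K.relIndex R = Nat.card R := by
    have := Subgroup.relIndex_mul_relIndex ⊥ (K ⊓ R) R bot_le inf_le_right
    rwa [Subgroup.relIndex_bot_left, Subgroup.relIndex_bot_left,
      Subgroup.inf_relIndex_right] at this
  have h9 : Nat.card (K ⊓ R : Subgroup G) * R.relIndex (K ⊔ R) = Nat.card K := by
    have h10 : 0 < K.relIndex R := Nat.pos_of_ne_zero (by
      intro h0
      rw [h0, mul_zero] at h8
      exact Nat.card_pos.ne h8)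
    apply Nat.eq_of_mul_eq_mul_right h10
    calc Nat.card (K ⊓ R : Subgroup G) * R.relIndex (K ⊔ R) * K.relIndex R
        = (Nat.card (K ⊓ R : Subgroup G) * K.relIndex R) * R.relIndex (K ⊔ R) := by ring
      _ = Nat.card K * K.relIndex R := by rw [h8, h5, ← h6, h7]
  apply hcop
  rw [← h9]
  exact h4.trans (Dvd.intro_left _ rfl)

theorem inf_eq_bot_of_cop (hcop : ¬ p ∣ Nat.card K) {R : Subgroup G} (hR : IsPGroup p R) :
    K ⊓ R = ⊥ := by
  rw [← disjoint_iff]
  apply Subgroup.disjoint_of_coprime_natCard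
  obtain ⟨n, hn⟩ := IsPGroup.iff_card.mp hR
  rw [hn]
  exact ((Nat.Prime.coprime_iff_not_dvd hp.out).mpr hcop).symm.pow_right n

/-- `br_R(e)` is a block of `C_K(R)`. -/
theorem isBlk_br_cop (hMp : IsPModular p M) [hK : K.Normal] (hcop : ¬ p ∣ Nat.card K)
    {e : MonoidAlgebra (KF M) G} (he : IsBlk K e) {R : Subgroup G} (hR : IsPGroup p R)
    (hfx : IsFx R e) : IsBlk (K ⊓ cz R) (br R e) := by
  have hch : CharP (KF M) p := charP_KF hMp
  have hKn : ∀ T : Subgroup G, T ≤ nz K := fun T g _ => mem_nz_normal g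
  have hidx := relIndex_sup_coprime (p := p) hcop R
  have hfxT : IsFx (K ⊔ R) e := by
    intro g hg
    have h1 : K ⊔ R ≤ stab ⊤ e := sup_le (le_stab le_top he.isFx) (le_stab le_top hfx)
    exact (h1 hg).2
  have hpow : ∃ j : ℕ, K.relIndex (K ⊔ R) = p ^ j := by
    rw [Subgroup.relIndex_sup_left]
    obtain ⟨n, hn⟩ := IsPGroup.iff_card.mp hR
    have h1 : K.relIndex R ∣ p ^ n := by rw [← hn]; exact Subgroup.relIndex_dvd_card _ _
    obtain ⟨j, -, hj⟩ := (Nat.dvd_prime_pow hp.out).mp h1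
    exact ⟨j, hj⟩
  have heT : IsBlk (K ⊔ R) e := isBlk_of_stable_pow hMp le_sup_left (hKn _) hpow he hfxT
  -- R is a defect group
  have hDR : IsDef p (K ⊔ R) e R := by
    obtain ⟨D, hD⟩ := heT.exists_isDef (p := p)
    have h1 := not_dvd_relIndex_of_stable (p := p) le_sup_left (hKn _) he heT hD
    obtain ⟨j, hj⟩ := hpow
    have h2 : (K ⊔ D).relIndex (K ⊔ R) ∣ K.relIndex (K ⊔ R) :=
      Subgroup.relIndex_dvd_of_le_left _ le_sup_left
    rw [hj] at h2
    obtain ⟨i, -, hi⟩ := (Nat.dvd_prime_pow hp.out).mp h2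
    have hi0 : i = 0 := by
      by_contra hne
      exact h1 (hi ▸ dvd_pow_self p hne)
    rw [hi0, pow_zero, Subgroup.relIndex_eq_one] at hi
    have h3 : K ⊔ D = K ⊔ R := le_antisymm (sup_le le_sup_left hD.1) hi
    have hidx' := relIndex_sup_coprime (p := p) hcop D
    rw [h3] at hidx'
    obtain ⟨g, hg, hle⟩ := exists_cg_le hD.1 hD.2.1 hidx' le_sup_right hR
    obtain ⟨g', hg', hle'⟩ := exists_cg_le le_sup_right hR hidx hD.1 hD.2.1
    have h4 : cg R g = D := eq_of_cg_le_of_cg_le hle hle'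
    have h5 := hD.conj heT.isFx ((K ⊔ R).inv_mem hg)
    rwa [← h4, cg_inv_cg] at h5
  have hb := isBlk_br_inf heT hDR
  have hKR : K ⊓ R = ⊥ := inf_eq_bot_of_cop hcop hR
  have hsup : IsSup (K ⊓ cz R) (br R e) := by
    intro x hx
    by_cases hxR : x ∈ cz R
    · rw [coeff_br_of_mem _ hxR]
      exact he.isSup x (fun h => hx ⟨h, hxR⟩)
    · exact coeff_br_of_notMem _ hxR
  have hle : K ⊓ cz R ≤ nz R ⊓ (K ⊔ R) :=
    le_inf (inf_le_right.trans (centralizer_le_normalizer' R)) (inf_le_left.trans le_sup_left)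
  -- S = C₁ R
  have hS : nz R ⊓ (K ⊔ R) ≤ (K ⊓ cz R) ⊔ R := by
    rintro g ⟨hgR, hg⟩
    have hg : g ∈ K ⊔ R := hg
    rw [Subgroup.mem_sup_of_normal_left] at hg
    obtain ⟨a, ha, r, hr, rfl⟩ := hg
    have haR : a ∈ nz R := by
      have := (nz R).mul_mem hgR ((nz R).inv_mem (Subgroup.le_normalizer hr))
      simpa using this
    have hac : a ∈ cz R := by
      rw [Subgroup.mem_centralizer_iff]
      intro y hy
      have h1 : a * y * a⁻¹ * y⁻¹ ∈ K ⊓ R := by
        refine ⟨?_, ?_⟩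
        · rw [mul_assoc, mul_assoc]
          apply K.mul_mem ha
          rw [← mul_assoc]
          exact hK.conj_mem _ (K.inv_mem ha) y
        · exact R.mul_mem ((Subgroup.mem_normalizer_iff.mp haR y).mp hy) (R.inv_mem hy)
      rw [hKR, Subgroup.mem_bot, mul_inv_eq_one] at h1
      calc y * a = (a * y * a⁻¹) * a := by rw [h1]
        _ = a * y := by group
    exact Subgroup.mul_mem_sup ⟨ha, hac⟩ hr
  have hZ : ∀ a ∈ Zc (KF M) (K ⊓ cz R), a ∈ Zc (KF M) (nz R ⊓ (K ⊔ R)) := by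
    intro a ha
    refine ⟨ha.1.mono hle, ?_⟩
    have h1 : IsFx R a := isFx_of_isSup_cz (ha.1.mono inf_le_right)
    intro g hg
    have h2 : (K ⊓ cz R) ⊔ R ≤ stab ⊤ a := sup_le (le_stab le_top ha.2) (le_stab le_top h1)
    exact (h2 (hS hg)).2
  refine ⟨⟨hsup, hb.isFx.mono hle⟩, hb.idem, hb.ne_zero, ?_⟩
  intro f hf hff hfe
  exact hb.2.2.2 f (hZ f hf) hff hfe

end Cfsg.Agent.H26
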