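import Mathlib
import Cfsg.Agent.H26.OpCon2
import Cfsg.Agent.H18.CharP

set_option autoImplicit false

/-!
# Blocks over an invariant character of `O_{p'}(G)`: principal type
-/

namespace Cfsg.Agent.H26

open MonoidAlgebra MulAction Cfsg Cfsg.Agent.H11 Cfsg.Agent.H3

universe u

variable {G : Type u} [Group G] [Finite G] {p : ℕ} [hp : Fact p.Prime]

/-- fixed points of a coprime coset -/
theorem exists_fixed_coset {K R : Subgroup G} (hcop : ¬ p ∣ Nat.card K) (hR : IsPGroup p R)
    {l : G} (hl : ∀ r ∈ R, ∀ y : G, l⁻¹ * y ∈ K → l⁻¹ * (r * y * r⁻¹) ∈ K) :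
    ∃ k ∈ K, l * k ∈ cz R := by
  let act : MulAction R {y : G // l⁻¹ * y ∈ K} :=
    { smul := fun r y => ⟨(r : G) * y * (r : G)⁻¹, hl r r.2 y y.2⟩
      one_smul := fun y => Subtype.ext (by
        change ((1 : R) : G) * (y : G) * ((1 : R) : G)⁻¹ = y
        simp)
      mul_smul := fun r s y => Subtype.ext (by
        change ((r * s : R) : G) * (y : G) * ((r * s : R) : G)⁻¹ =
          (r : G) * ((s : G) * y * (s : G)⁻¹) * (r : G)⁻¹
        push_cast
        group) }
  have hcard : Nat.card {y : G // l⁻¹ * y ∈ K} = Nat.card K := by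
    apply Nat.card_congr
    exact
      { toFun := fun y => ⟨l⁻¹ * y, y.2⟩
        invFun := fun k => ⟨l * k, by simp⟩
        left_inv := fun y => Subtype.ext (by simp)
        right_inv := fun k => Subtype.ext (by simp) }
  obtain ⟨y, hy⟩ := hR.nonempty_fixed_point_of_prime_not_dvd_card {y : G // l⁻¹ * y ∈ K}
    (by rw [hcard]; exact hcop)
  refine ⟨l⁻¹ * y, y.2, ?_⟩
  rw [mul_inv_cancel_left, Subgroup.mem_centralizer_iff]
  intro r hr
  have h1 : r * (y : G) * r⁻¹ = y := congrArg Subtype.val (hy ⟨r, hr⟩)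
  calc r * (y : G) = (r * (y : G) * r⁻¹) * r := by group
    _ = y * r := by rw [h1]

variable {K L : Subgroup G}

theorem CL.local (h : CL p K L) {R : Subgroup G} (hR : IsPGroup p R) :
    CL p (K.subgroupOf (cz R)) (L.subgroupOf (cz R)) := by
  have hK := h.nK
  have hL := h.nL
  refine ⟨hK.subgroupOf _, hL.subgroupOf _, ?_, ?_, ?_, ?_⟩
  · intro x hx
    exact h.le hx
  · intro hd
    apply h.cop
    refine hd.trans ?_
    have h1 : Nat.card (K.subgroupOf (cz R)) = Nat.card (K ⊓ cz R : Subgroup G) := by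
      rw [← Subgroup.subgroupOf_map_subtype]
      exact (card_um _).symm
    rw [h1]
    exact Subgroup.card_dvd_of_le inf_le_left
  · have h1 : (K.subgroupOf (cz R)).relIndex (L.subgroupOf (cz R)) =
        K.relIndex (L ⊓ cz R) := by
      have h2 := Subgroup.relIndex_subgroupOf (H := K) (K := L ⊓ cz R) (L := cz R) inf_le_right
      rw [← h2, Subgroup.inf_subgroupOf_right]
    have h2 : K.relIndex (L ⊓ cz R) ∣ K.relIndex L := by
      have h3 : K.relIndex (K ⊔ (L ⊓ cz R)) * (K ⊔ (L ⊓ cz R)).relIndex L = K.relIndex L :=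
        Subgroup.relIndex_mul_relIndex _ _ _ le_sup_left (sup_le h.le inf_le_left)
      rw [Subgroup.relIndex_sup_left] at h3
      exact Dvd.intro _ h3
    obtain ⟨j, hj⟩ := h.pow
    rw [hj] at h2
    obtain ⟨i, -, hi⟩ := (Nat.dvd_prime_pow hp.out).mp h2
    exact ⟨i, by rw [h1, hi]⟩
  · intro x hx hcon
    have hxo : ¬ p ∣ orderOf (x : G) := by rw [Subgroup.orderOf_coe]; exact hx
    change (x : G) ∈ K
    apply h.con (x : G) hxo
    -- pass to G / K
    have hπ : ∀ a : G, QuotientGroup.mk' K a = 1 ↔ a ∈ K := fun a => by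
      rw [QuotientGroup.mk'_apply, QuotientGroup.eq_one_iff]
    have hP : IsPGroup p (L.map (QuotientGroup.mk' K)) := by
      obtain ⟨j, hj⟩ := h.pow
      apply IsPGroup.of_card (n := j)
      rw [← hj, ← Subgroup.relIndex_ker, QuotientGroup.ker_mk']
    have hB : IsPGroup p (R.map (QuotientGroup.mk' K)) := hR.map _
    have hPn : (L.map (QuotientGroup.mk' K)).Normal :=
      hL.map _ (QuotientGroup.mk'_surjective K)
    have hxc : (orderOf (QuotientGroup.mk' K (x : G))).Coprime p := by
      have h1 : orderOf (QuotientGroup.mk' K (x : G)) ∣ orderOf (x : G) :=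
        orderOf_map_dvd _ _
      exact Nat.Coprime.coprime_dvd_left h1 ((Nat.Prime.coprime_iff_not_dvd hp.out).mpr hxo).symm
    have hxB : QuotientGroup.mk' K (x : G) ∈
        Subgroup.centralizer ((R.map (QuotientGroup.mk' K) : Subgroup _) : Set (G ⧸ K)) := by
      rw [Subgroup.mem_centralizer_iff]
      rintro _ ⟨r, hr, rfl⟩
      rw [← map_mul, ← map_mul, Subgroup.mem_centralizer_iff.mp x.2 r hr]
    have key := H18.axb_elem (P := L.map (QuotientGroup.mk' K)) (B := R.map (QuotientGroup.mk' K))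
      hP hB hxc (mem_nz_normal _) (fun g _ => mem_nz_normal g) hxB (by
        rintro _ ⟨l, hl, rfl⟩ hu
        rw [Subgroup.mem_centralizer_iff] at hu
        obtain ⟨k, hk, hlk⟩ := exists_fixed_coset (l := l) h.cop hR (by
          intro r hr y hy
          rw [← hπ, map_mul, map_mul, map_mul, map_inv, map_inv]
          rw [← hπ, map_mul, map_inv, inv_mul_eq_one] at hy
          have h2 := hu (QuotientGroup.mk' K r) ⟨r, hr, rfl⟩
          rw [← hy, h2]
          group)
        have h3 : (x : G) * (l * k) * (x : G)⁻¹ * (l * k)⁻¹ ∈ K :=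
          hcon ⟨l * k, hlk⟩ (L.mul_mem hl (h.le hk))
        rw [← hπ, map_mul, map_mul, map_mul, map_mul, map_inv, map_inv, map_mul,
          (hπ k).mpr hk, mul_one, mul_inv_eq_one, mul_inv_eq_iff_eq_mul] at h3
        exact h3)
    intro l hl
    rw [Subgroup.mem_centralizer_iff] at key
    have h4 := key (QuotientGroup.mk' K l) ⟨l, hl, rfl⟩
    rw [← hπ, map_mul, map_mul, map_mul, map_inv, map_inv, ← h4]
    group

variable {M : Ideal AlgInt} [hM : M.IsPrime]

/-- `br_R(e)` is a block of `C_G(R)` for every `p`-subgroup `R`. -/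
theorem isBlk_br_of_CL (hMp : IsPModular p M) (h : CL p K L) {e : MonoidAlgebra (KF M) G}
    (he : IsBlk K e) (hfx : IsFx ⊤ e) {R : Subgroup G} (hR : IsPGroup p R) :
    IsBlk (cz R) (br R e) := by
  have hK := h.nK
  have hch : CharP (KF M) p := charP_KF hMp
  have h1 := isBlk_br_cop hMp h.cop he hR (hfx.mono le_top)
  obtain ⟨e₁, he₁⟩ := exists_up (K := cz R) (isSup_br R e)
  have h2 : IsBlk (K.subgroupOf (cz R)) e₁ := by
    rw [← isBlk_up, he₁]
    have : um (K.subgroupOf (cz R)) = K ⊓ cz R := Subgroup.subgroupOf_map_subtype _ _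
    rw [this]; exact h1
  have h3 : IsFx ⊤ e₁ := by
    rw [← isFx_up, he₁, um_top]
    intro g hg
    rw [cj_br_of_normalizer (centralizer_le_normalizer' R hg), hfx g (Subgroup.mem_top g)]
  have h4 := isBlk_top_of_CL hMp (h.local hR) h2 h3
  rw [← isBlk_up, he₁, um_top] at h4
  exact h4

theorem existsUnique_ind_of_CL (hMp : IsPModular p M) (h : CL p K L)
    {e : MonoidAlgebra (KF M) G} (he : IsBlk K e) (hfx : IsFx ⊤ e) {R : Subgroup G}
    (hR : IsPGroup p R) : ∃! f, Ind ⊤ (cz R) f e := by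
  have hch : CharP (KF M) p := charP_KF hMp
  have hE := isBlk_top_of_CL hMp h he hfx
  have hf := isBlk_br_of_CL hMp h he hfx hR
  have hdat : BrData p R (⊤ : Subgroup G) (cz R) :=
    { isP := hR
      le := le_top
      le_nz := centralizer_le_normalizer' R
      cz_le := inf_le_left
      or := Or.inr le_rfl }
  have hfx' : ∀ z ∈ Zc (KF M) (⊤ : Subgroup G), IsFx R z := fun z hz => hz.2.mono le_top
  refine ⟨br R e, (ind_iff_br hdat hfx' hf hE).mpr hf.idem, ?_⟩
  intro f hff
  have h1 := (ind_iff_br hdat hfx' hff.1 hE).mp hff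
  by_contra hne
  rw [hf.mul_of_ne hff.1 (Ne.symm hne)] at h1
  exact hff.1.ne_zero h1.symm

end Cfsg.Agent.H26
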