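import Mathlib
import Cfsg.Agent.H26.OpCon3
import Cfsg.Agent.H2.OddSolv
import Cfsg.Agent.H10.PCons
import Cfsg.Agent.H11.Defect5

set_option autoImplicit false

/-!
# Blocks over an invariant character of `O_{p'}(G)`: statements
-/

namespace Cfsg.Agent.H26

open MonoidAlgebra MulAction Cfsg Cfsg.Agent.H11 Cfsg.Agent.H3

universe u

variable {G : Type u} [Group G] [Finite G] {p : ℕ} [hp : Fact p.Prime]

theorem cop_pPrimeCore : ¬ p ∣ Nat.card (pPrimeCore p G) := by
  rw [← Nat.Prime.coprime_iff_not_dvd hp.out]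
  exact (H1.pPrimeCore_coprime p G).symm

theorem pow_pPrimePCore : ∃ j : ℕ, (pPrimeCore p G).relIndex (pPrimePCore p G) = p ^ j := by
  have h1 : IsPGroup p (pCore p (G ⧸ pPrimeCore p G)) := H1.pCore_isPGroup p _
  obtain ⟨j, hj⟩ := IsPGroup.iff_card.mp h1
  refine ⟨j, ?_⟩
  rw [← hj, ← H10.pPrimePCore_map, ← Subgroup.relIndex_ker, QuotientGroup.ker_mk']

theorem mem_core_of_mem {x : G} (hx : x ∈ pPrimePCore p G) (hord : ¬ p ∣ orderOf x) :
    x ∈ pPrimeCore p G :=
  mem_of_relIndex_pow (fun g _ => mem_nz_normal g) pow_pPrimePCore hx hord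

/-- the group-theoretic hypothesis for `p`-solvable groups -/
theorem CL_of_pSolvable (hsolv : IsPSolvable p G) : CL p (pPrimeCore p G) (pPrimePCore p G) := by
  refine ⟨inferInstance, H10.pPrimePCore_normal p G, H10.pPrimeCore_le_pPrimePCore p G,
    cop_pPrimeCore, pow_pPrimePCore, ?_⟩
  intro x hord hx
  apply mem_core_of_mem _ hord
  change QuotientGroup.mk' (pPrimeCore p G) x ∈ pCore p (G ⧸ pPrimeCore p G)
  apply H2.charP_quotient_of_solvable hsolv
  rw [Subgroup.mem_centralizer_iff]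
  intro y hy
  rw [← H10.pPrimePCore_map] at hy
  obtain ⟨l, hl, rfl⟩ := hy
  have h1 := hx l hl
  rw [← QuotientGroup.ker_mk' (pPrimeCore p G), MonoidHom.mem_ker, map_mul, map_mul, map_mul,
    map_inv, map_inv, mul_inv_eq_one, mul_inv_eq_iff_eq_mul] at h1
  exact h1.symm

/-- the group-theoretic hypothesis from a centralizer condition -/
theorem CL_of_centralizer {Q : Subgroup G} (hQL : Q ≤ pPrimePCore p G) (hQp : IsPGroup p Q)
    (hQS : ¬ p ∣ Q.relIndex (pPrimePCore p G)) (hCQ : cz Q ≤ pPrimePCore p G) :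
    CL p (pPrimeCore p G) (pPrimePCore p G) := by
  have hLn := H10.pPrimePCore_normal p G
  refine ⟨inferInstance, hLn, H10.pPrimeCore_le_pPrimePCore p G,
    cop_pPrimeCore, pow_pPrimePCore, ?_⟩
  intro x hord hx
  apply mem_core_of_mem _ hord
  have hKQ : pPrimeCore p G ⊓ Q = ⊥ := inf_eq_bot_of_cop cop_pPrimeCore hQp
  -- L = Q K
  have hsup : Q ⊔ pPrimeCore p G = pPrimePCore p G := by
    have h2 : Q ⊔ pPrimeCore p G ≤ pPrimePCore p G :=
      sup_le hQL (H10.pPrimeCore_le_pPrimePCore p G)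
    have h3 : (Q ⊔ pPrimeCore p G).relIndex (pPrimePCore p G) ∣
        (pPrimeCore p G).relIndex (pPrimePCore p G) :=
      Subgroup.relIndex_dvd_of_le_left _ le_sup_right
    have h4 : (Q ⊔ pPrimeCore p G).relIndex (pPrimePCore p G) ∣ Q.relIndex (pPrimePCore p G) :=
      Subgroup.relIndex_dvd_of_le_left _ le_sup_left
    obtain ⟨j, hj⟩ := pow_pPrimePCore (G := G) (p := p)
    rw [hj] at h3
    obtain ⟨i, -, hi⟩ := (Nat.dvd_prime_pow hp.out).mp h3
    have hi0 : i = 0 := by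
      by_contra hne
      apply hQS
      exact (dvd_pow_self p hne).trans (hi ▸ h4)
    rw [hi0, pow_zero, Subgroup.relIndex_eq_one] at hi
    exact le_antisymm h2 hi
  have hQx : cg Q x ≤ pPrimePCore p G := by
    have := cg_mono hQL x
    rwa [cg_normal (pPrimePCore p G)] at this
  obtain ⟨g, hg, hle⟩ := exists_cg_le hQL hQp hQS hQx (IsPGroup.cg' hQp x)
  have heq : cg (cg Q x) g = Q := by
    apply Subgroup.eq_of_le_of_card_ge hle
    rw [card_cg, card_cg]
  rw [← hsup, Subgroup.mem_sup_of_normal_right] at hg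
  obtain ⟨q, hq, k, hk, rfl⟩ := hg
  have h5 : k * x ∈ nz Q := by
    apply mem_nz_of_cg_eq
    have h6 : cg (cg (cg Q x) (q * k)) q⁻¹ = cg Q q⁻¹ := congrArg (fun H => cg H q⁻¹) heq
    rw [cg_cg, cg_cg, cg_eq_of_mem (Q.inv_mem hq)] at h6
    rw [← h6]
    congr 1
    group
  have h6 : k * x ∈ cz Q := by
    rw [Subgroup.mem_centralizer_iff]
    intro y hy
    have h7 : (k * x) * y * (k * x)⁻¹ * y⁻¹ ∈ pPrimeCore p G ⊓ Q := by
      refine ⟨?_, ?_⟩
      · have h8 : (k * x) * y * (k * x)⁻¹ * y⁻¹ =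
            k * (x * y * x⁻¹ * y⁻¹) * (y * k⁻¹ * y⁻¹) := by group
        rw [h8]
        apply (pPrimeCore p G).mul_mem ((pPrimeCore p G).mul_mem hk (hx y (hQL hy)))
        exact (H1.pPrimeCore_normal p G).conj_mem _ ((pPrimeCore p G).inv_mem hk) y
      · exact Q.mul_mem ((Subgroup.mem_normalizer_iff.mp h5 y).mp hy) (Q.inv_mem hy)
    rw [hKQ, Subgroup.mem_bot, mul_inv_eq_one, mul_inv_eq_iff_eq_mul] at h7
    exact h7.symm
  have h7 := hCQ h6
  have h8 : x = k⁻¹ * (k * x) := by group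
  rw [h8]
  exact (pPrimePCore p G).mul_mem
    ((pPrimePCore p G).inv_mem (H10.pPrimeCore_le_pPrimePCore p G hk)) h7

section Char

variable {M : Ideal AlgInt} [hM : M.IsPrime] {K : Subgroup G}

theorem isPBlock_single (hMp : IsPModular p M) (hcop : ¬ p ∣ Nat.card K) [Fintype K]
    (θ : IrrCharacter K) : IsPBlock M ({θ} : Set (IrrCharacter K)) := by
  refine ⟨θ, ?_⟩
  rw [blockOf_eq_singleton hMp]
  rw [Nat.factorization_eq_zero_of_not_dvd hcop]
  exact Nat.zero_le _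

theorem isFx_single [hK : K.Normal] (hMp : IsPModular p M) (hcop : ¬ p ∣ Nat.card K) [Fintype K]
    {θ : IrrCharacter K}
    (hinv : ∀ (g : G) (n : K), (θ : K → ℂ) ⟨g * n * g⁻¹, hK.conj_mem n n.2 g⟩ = (θ : K → ℂ) n) :
    IsFx ⊤ (EH M K {θ}) := by
  apply isFx_EH_of_inv (isPBlock_single hMp hcop θ)
  intro g ψ hψ θ' hθ'
  rw [Set.mem_singleton_iff] at hψ ⊢
  subst hψ
  apply Subtype.ext
  funext n
  rw [hθ' n, hinv]

theorem block_over_inv [hK : K.Normal] (hMp : IsPModular p M) (hcop : ¬ p ∣ Nat.card K)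
    [Fintype K] {θ : IrrCharacter K}
    (hinv : ∀ (g : G) (n : K), (θ : K → ℂ) ⟨g * n * g⁻¹, hK.conj_mem n n.2 g⟩ = (θ : K → ℂ) n)
    (hE : IsBlk ⊤ (EH M K {θ})) :
    ∃ B : Set (IrrCharacter G), IsPBlock M B ∧ EG M B = EH M K {θ} ∧
      ∀ χ : IrrCharacter G, χ ∈ B ↔ classInner (fun n : K => (χ : G → ℂ) n) (θ : K → ℂ) ≠ 0 := by
  have hfin : Fintype G := Fintype.ofFinite G
  have hθ := isPBlock_single hMp hcop θ
  obtain ⟨B, hB, hBE⟩ := exists_EG hE
  refine ⟨B, hB, hBE, ?_⟩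
  intro χ
  constructor
  · intro hχ
    have hcov : EG M B * EH M K {θ} ≠ 0 := by
      rw [hBE, hE.idem]; exact hE.ne_zero
    obtain ⟨ψ, hψ⟩ := exists_constituent_restrict (N := K) χ
    obtain ⟨g, θ', hθ', h1⟩ := exists_inner_of_cov hB hθ hcov hχ hψ
    rw [Set.mem_singleton_iff] at hθ'
    subst hθ'
    have h2 : ψ = θ' := by
      apply Subtype.ext
      funext n
      rw [h1 n, hinv]
    rw [← h2]; exact hψ
  · intro hχ
    have hB' : IsPBlock M (blockOf M (χ : G → ℂ)) := ⟨χ, rfl⟩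
    have hcov : EG M (blockOf M (χ : G → ℂ)) * EH M K {θ} ≠ 0 :=
      (covB_iff hB' hθ).mp ⟨χ, mem_blockOf_self χ, θ, rfl, hχ⟩
    have h3 : blockOf M (χ : G → ℂ) = B := by
      apply EG_injective (M := M) hB' hB
      by_contra hne
      apply hcov
      rw [← hBE]
      exact (isBlk_EG hB').mul_of_ne (isBlk_EG hB) hne
    rw [← h3]; exact mem_blockOf_self χ

end Char

section St

theorem st4492 [Fintype G] (p : ℕ) [Fact p.Prime] (M : Ideal AlgInt) (hM : IsPModular p M)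
    (hsolv : IsPSolvable p G) (N : Subgroup G) [hN : N.Normal] [Fintype N]
    (hNdef : N = pPrimeCore p G) (θ : IrrCharacter N)
    (hinv : ∀ (g : G) (n : N), (θ : N → ℂ) ⟨g * n * g⁻¹, hN.conj_mem n n.2 g⟩ = (θ : N → ℂ) n) :
    ∃ B : Set (IrrCharacter G), IsPBlock M B ∧
      (∀ χ : IrrCharacter G, χ ∈ B ↔
        classInner (fun n : N => (χ : G → ℂ) n) (θ : N → ℂ) ≠ 0) ∧
      (∀ P : Sylow p G, IsDefectGroup p M B (P : Subgroup G)) ∧
      ∀ D : Subgroup G, IsDefectGroup p M B D → ∃ P : Sylow p G, D = (P : Subgroup G) := by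
  have hpr : M.IsPrime := hM.2.1.isPrime
  have hch : CharP (KF M) p := charP_KF hM
  have hCL : CL p N (pPrimePCore p G) := by rw [hNdef]; exact CL_of_pSolvable hsolv
  have hcop := hCL.cop
  have hfx := isFx_single hM hcop hinv
  have he := isBlk_EH (isPBlock_single hM hcop θ)
  have hE := isBlk_top_of_CL hM hCL he hfx
  obtain ⟨B, hB, hBE, hmem⟩ := block_over_inv hM hcop hinv hE
  have hdef : ∀ D : Subgroup G, IsDefectGroup p M B D → ¬ p ∣ D.index ∧ IsPGroup p D := by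
    intro D hD
    rw [isDefectGroup_iff_EG hB, hBE] at hD
    exact ⟨isDef_top_index hM hCL he hfx hD, hD.2.1⟩
  refine ⟨B, hB, hmem, ?_, ?_⟩
  · intro P
    obtain ⟨D, hD⟩ := hE.exists_isDef (p := p)
    have h1 := isDef_top_index hM hCL he hfx hD
    let S : Sylow p G := hD.2.1.toSylow h1
    obtain ⟨g, hg⟩ := MulAction.exists_smul_eq G S P
    rw [isDefectGroup_iff_EG hB, hBE]
    have h2 := hD.conj hE.isFx (Subgroup.mem_top g)
    have h3 : cg D g = (P : Subgroup G) := by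
      rw [← hg]; rfl
    rw [← h3]; exact h2
  · intro D hD
    obtain ⟨h1, h2⟩ := hdef D hD
    exact ⟨h2.toSylow h1, rfl⟩

theorem st4642 [Fintype G] (p : ℕ) [Fact p.Prime] (M : Ideal AlgInt) (hM : IsPModular p M)
    (K : Subgroup G) (hK : K = pPrimeCore p G) [Fintype K] (L : Subgroup G)
    (hL : L = pPrimePCore p G) (Q : Subgroup G) (hQL : Q ≤ L) (hQp : IsPGroup p Q)
    (hQS : ¬ p ∣ Q.relIndex L) (hCQ : Subgroup.centralizer (Q : Set G) ≤ L)
    (θ : IrrCharacter K) (hθ : ∀ g : G, IsConjCharOf K g (θ : K → ℂ) (θ : K → ℂ))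
    (B : Set (IrrCharacter G)) (hBdef : ∀ χ : IrrCharacter G, χ ∈ B ↔
      classInner (fun k : K => (χ : G → ℂ) k) (θ : K → ℂ) ≠ 0) :
    IsPBlock M B ∧ (∀ S : Sylow p G, IsDefectGroup p M B S) ∧
      ∀ R : Subgroup G, IsPGroup p R →
        ∃! f : Set (IrrCharacter (Subgroup.centralizer (R : Set G))),
          IsInducedBlock M (Subgroup.centralizer (R : Set G)) f B := by
  have hpr : M.IsPrime := hM.2.1.isPrime
  have hch : CharP (KF M) p := charP_KF hM
  subst hL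
  have hCL : CL p K (pPrimePCore p G) := by rw [hK]; exact CL_of_centralizer hQL hQp hQS hCQ
  have hKn : K.Normal := hCL.nK
  have hcop := hCL.cop
  have hinv : ∀ (g : G) (n : K),
      (θ : K → ℂ) ⟨g * n * g⁻¹, hKn.conj_mem n n.2 g⟩ = (θ : K → ℂ) n := by
    intro g n
    exact hθ g n ⟨g * n * g⁻¹, hKn.conj_mem n n.2 g⟩ rfl
  have hfx := isFx_single hM hcop hinv
  have he := isBlk_EH (isPBlock_single hM hcop θ)
  have hE := isBlk_top_of_CL hM hCL he hfx
  obtain ⟨B', hB', hBE, hmem⟩ := block_over_inv hM hcop hinv hE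
  have hBB : B = B' := by
    ext χ
    rw [hBdef, hmem]
  subst hBB
  refine ⟨hB', ?_, ?_⟩
  · intro P
    obtain ⟨D, hD⟩ := hE.exists_isDef (p := p)
    have h1 := isDef_top_index hM hCL he hfx hD
    let S : Sylow p G := hD.2.1.toSylow h1
    obtain ⟨g, hg⟩ := MulAction.exists_smul_eq G S P
    rw [isDefectGroup_iff_EG hB', hBE]
    have h2 := hD.conj hE.isFx (Subgroup.mem_top g)
    have h3 : cg D g = (P : Subgroup G) := by
      rw [← hg]; rfl
    rw [← h3]; exact h2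
  · intro R hR
    obtain ⟨f, hf, hfu⟩ := existsUnique_ind_of_CL hM hCL he hfx hR
    obtain ⟨b, hb, hbE⟩ := exists_EH hf.1
    refine ⟨b, ?_, ?_⟩
    · exact (isInducedBlock_iff b B).mpr ⟨hb, hB', by rw [hbE, hBE]; exact hf⟩
    · intro b' hb'
      rw [isInducedBlock_iff, hBE] at hb'
      apply EH_injective (M := M) hb'.1 hb
      rw [hbE]
      exact hfu _ hb'.2.2

end St

end Cfsg.Agent.H26
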