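import Mathlib
import Cfsg.Agent.H26.Cover9
import Cfsg.Agent.H26.OpCon4
import Cfsg.Agent.H26.Defic
import Cfsg.Agent.H27.GlCan
import Cfsg.Agent.H27.TISolv3
import Cfsg.Agent.H3.Gallagher2
import Cfsg.Agent.H3.DegRatio
import Cfsg.Agent.H23.PSolvable

set_option autoImplicit false

/-!
# Fong's bound for heights: degrees over an invariant character of `O_{p'}(G)`
-/

namespace Cfsg.Agent.H26

open MonoidAlgebra MulAction Cfsg Cfsg.Agent.H11 Cfsg.Agent.H3

universe u

theorem exists_between {G : Type u} [Group G] [Finite G] {N T : Subgroup G} [Fintype N]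
    [Fintype T] (hNT : N ≤ T) (χ : IrrCharacter G) {θ : IrrCharacter N}
    (hθ : classInner (fun n : N => (χ : G → ℂ) n) (θ : N → ℂ) ≠ 0) :
    ∃ ψ : IrrCharacter T, classInner (fun t : T => (χ : G → ℂ) t) (ψ : T → ℂ) ≠ 0 ∧
      classInner (fun n : N => (ψ : T → ℂ) ⟨(n : G), hNT n.2⟩) (θ : N → ℂ) ≠ 0 := by
  classical
  have hrest := isChar_restrict T (irr_isChar χ.2)
  have : Fintype (IrrCharacter T) := Fintype.ofFinite _
  have hexp := classFun_expand_apply (char_classFun hrest)
  obtain ⟨c, hc⟩ : ∃ c : IrrCharacter T → ℂ, ∀ ψ, c ψ =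
      classInner (fun t : T => (χ : G → ℂ) t) (ψ : _ → ℂ) := ⟨_, fun _ => rfl⟩
  have h3 : (fun n : N => (χ : G → ℂ) n) = fun n : N =>
      ∑ ψ : IrrCharacter T, c ψ * (ψ : T → ℂ) ⟨(n : G), hNT n.2⟩ := by
    funext n
    rw [Finset.sum_congr rfl (fun ψ _ => by rw [hc ψ])]
    exact hexp ⟨(n : G), hNT n.2⟩
  have h2 : classInner (fun n : N => (χ : G → ℂ) n) (θ : N → ℂ) =
      ∑ ψ : IrrCharacter T,
        c ψ * classInner (fun n : N => (ψ : T → ℂ) ⟨(n : G), hNT n.2⟩)
          (θ : N → ℂ) := by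
    rw [h3]
    unfold classInner
    simp only [Finset.sum_mul]
    rw [Finset.sum_comm, Finset.mul_sum]
    apply Finset.sum_congr rfl
    intro ψ _
    rw [Finset.mul_sum, Finset.mul_sum, Finset.mul_sum]
    apply Finset.sum_congr rfl
    intro n _
    ring
  simp only [hc] at h2
  rw [h2] at hθ
  obtain ⟨ψ, -, hψ⟩ := Finset.exists_ne_zero_of_sum_ne_zero hθ
  exact ⟨ψ, left_ne_zero_of_mul hψ, right_ne_zero_of_mul hψ⟩

/-- above an invariant character of a normal Hall subgroup with abelian quotient all irreducible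
characters have the same degree. -/
theorem deg_eq_of_comm {N : Type u} [Group N] [Fintype N] {K : Subgroup N} [hK : K.Normal]
    [Fintype K] (hcop : (Nat.card K).Coprime K.index)
    (hab : ∀ x y : N, x * y * x⁻¹ * y⁻¹ ∈ K) {θ : IrrCharacter K}
    (hinv : H27.Inv Set.univ K θ) {ψ : IrrCharacter N}
    (hψ : classInner (fun n : K => (ψ : N → ℂ) n) (θ : K → ℂ) ≠ 0) :
    (ψ : N → ℂ) 1 = (θ : K → ℂ) 1 := by
  obtain ⟨X, hX, -⟩ := H27.canExt_aux hcop θ hinv
  have hres : (fun n : K => X n) = (θ : K → ℂ) := funext fun n => hX.res n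
  have hXN : IsIrrCharacter K (fun n : K => X n) := by rw [hres]; exact θ.2
  obtain ⟨-, -, h3, -⟩ := gallagher_one hK hX.irr hXN
  obtain ⟨β, hβ, hβK, hψβ⟩ := h3 (ψ : N → ℂ) ψ.2 (by rw [hres]; exact hψ)
  have hβ1 : β 1 = 1 := by
    apply H27.irr_one_of_commutator hβ
    intro x y
    rw [commutatorElement_def]
    exact hβK ⟨x * y * x⁻¹ * y⁻¹, hab x y⟩
  rw [hψβ, Pi.mul_apply, hβ1, one_mul, ← hX.res 1]
  rfl

/-- the degree bound -/
theorem degree_le_of_inv {G : Type u} [Group G] [Finite G] {p : ℕ} [hp : Fact p.Prime]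
    {K N : Subgroup G} [hK : K.Normal] [hN : N.Normal] (hKN : K ≤ N)
    (hcop : (Nat.card K).Coprime (K.relIndex N)) (hpK : ¬ p ∣ Nat.card K)
    (hab : ∀ x ∈ N, ∀ y ∈ N, x * y * x⁻¹ * y⁻¹ ∈ K) [Fintype K] {θ : IrrCharacter K}
    (hinv : ∀ (g : G) (n : K), (θ : K → ℂ) ⟨g * n * g⁻¹, hK.conj_mem n n.2 g⟩ = (θ : K → ℂ) n)
    (χ : IrrCharacter G) (hχ : classInner (fun n : K => (χ : G → ℂ) n) (θ : K → ℂ) ≠ 0) :
    (charDegree (χ : G → ℂ)).factorization p ≤ N.index.factorization p := by
  classical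
  have hfG : Fintype G := Fintype.ofFinite G
  have hfN : Fintype N := Fintype.ofFinite N
  have hfK' : Fintype (K.subgroupOf N) := Fintype.ofFinite _
  obtain ⟨ψ, hψ1, hψ2⟩ := exists_between hKN χ hχ
  have hK' : (K.subgroupOf N).Normal := hK.subgroupOf N
  -- the degree of ψ
  have hd : (ψ : N → ℂ) 1 = (θ : K → ℂ) 1 := by
    have h1 := classInner_sub hKN (ψ : N → ℂ) θ
    have hc : (Nat.card (K.subgroupOf N)).Coprime (K.subgroupOf N).index := by
      rw [← Nat.card_congr (subE hKN).toEquiv]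
      exact hcop
    have h2 := deg_eq_of_comm (K := K.subgroupOf N) hc
      (fun x y => by
        rw [Subgroup.mem_subgroupOf]
        exact hab x x.2 y y.2) (θ := irrMap (subE hKN) θ) (ψ := ψ) (by
        intro x _ k k' hkk
        rw [irrMap_apply, irrMap_apply]
        have h3 := hinv (x : G) ((subE hKN).symm k)
        rw [← h3]
        refine congrArg (θ : K → ℂ) (Subtype.ext ?_)
        have e1 : (((subE hKN).symm k : K) : G) = ((k : N) : G) := by
          have h4 := subE_coe hKN ((subE hKN).symm k)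
          rw [MulEquiv.apply_symm_apply] at h4
          rw [h4]
        have e2 : (((subE hKN).symm k' : K) : G) = ((k' : N) : G) := by
          have h4 := subE_coe hKN ((subE hKN).symm k')
          rw [MulEquiv.apply_symm_apply] at h4
          rw [h4]
        show (((subE hKN).symm k' : K) : G) = (x : G) * (((subE hKN).symm k : K) : G) * (x : G)⁻¹
        rw [e1, e2, hkk]
        simp) (by rw [h1]; exact hψ2)
    rw [h2, irrMap_apply, map_one]
  have hdψ := charDegree_spec ψ.2
  have hdχ := charDegree_spec χ.2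
  have hdθ := charDegree_spec θ.2
  have hdeq : charDegree (ψ : N → ℂ) = charDegree (θ : K → ℂ) := by
    rw [hdψ.1, hdθ.1] at hd
    exact_mod_cast hd
  obtain ⟨h5, h6⟩ := ratio_dvd_index hN χ.2 ψ.2 hψ1 _ _ hdχ.1 hdψ.1
  have hθp : ¬ p ∣ charDegree (θ : K → ℂ) := fun h =>
    hpK (h.trans (irr_degree_dvd_card θ.2 hdθ.1))
  obtain ⟨c, hc⟩ := h5
  have hψ0 : charDegree (ψ : N → ℂ) ≠ 0 := hdψ.2
  have hχ0 : charDegree (χ : G → ℂ) ≠ 0 := hdχ.2
  have hc0 : c ≠ 0 := by
    rintro rfl
    rw [mul_zero] at hc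
    exact hχ0 hc
  rw [hc, Nat.mul_div_cancel_left _ (Nat.pos_of_ne_zero hψ0)] at h6
  rw [hc, Nat.factorization_mul hψ0 hc0, Finsupp.add_apply,
    hdeq, Nat.factorization_eq_zero_of_not_dvd hθp, zero_add]
  exact (Nat.factorization_le_iff_dvd hc0 Subgroup.index_ne_zero_of_finite).mpr h6 p

/-- Fong's bound for characters over an invariant character of `O_{p'}(G)`. -/
theorem degree_le_of_pSolvable {G : Type u} [Group G] [Finite G] {p : ℕ} [hp : Fact p.Prime]
    (hsolv : IsPSolvable p G) {K : Subgroup G} [hK : K.Normal] (hKdef : K = pPrimeCore p G)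
    [Fintype K] {θ : IrrCharacter K}
    (hinv : ∀ (g : G) (n : K), (θ : K → ℂ) ⟨g * n * g⁻¹, hK.conj_mem n n.2 g⟩ = (θ : K → ℂ) n)
    (χ : IrrCharacter G)
    (hχ : classInner (fun n : K => (χ : G → ℂ) n) (θ : K → ℂ) ≠ 0)
    {P : Subgroup G} (hP : IsPGroup p P) (hPi : ¬ p ∣ P.index) :
    (charDegree (χ : G → ℂ)).factorization p ≤ ((Subgroup.center P).index).factorization p := by
  classical
  have hcopK : (Nat.card K).Coprime p := by
    have h := H1.pPrimeCore_coprime p G
    rwa [← hKdef] at h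
  have hLp := H1.pCore_isPGroup p (G ⧸ K)
  have hbot : pPrimeCore p (G ⧸ K) = ⊥ := by
    have h := H23.pPrimeCore_quotient_eq_bot p G
    subst hKdef
    exact h
  have hcent := H23.centralizer_pCore_le (H23.isPSolvable_quotient K hsolv) hbot
  set R := pCore p (G ⧸ K) with hR
  have hRn : R.Normal := H1.pCore_normal p _
  set C := Subgroup.centralizer (R : Set (G ⧸ K)) with hC
  have hCn : C.Normal := inferInstance
  set N := C.comap (QuotientGroup.mk' K) with hN
  have hNn : N.Normal := hCn.comap _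
  have hKN : K ≤ N := by
    intro x hx
    rw [hN, Subgroup.mem_comap]
    have : QuotientGroup.mk' K x = 1 := by
      rw [QuotientGroup.mk'_apply, QuotientGroup.eq_one_iff]; exact hx
    rw [this]
    exact C.one_mem
  have hab : ∀ x ∈ N, ∀ y ∈ N, x * y * x⁻¹ * y⁻¹ ∈ K := by
    intro x hx y hy
    rw [hN, Subgroup.mem_comap] at hx hy
    have h1 := Subgroup.mem_centralizer_iff.mp hx _ (hcent hy)
    rw [← QuotientGroup.eq_one_iff, QuotientGroup.mk_mul, QuotientGroup.mk_mul,
      QuotientGroup.mk_mul, QuotientGroup.mk_inv, QuotientGroup.mk_inv]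
    have h2 : (y : G ⧸ K) * (x : G ⧸ K) = (x : G ⧸ K) * (y : G ⧸ K) := h1
    rw [← h2]
    group
  obtain ⟨j, hj⟩ := IsPGroup.iff_card.mp (hLp.to_le hcent)
  have hrel : K.relIndex N = p ^ j := by
    have h1 := H23.card_comap_mk' K C
    have h2 := Subgroup.relIndex_mul_relIndex (⊥ : Subgroup G) K N bot_le hKN
    rw [Subgroup.relIndex_bot_left, Subgroup.relIndex_bot_left] at h2
    rw [← hN, hj, ← h2] at h1
    exact Nat.eq_of_mul_eq_mul_left Nat.card_pos h1
  have hpK : ¬ p ∣ Nat.card K := by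
    rw [hKdef]
    exact cop_pPrimeCore
  have hmain := degree_le_of_inv hKN (by rw [hrel]; exact hcopK.pow_right j) hpK hab hinv χ hχ
  refine hmain.trans ?_
  -- the centre of `P` lies in `N`
  have hZN : (Subgroup.center P).map P.subtype ≤ N := by
    rintro x ⟨z, hz, rfl⟩
    rw [hN, Subgroup.mem_comap, Subgroup.mem_centralizer_iff]
    intro y hy
    -- y lies in the image of `P`
    obtain ⟨S, hS⟩ := hP.exists_le_sylow
    have hPS : P = S := by
      apply le_antisymm hS
      have h1 : P.relIndex S = 1 := by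
        have h2 : ¬ p ∣ P.relIndex S := fun h => hPi (h.trans (Subgroup.relIndex_dvd_index_of_le hS))
        obtain ⟨k, hk⟩ := IsPGroup.iff_card.mp S.2
        have h3 : P.relIndex S ∣ p ^ k := by
          rw [← hk]; exact Subgroup.relIndex_dvd_card P S
        obtain ⟨i, -, hi⟩ := (Nat.dvd_prime_pow hp.out).mp h3
        rw [hi] at h2 ⊢
        cases i with
        | zero => rfl
        | succ i => exact absurd (dvd_pow_self p (Nat.succ_ne_zero i)) h2
      exact Subgroup.relIndex_eq_one.mp h1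
    have hy2 : y ∈ (P.map (QuotientGroup.mk' K)) := by
      have h1 := H1.pCore_le_sylow (S.mapSurjective (QuotientGroup.mk'_surjective K)) hy
      rw [Sylow.coe_mapSurjective, ← hPS] at h1
      exact h1
    obtain ⟨w, hw, rfl⟩ := hy2
    have h3 := congrArg Subtype.val (Subgroup.mem_center_iff.mp hz ⟨w, hw⟩)
    show QuotientGroup.mk' K w * QuotientGroup.mk' K (z : G) =
      QuotientGroup.mk' K (z : G) * QuotientGroup.mk' K w
    rw [← map_mul, ← map_mul]
    exact congrArg _ h3
  have hZc : Nat.card (Subgroup.center P) ∣ Nat.card N := by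
    have h1 := Subgroup.card_dvd_of_le hZN
    rwa [Nat.card_congr ((Subgroup.center P).equivMapOfInjective P.subtype
      P.subtype_injective).toEquiv.symm] at h1
  have e1 : (Nat.card N).factorization p + N.index.factorization p =
      (Nat.card G).factorization p := by
    rw [← Subgroup.card_mul_index N, Nat.factorization_mul Nat.card_pos.ne'
      Subgroup.index_ne_zero_of_finite, Finsupp.add_apply]
  have e2 : (Nat.card P).factorization p = (Nat.card G).factorization p := by
    rw [← Subgroup.card_mul_index P, Nat.factorization_mul Nat.card_pos.ne'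
      Subgroup.index_ne_zero_of_finite, Finsupp.add_apply,
      Nat.factorization_eq_zero_of_not_dvd hPi, add_zero]
  have e3 : (Nat.card (Subgroup.center P)).factorization p +
      ((Subgroup.center P).index).factorization p = (Nat.card P).factorization p := by
    rw [← Subgroup.card_mul_index (Subgroup.center P), Nat.factorization_mul Nat.card_pos.ne'
      Subgroup.index_ne_zero_of_finite, Finsupp.add_apply]
  have e4 := (Nat.factorization_le_iff_dvd Nat.card_pos.ne' Nat.card_pos.ne').mpr hZc p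
  omega

end Cfsg.Agent.H26
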