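import Mathlib
import Cfsg.Agent.H26.Coef
import Cfsg.Agent.H3.CohB

set_option autoImplicit false

/-!
# Virtual projective characters in a block
-/

namespace Cfsg.Agent.H26

open Cfsg Cfsg.Agent.H3 Cfsg.Agent.H11 Cfsg.Agent.H27 Finset
open scoped ComplexConjugate

universe u

section PP

variable {X : Type u} [Group X] [Fintype X] {p : ℕ} [hp : Fact p.Prime] {M : Ideal AlgInt}

/-- virtual projective characters in `b` -/
def IsPr (p : ℕ) (b : Set (IrrCharacter X)) (Φ : X → ℂ) : Prop :=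
  IsGeneralizedCharacter X Φ ∧ (∀ g, p ∣ orderOf g → Φ g = 0) ∧
    ∀ θ : IrrCharacter X, θ ∉ b → classInner Φ (θ : X → ℂ) = 0

variable {b : Set (IrrCharacter X)} {Φ Φ' : X → ℂ}

theorem IsPr.zero : IsPr p b (0 : X → ℂ) :=
  ⟨isGen_zero, fun _ _ => rfl, fun _ _ => by unfold classInner; simp⟩

theorem IsPr.add (h : IsPr p b Φ) (h' : IsPr p b Φ') : IsPr p b (Φ + Φ') :=
  ⟨isGen_add h.1 h'.1, fun g hg => by rw [Pi.add_apply, h.2.1 g hg, h'.2.1 g hg, add_zero],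
    fun θ hθ => by rw [classInner_add_left, h.2.2 θ hθ, h'.2.2 θ hθ, add_zero]⟩

theorem IsPr.zsmul (n : ℤ) (h : IsPr p b Φ) : IsPr p b ((n : ℂ) • Φ) :=
  ⟨isGen_intCast_smul n h.1, fun g hg => by rw [Pi.smul_apply, h.2.1 g hg, smul_zero],
    fun θ hθ => by rw [classInner_smul_left, h.2.2 θ hθ, mul_zero]⟩

theorem IsPr.neg (h : IsPr p b Φ) : IsPr p b (-Φ) := by
  have := h.zsmul (-1)
  simpa using this

theorem IsPr.sub (h : IsPr p b Φ) (h' : IsPr p b Φ') : IsPr p b (Φ - Φ') := by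
  rw [sub_eq_add_neg]
  exact h.add h'.neg

theorem IsPr.int (h : IsPr p b Φ) (h' : IsPr p b Φ') : ∃ n : ℤ, classInner Φ Φ' = n :=
  classInner_gen_int h.1 h'.1

theorem gen_norm_nat {Φ : X → ℂ} (h : IsGeneralizedCharacter X Φ) :
    ∃ n : ℕ, classInner Φ Φ = n := by
  obtain ⟨n, hn⟩ := classInner_gen_int h h
  have h1 := classInner_self_re_nonneg Φ
  rw [hn] at h1
  have h2 : (0 : ℤ) ≤ n := by
    have : (0 : ℝ) ≤ (n : ℝ) := by simpa using h1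
    exact_mod_cast this
  refine ⟨n.toNat, ?_⟩
  rw [hn]
  have : ((n.toNat : ℤ)) = n := Int.toNat_of_nonneg h2
  rw [← this]; push_cast; rfl

theorem IsPr.eq_sum [Fintype (IrrCharacter X)] [DecidablePred (· ∈ b)] (h : IsPr p b Φ) :
    Φ = ∑ θ : IrrCharacter X with θ ∈ b, classInner Φ (θ : X → ℂ) • (θ : X → ℂ) := by
  funext g
  rw [classFun_expand_apply (isGen_iff.mp h.1).1 g, Finset.sum_apply, Finset.sum_filter]
  apply Finset.sum_congr rfl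
  intro θ _
  split_ifs with hθ
  · rfl
  · rw [h.2.2 θ hθ, zero_mul]

theorem IsPr.reg (h : IsPr p b Φ) : pRegularPart p Φ = Φ := by
  funext g
  by_cases hg : p ∣ orderOf g
  · rw [pr_sing hg, h.2.1 g hg]
  · rw [pr_reg hg]

/-- the span of the `p`-regular parts -/
noncomputable def VB (p : ℕ) (b : Set (IrrCharacter X)) : Submodule ℂ (X → ℂ) :=
  Submodule.span ℂ ((fun χ : IrrCharacter X => pRegularPart p (χ : X → ℂ)) '' b)

theorem IsPr.mem_VB (h : IsPr p b Φ) : Φ ∈ VB p b := by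
  classical
  have := Fintype.ofFinite (IrrCharacter X)
  rw [← h.reg, h.eq_sum, pr_sum]
  apply Submodule.sum_mem
  intro θ hθ
  rw [pr_smul]
  exact Submodule.smul_mem _ _ (Submodule.subset_span ⟨θ, (Finset.mem_filter.mp hθ).2, rfl⟩)

theorem isPr_reg (hM : IsPModular p M) (hb : IsPBlock M b) {θ : IrrCharacter X} (hθ : θ ∈ b) :
    IsPr p b (((p : ℂ) ^ blockDefect p b) • pRegularPart p (θ : X → ℂ)) := by
  have hpr := hM.2.1.isPrime
  have h0 : ∀ ψ : IrrCharacter X, ψ ∉ b →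
      classInner (((p : ℂ) ^ blockDefect p b) • pRegularPart p (θ : X → ℂ)) (ψ : X → ℂ) = 0 := by
    intro ψ hψ
    rw [classInner_smul_left]
    have : mm p (θ : X → ℂ) (ψ : X → ℂ) = 0 :=
      mm_eq_zero hM (fun h => hψ ((mem_isPBlock_iff hb hθ).mpr h))
    change _ * mm p (θ : X → ℂ) (ψ : X → ℂ) = 0
    rw [this, mul_zero]
  refine ⟨?_, ?_, h0⟩
  · rw [isGen_iff]
    constructor
    · intro g h
      have := pr_classFun (p := p) (irr_classFun θ.2) g h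
      rw [Pi.smul_apply, Pi.smul_apply, this]
    · intro ψ
      by_cases hψ : ψ ∈ b
      · obtain ⟨c, h1, -⟩ := exists_cmat hM hb
        refine ⟨c θ ψ, ?_⟩
        rw [classInner_smul_left]
        exact h1 θ ψ hθ hψ
      · exact ⟨0, by rw [h0 ψ hψ]; simp⟩
  · intro g hg
    rw [Pi.smul_apply, pr_sing hg, smul_zero]

theorem VB_le_of (hM : IsPModular p M) (hb : IsPBlock M b) {W : Submodule ℂ (X → ℂ)}
    (h : ∀ Φ, IsPr p b Φ → Φ ∈ W) : VB p b ≤ W := by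
  unfold VB
  rw [Submodule.span_le]
  rintro _ ⟨θ, hθ, rfl⟩
  have h1 := h _ (isPr_reg hM hb hθ)
  have hp0 : ((p : ℂ) ^ blockDefect p b) ≠ 0 :=
    pow_ne_zero _ (by exact_mod_cast hM.1.ne_zero)
  have h2 := W.smul_mem ((p : ℂ) ^ blockDefect p b)⁻¹ h1
  rwa [smul_smul, inv_mul_cancel₀ hp0, one_smul] at h2

theorem classInner_lin (s t : ℝ) (Ψ₁ Ψ₂ : X → ℂ) {α β γ : ℤ} (h1 : classInner Ψ₁ Ψ₁ = α)
    (h2 : classInner Ψ₁ Ψ₂ = β) (h3 : classInner Ψ₂ Ψ₂ = γ) :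
    classInner ((s : ℂ) • Ψ₁ + (t : ℂ) • Ψ₂) ((s : ℂ) • Ψ₁ + (t : ℂ) • Ψ₂) =
      ((s ^ 2 * α + 2 * (s * t) * β + t ^ 2 * γ : ℝ) : ℂ) := by
  have h4 : classInner Ψ₂ Ψ₁ = β := by
    rw [← classInner_conj_symm, h2, map_intCast]
  simp only [classInner_add_left, classInner_add_right, classInner_smul_left,
    classInner_smul_right, Complex.conj_ofReal, h1, h2, h3, h4]
  push_cast
  ring

/-- A reduced basis of the virtual projective characters of a block with two Brauer characters. -/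
theorem exists_red (hM : IsPModular p M) (hb : IsPBlock M b) (h2 : blockRank p b = 2) :
    ∃ (Ψ₁ Ψ₂ : X → ℂ) (α β γ : ℤ), IsPr p b Ψ₁ ∧ IsPr p b Ψ₂ ∧ classInner Ψ₁ Ψ₁ = α ∧
      classInner Ψ₁ Ψ₂ = β ∧ classInner Ψ₂ Ψ₂ = γ ∧ 0 < α ∧ 0 ≤ β ∧ 2 * β ≤ α ∧ α ≤ γ ∧
      (∀ Φ, IsPr p b Φ → ∃ m n : ℤ, Φ = (m : ℂ) • Ψ₁ + (n : ℂ) • Ψ₂) ∧
      (∀ m n : ℤ, (m : ℂ) • Ψ₁ + (n : ℂ) • Ψ₂ = 0 → m = 0 ∧ n = 0) := by
  classical
  have hfr : Module.finrank ℂ (VB p b) = 2 := h2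
  -- the first vector
  have hex1 : ∃ n : ℕ, ∃ Φ : X → ℂ, IsPr p b Φ ∧ Φ ≠ 0 ∧ classInner Φ Φ = n := by
    by_contra hcon
    push Not at hcon
    have h3 : VB p b ≤ ⊥ := VB_le_of hM hb (fun Φ hΦ => by
      rw [Submodule.mem_bot]
      by_contra hne
      obtain ⟨n, hn⟩ := gen_norm_nat hΦ.1
      exact hcon n Φ hΦ hne hn)
    rw [le_bot_iff] at h3
    rw [h3, finrank_bot] at hfr
    omega
  obtain ⟨Ψ₁, hΨ₁, hne1, hα⟩ := Nat.find_spec hex1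
  set α := Nat.find hex1 with hαd
  have hαmin : ∀ Φ, IsPr p b Φ → Φ ≠ 0 → ∀ n : ℕ, classInner Φ Φ = n → α ≤ n :=
    fun Φ h3 h4 n h5 => Nat.find_min' hex1 ⟨Φ, h3, h4, h5⟩
  have hα0 : 0 < α := by
    rcases Nat.eq_zero_or_pos α with h | h
    · exfalso
      rw [h, Nat.cast_zero] at hα
      exact hne1 (eq_zero_of_norm' hα)
    · exact h
  -- the second vector
  have hex2 : ∃ n : ℕ, ∃ Φ : X → ℂ, IsPr p b Φ ∧ (∀ c : ℂ, Φ ≠ c • Ψ₁) ∧
      classInner Φ Φ = n := by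
    by_contra hcon
    push Not at hcon
    have h3 : VB p b ≤ Submodule.span ℂ {Ψ₁} := VB_le_of hM hb (fun Φ hΦ => by
      rw [Submodule.mem_span_singleton]
      by_contra hne
      obtain ⟨n, hn⟩ := gen_norm_nat hΦ.1
      exact hcon n Φ hΦ (fun c hc => hne ⟨c, hc.symm⟩) hn)
    have h4 := Submodule.finrank_mono h3
    rw [hfr] at h4
    have h5 := finrank_span_singleton (K := ℂ) hne1
    omega
  obtain ⟨Ψ₂', hΨ₂', hne2', hγ'⟩ := Nat.find_spec hex2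
  set γ := Nat.find hex2 with hγd
  have hγmin : ∀ Φ, IsPr p b Φ → (∀ c : ℂ, Φ ≠ c • Ψ₁) → ∀ n : ℕ, classInner Φ Φ = n → γ ≤ n :=
    fun Φ h3 h4 n h5 => Nat.find_min' hex2 ⟨Φ, h3, h4, h5⟩
  -- sign
  obtain ⟨Ψ₂, hΨ₂, hne2, hγ, β, hβ, hβ0⟩ : ∃ Ψ₂ : X → ℂ, IsPr p b Ψ₂ ∧ (∀ c : ℂ, Ψ₂ ≠ c • Ψ₁) ∧
      classInner Ψ₂ Ψ₂ = (γ : ℂ) ∧ ∃ β : ℤ, classInner Ψ₁ Ψ₂ = β ∧ 0 ≤ β := by
    obtain ⟨β, hβ⟩ := hΨ₁.int hΨ₂'
    rcases le_total 0 β with h | h
    · exact ⟨Ψ₂', hΨ₂', hne2', hγ', β, hβ, h⟩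
    · refine ⟨-Ψ₂', hΨ₂'.neg, fun c hc => hne2' (-c) ?_, ?_, -β, ?_, by omega⟩
      · rw [neg_smul, ← hc, neg_neg]
      · rw [classInner_neg_left, classInner_neg_right, neg_neg, hγ']
      · rw [classInner_neg_right, hβ]; push_cast; rfl
  have hαγ : α ≤ γ := hαmin Ψ₂ hΨ₂ (fun h => hne2 0 (by rw [h, zero_smul])) γ hγ
  have hα' : classInner Ψ₁ Ψ₁ = ((α : ℤ) : ℂ) := by rw [hα]; push_cast; rfl
  have hγ'' : classInner Ψ₂ Ψ₂ = ((γ : ℤ) : ℂ) := by rw [hγ]; push_cast; rfl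
  have h2β : 2 * β ≤ α := by
    have h3 := classInner_lin (-1) 1 Ψ₁ Ψ₂ hα' hβ hγ''
    have h4 : ((-1 : ℝ) : ℂ) • Ψ₁ + ((1 : ℝ) : ℂ) • Ψ₂ = Ψ₂ - Ψ₁ := by
      push_cast; rw [one_smul, neg_one_smul]; abel
    rw [h4] at h3
    obtain ⟨n, hn⟩ := gen_norm_nat (hΨ₂.sub hΨ₁).1
    have h5 := hγmin (Ψ₂ - Ψ₁) (hΨ₂.sub hΨ₁) (fun c hc => hne2 (c + 1) (by
      rw [add_smul, one_smul, ← hc, sub_add_cancel])) n hn
    rw [hn] at h3
    have h6 : (n : ℝ) = (-1 : ℝ) ^ 2 * ((α : ℤ) : ℝ) + 2 * (-1 * 1) * β + 1 ^ 2 * ((γ : ℤ) : ℝ) := by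
      exact_mod_cast h3
    have h7 : (n : ℤ) = α - 2 * β + γ := by
      have : (n : ℝ) = ((α - 2 * β + γ : ℤ) : ℝ) := by rw [h6]; push_cast; ring
      exact_mod_cast this
    omega
  have hβ' : (β : ℝ) ≤ α / 2 := by
    have : (2 * β : ℝ) ≤ α := by exact_mod_cast h2β
    linarith
  have hβ0' : (0 : ℝ) ≤ β := by exact_mod_cast hβ0
  have hαR : (0 : ℝ) < α := by exact_mod_cast hα0
  have hαγR : (α : ℝ) ≤ γ := by exact_mod_cast hαγ
  have hΔ : (0 : ℝ) < α * γ - β ^ 2 := by nlinarith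
  have hlin : ∀ s t : ℂ, s • Ψ₁ + t • Ψ₂ = 0 → s = 0 ∧ t = 0 := by
    intro s t hst
    have ht : t = 0 := by
      by_contra ht
      apply hne2 (-(t⁻¹ * s))
      have h3 : t • Ψ₂ = -(s • Ψ₁) := by
        rw [eq_neg_iff_add_eq_zero, add_comm]; exact hst
      have h4 := congrArg (fun z => t⁻¹ • z) h3
      simp only [smul_smul, smul_neg] at h4
      rw [inv_mul_cancel₀ ht, one_smul] at h4
      rw [h4, neg_smul]
    subst ht
    rw [zero_smul, add_zero] at hst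
    exact ⟨(smul_eq_zero.mp hst).resolve_right hne1, rfl⟩
  have hspan : VB p b ≤ Submodule.span ℂ {Ψ₁, Ψ₂} := by
    have h3 : Submodule.span ℂ {Ψ₁, Ψ₂} ≤ VB p b := by
      rw [Submodule.span_le]
      intro f hf
      rcases hf with rfl | hf
      · exact hΨ₁.mem_VB
      · rw [Set.mem_singleton_iff] at hf
        rw [hf]; exact hΨ₂.mem_VB
    have h4 : LinearIndependent ℂ ![Ψ₁, Ψ₂] := by
      rw [LinearIndependent.pair_iff]
      exact hlin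
    have h5 : Module.finrank ℂ (Submodule.span ℂ {Ψ₁, Ψ₂}) = 2 := by
      have h6 := finrank_span_eq_card h4
      rw [Matrix.range_cons, Matrix.range_cons, Matrix.range_empty, Set.union_empty] at h6
      exact h6
    exact (Submodule.eq_of_le_of_finrank_eq h3 (by rw [h5, hfr])).ge
  refine ⟨Ψ₁, Ψ₂, α, β, γ, hΨ₁, hΨ₂, hα', hβ, hγ'', by exact_mod_cast hα0, hβ0, h2β,
    by exact_mod_cast hαγ, ?_, ?_⟩
  · intro Φ hΦ
    obtain ⟨a, c, hac⟩ := Submodule.mem_span_pair.mp (hspan hΦ.mem_VB)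
    obtain ⟨u, hu⟩ := hΦ.int hΨ₁
    obtain ⟨v, hv⟩ := hΦ.int hΨ₂
    have hβ2 : classInner Ψ₂ Ψ₁ = β := by
      rw [← classInner_conj_symm, hβ, map_intCast]
    have e1 : a * α + c * β = u := by
      rw [← hu, ← hac, classInner_add_left, classInner_smul_left, classInner_smul_left, hα, hβ2]
    have e2 : a * β + c * γ = v := by
      rw [← hv, ← hac, classInner_add_left, classInner_smul_left, classInner_smul_left, hβ, hγ]
    have hΔC : ((α * γ - β ^ 2 : ℝ) : ℂ) ≠ 0 := by exact_mod_cast hΔ.ne'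
    have ha : a = (((u * γ - v * β) / (α * γ - β ^ 2) : ℝ) : ℂ) := by
      rw [Complex.ofReal_div, eq_div_iff hΔC]
      push_cast
      linear_combination (γ : ℂ) * e1 - (β : ℂ) * e2
    have hc : c = (((v * α - u * β) / (α * γ - β ^ 2) : ℝ) : ℂ) := by
      rw [Complex.ofReal_div, eq_div_iff hΔC]
      push_cast
      linear_combination (α : ℂ) * e2 - (β : ℂ) * e1
    set ra : ℝ := (u * γ - v * β) / (α * γ - β ^ 2) with hra
    set rc : ℝ := (v * α - u * β) / (α * γ - β ^ 2) with hrc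
    refine ⟨round ra, round rc, ?_⟩
    set s : ℝ := ra - round ra with hs
    set t : ℝ := rc - round rc with ht
    have hs2 : |s| ≤ 1 / 2 := abs_sub_round ra
    have ht2 : |t| ≤ 1 / 2 := abs_sub_round rc
    set Φ' : X → ℂ := Φ - (((round ra : ℤ) : ℂ) • Ψ₁ + ((round rc : ℤ) : ℂ) • Ψ₂) with hΦ'
    have hΦ'P : IsPr p b Φ' := hΦ.sub ((hΨ₁.zsmul _).add (hΨ₂.zsmul _))
    have hΦ'e : Φ' = (s : ℂ) • Ψ₁ + (t : ℂ) • Ψ₂ := by
      rw [hΦ', ← hac, ha, hc, hs, ht]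
      push_cast
      rw [sub_smul, sub_smul]
      abel
    have h3 := classInner_lin s t Ψ₁ Ψ₂ hα' hβ hγ''
    rw [← hΦ'e] at h3
    obtain ⟨n, hn⟩ := gen_norm_nat hΦ'P.1
    rw [hn] at h3
    have h4 : (n : ℝ) = s ^ 2 * α + 2 * (s * t) * β + t ^ 2 * γ := by
      have : ((n : ℝ) : ℂ) = ((s ^ 2 * ((α : ℤ) : ℝ) + 2 * (s * t) * β +
        t ^ 2 * ((γ : ℤ) : ℝ) : ℝ) : ℂ) := by
        rw [← h3]; push_cast; rfl
      have h5 := Complex.ofReal_injective this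
      rw [h5]; push_cast; rfl
    have hs3 : s ^ 2 ≤ 1 / 4 := by
      have := sq_abs s
      have h5 : |s| ^ 2 ≤ (1 / 2) ^ 2 := by gcongr
      linarith
    have ht3 : t ^ 2 ≤ 1 / 4 := by
      have := sq_abs t
      have h5 : |t| ^ 2 ≤ (1 / 2) ^ 2 := by gcongr
      linarith
    have hst3 : s * t ≤ 1 / 4 := by nlinarith [sq_nonneg (s - t)]
    have hΦ0 : Φ' = 0 := by
      by_contra hne
      by_cases ht0 : t = 0
      · have h5 := hαmin Φ' hΦ'P hne n hn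
        have h6 : (α : ℝ) ≤ n := by exact_mod_cast h5
        rw [h4, ht0] at h6
        nlinarith
      · have h5 := hγmin Φ' hΦ'P (fun c' hc' => by
          have h6 : ((s : ℂ) - c') • Ψ₁ + (t : ℂ) • Ψ₂ = 0 := by
            rw [sub_smul, ← hc', hΦ'e]; abel
          exact ht0 (by exact_mod_cast (hlin _ _ h6).2)) n hn
        have h6 : (γ : ℝ) ≤ n := by exact_mod_cast h5
        rw [h4] at h6
        nlinarith
    rw [hΦ', sub_eq_zero] at hΦ0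
    exact hΦ0
  · intro m n hmn
    obtain ⟨h3, h4⟩ := hlin _ _ hmn
    exact ⟨by exact_mod_cast h3, by exact_mod_cast h4⟩

end PP

end Cfsg.Agent.H26
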