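import Mathlib
import Cfsg.Agent.H26.Coef3
import Cfsg.Agent.H26.Sec

set_option autoImplicit false

/-!
# Contributions of subsections and heights
-/

namespace Cfsg.Agent.H26

open Cfsg Cfsg.Agent.H3 Cfsg.Agent.H11 Cfsg.Agent.H27 Finset
open scoped ComplexConjugate

universe u

section Ext

variable {G : Type u} [Group G] [Fintype G] {p : ℕ} [hp : Fact p.Prime] {M : Ideal AlgInt}

/-- Extension of a class function of `C(x)` to the `p`-section of `x`. -/
theorem exists_ext_sec {x : G} (hx : ∃ k : ℕ, orderOf x = p ^ k) {C : Subgroup G}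
    (hC : C = Subgroup.centralizer ({x} : Set G)) {f : C → ℂ} (hf : IsClassFunction C f) :
    ∃ η : G → ℂ, IsClassFunction G η ∧ (∀ s : C, ¬ p ∣ orderOf s → η (x * s) = f s) ∧
      (∀ g, (¬ ∃ z, IsPPart p g z ∧ IsConj x z) → η g = 0) ∧
      ∀ g, η g = 0 ∨ ∃ s, η g = f s := by
  classical
  have hcomm : ∀ y : C, Commute x (y : G) := fun y => by
    have h : (y : G) ∈ Subgroup.centralizer ({x} : Set G) := hC ▸ y.2
    exact (Subgroup.mem_centralizer_singleton_iff.mp h).symm
  let R : G → G → C → Prop := fun g u s => ¬ p ∣ orderOf s ∧ g = u * (x * s) * u⁻¹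
  have key : ∀ g u s u' s', R g u s → R g u' s' → f s = f s' := by
    rintro g u s u' s' ⟨hs, hg⟩ ⟨hs', hg'⟩
    have h1 : IsPPart p g (u * x * u⁻¹) := by
      rw [hg]; exact isPPart_conj (isPPart_mul hx (hcomm s) (by rwa [Subgroup.orderOf_coe])) u
    have h2 : IsPPart p g (u' * x * u'⁻¹) := by
      rw [hg']; exact isPPart_conj (isPPart_mul hx (hcomm s') (by rwa [Subgroup.orderOf_coe])) u'
    have h3 := isPPart_unique hp.out h1 h2
    set w := u'⁻¹ * u with hw
    have h4 : w * x * w⁻¹ = x := by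
      calc w * x * w⁻¹ = u'⁻¹ * (u * x * u⁻¹) * u' := by rw [hw]; group
        _ = u'⁻¹ * (u' * x * u'⁻¹) * u' := by rw [h3]
        _ = x := by group
    have hwC : w ∈ C := by
      rw [hC, Subgroup.mem_centralizer_singleton_iff]
      exact mul_inv_eq_iff_eq_mul.mp h4
    have h5 : (s' : G) = w * s * w⁻¹ := by
      have h6 : x * (s' : G) = w * (x * s) * w⁻¹ := by
        calc x * (s' : G) = u'⁻¹ * (u' * (x * s') * u'⁻¹) * u' := by group
          _ = u'⁻¹ * (u * (x * s) * u⁻¹) * u' := by rw [← hg', hg]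
          _ = w * (x * s) * w⁻¹ := by rw [hw]; group
      have h7 : w * (x * (s : G)) * w⁻¹ = x * (w * s * w⁻¹) := by
        calc w * (x * (s : G)) * w⁻¹ = (w * x * w⁻¹) * (w * s * w⁻¹) := by group
          _ = _ := by rw [h4]
      rw [h7] at h6
      exact mul_left_cancel h6
    have h8 : s' = ⟨w, hwC⟩ * s * (⟨w, hwC⟩ : C)⁻¹ := Subtype.ext h5
    rw [h8, hf]
  let η : G → ℂ := fun g => if h : ∃ u s, R g u s then f h.choose_spec.choose else 0
  have hη : ∀ g u s, R g u s → η g = f s := by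
    intro g u s h
    have h1 : ∃ u s, R g u s := ⟨u, s, h⟩
    change (if h : ∃ u s, R g u s then f h.choose_spec.choose else 0) = f s
    rw [dif_pos h1]
    exact key _ _ _ _ _ h1.choose_spec.choose_spec h
  have hη0 : ∀ g, (¬ ∃ u s, R g u s) → η g = 0 := by
    intro g h
    change (if h : ∃ u s, R g u s then f h.choose_spec.choose else 0) = 0
    rw [dif_neg h]
  refine ⟨η, ?_, ?_, ?_, ?_⟩
  · intro g h
    by_cases hg : ∃ u s, R g u s
    · obtain ⟨u, s, hs, hus⟩ := hg
      rw [hη g u s ⟨hs, hus⟩, hη (h * g * h⁻¹) (h * u) s ⟨hs, by rw [hus]; group⟩]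
    · rw [hη0 g hg, hη0]
      rintro ⟨u, s, hs, hus⟩
      apply hg
      refine ⟨h⁻¹ * u, s, hs, ?_⟩
      calc g = h⁻¹ * (h * g * h⁻¹) * h := by group
        _ = _ := by rw [hus]; group
  · intro s hs
    exact hη _ 1 s ⟨hs, by group⟩
  · intro g hg
    apply hη0
    rintro ⟨u, s, hs, hus⟩
    apply hg
    refine ⟨u * x * u⁻¹, ?_, isConj_iff.mpr ⟨u, rfl⟩⟩
    rw [hus]
    exact isPPart_conj (isPPart_mul hx (hcomm s) (by rwa [Subgroup.orderOf_coe])) u
  · intro g
    by_cases hg : ∃ u s, R g u s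
    · obtain ⟨u, s, h⟩ := hg
      exact Or.inr ⟨s, hη g u s h⟩
    · exact Or.inl (hη0 g hg)

omit hp in
theorem ct_classFun {C : Subgroup G} [Fintype C] (x : G) {b : Set (IrrCharacter C)}
    (χ : G → ℂ) : IsClassFunction C (ct C x b χ) := by
  classical
  have := Fintype.ofFinite (IrrCharacter C)
  intro g h
  rw [ct_eq_sum, Finset.sum_apply, Finset.sum_apply]
  apply Finset.sum_congr rfl
  intro θ _
  simp only [Pi.smul_apply]
  rw [irr_classFun θ.2]

/-- values of the components lie in the local ring, with their conjugates -/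
theorem lr_ct (hM : IsPModular p M) {C : Subgroup G} [Fintype C] {x : C}
    (hx : ∀ c, x * c = c * x) {b : Set (IrrCharacter C)} {χ : G → ℂ} (hχ : IsCharacter G χ)
    (s : C) : MemLocalRing M (conj (ct C (x : G) b χ s)) := by
  classical
  have hpr := hM.2.1.isPrime
  have := Fintype.ofFinite (IrrCharacter C)
  rw [ct_eq_sum, Finset.sum_apply, map_sum]
  apply lr_sum
  intro θ _
  simp only [Pi.smul_apply, smul_eq_mul]
  rw [map_mul, ac_eq hχ hx, map_mul]
  obtain ⟨n, hn⟩ := classInner_char_nat (isChar_restrict' (C := C) hχ) (irr_isChar θ.2)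
  rw [hn, Complex.conj_natCast]
  refine lr_mul (lr_mul (lr_natCast M n) ?_) ?_
  · rw [conj_lv θ.2 hx (orderOf_pos x).ne' (pow_orderOf_eq_one x)]
    have h1 : (lv x (θ : C → ℂ))⁻¹ = lv x (θ : C → ℂ) ^ (orderOf x - 1) := by
      apply inv_eq_of_mul_eq_one_right
      rw [← pow_succ', Nat.sub_add_cancel (orderOf_pos x), lv_pow_eq_one θ.2 hx
        (pow_orderOf_eq_one x)]
    rw [h1]
    exact lr_pow (lr_lv θ.2 hx) _
  · rw [← char_inv (irr_isChar θ.2)]
    exact lr_isChar hpr (irr_isChar θ.2) _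

/-- The central element of a subsection. -/
theorem exists_zsec (hM : IsPModular p M) {x : G} (hx : ∃ k : ℕ, orderOf x = p ^ k)
    {C : Subgroup G} [Fintype C] (hC : C = Subgroup.centralizer ({x} : Set G))
    {b : Set (IrrCharacter C)} (hb : IsPBlock M b) {ψ : G → ℂ} (hψ : IsCharacter G ψ) :
    ∃ Z : MonoidAlgebra ℂ G, IsZS M Z ∧ ∀ χ : IrrCharacter G,
      omega (χ : G → ℂ) Z = (Nat.card G : ℂ) * cn p C x b (χ : G → ℂ) ψ / (χ : G → ℂ) 1 := by
  classical
  have hpr := hM.2.1.isPrime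
  subst hC
  have := Fintype.ofFinite (IrrCharacter (Subgroup.centralizer ({x} : Set G)))
  have hxC : x ∈ Subgroup.centralizer ({x} : Set G) :=
    Subgroup.mem_centralizer_singleton_iff.mpr rfl
  set x' : Subgroup.centralizer ({x} : Set G) := ⟨x, hxC⟩ with hx'
  have hxc : ∀ c, x' * c = c * x' := fun c =>
    Subtype.ext (Subgroup.mem_centralizer_singleton_iff.mp c.2).symm
  obtain ⟨η, hη1, hη2, hη3, hη4⟩ := exists_ext_sec hx rfl
    (ct_classFun (C := Subgroup.centralizer ({x} : Set G)) x (b := b) ψ)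
  refine ⟨toAlg (fun g => conj (η g)), ⟨?_, ?_⟩, ?_⟩
  · apply isCen_toAlg
    intro g h
    exact congrArg conj (hη1 g h)
  · intro g
    rw [coeff_toAlg]
    rcases hη4 g with h | ⟨s, h⟩
    · rw [h, map_zero]; exact lr_zero M
    · rw [h]
      exact lr_ct (x := x') hM hxc hψ s
  · intro χ
    unfold omega
    congr 1
    rw [lin_apply]
    simp only [coeff_toAlg]
    have hcl : IsClassFunction G (fun g => conj (η g) * (χ : G → ℂ) g) := by
      intro g h
      change conj (η (h * g * h⁻¹)) * (χ : G → ℂ) (h * g * h⁻¹) = conj (η g) * (χ : G → ℂ) g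
      rw [hη1, irr_classFun χ.2]
    have h1 := sum_section hcl hx
    have h2 : ∑ g : G with ∃ z, IsPPart p g z ∧ IsConj x z, conj (η g) * (χ : G → ℂ) g =
        ∑ g : G, conj (η g) * (χ : G → ℂ) g := by
      rw [Finset.sum_filter]
      apply Finset.sum_congr rfl
      intro g _
      split_ifs with h
      · rfl
      · rw [hη3 g h, map_zero, zero_mul]
    have hC0 : (Nat.card (Subgroup.centralizer ({x} : Set G)) : ℂ) ≠ 0 := card_ne_zeroC
    rw [h2] at h1
    apply mul_left_cancel₀ hC0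
    rw [h1, mul_left_comm]
    congr 1
    -- the contribution
    have h3 : cn p (Subgroup.centralizer ({x} : Set G)) x b (χ : G → ℂ) ψ =
        mm p (fun c : Subgroup.centralizer ({x} : Set G) => (χ : G → ℂ) (x * c))
          (ct (Subgroup.centralizer ({x} : Set G)) x b ψ) := by
      rw [cn_eq_mm, ct_eq_sum x b ψ, mm_sum_right, mm_sum_right]
      apply Finset.sum_congr rfl
      intro θ hθ
      have hθ' := (Finset.mem_filter.mp hθ).2
      congr 1
      unfold mm ct
      symm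
      apply inner_pr_blockPart hM hb _ hθ'
      intro g h
      have h2 : x * ((h * g * h⁻¹ : Subgroup.centralizer ({x} : Set G)) : G)
          = (h : G) * (x * g) * (h : G)⁻¹ := by
        have h3 : x * (h : G) = (h : G) * x := congrArg Subtype.val (hxc h)
        calc x * ((h * g * h⁻¹ : Subgroup.centralizer ({x} : Set G)) : G)
            = (x * (h : G)) * g * (h : G)⁻¹ := by push_cast; group
          _ = _ := by rw [h3]; group
      change (χ : G → ℂ) (x * ((h * g * h⁻¹ : Subgroup.centralizer ({x} : Set G)) : G)) =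
        (χ : G → ℂ) (x * g)
      rw [h2, irr_classFun χ.2]
    rw [h3]
    unfold mm classInner
    rw [← mul_assoc, mul_inv_cancel₀ hC0, one_mul, Finset.sum_filter]
    apply Finset.sum_congr rfl
    intro s _
    by_cases hs : p ∣ orderOf s
    · rw [if_neg (not_not.mpr hs), pr_sing hs, zero_mul]
    · rw [if_pos hs, pr_reg hs, hη2 s hs, mul_comm]

end Ext

section Div

variable {G : Type u} [Group G] [Fintype G] {p : ℕ} [hp : Fact p.Prime] {M : Ideal AlgInt}
  {x : G} {C : Subgroup G} [Fintype C]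

/-- Contributions are divisible by the height. -/
theorem lr_cn_height (hM : IsPModular p M) (hx : ∃ k : ℕ, orderOf x = p ^ k)
    (hC : C = Subgroup.centralizer ({x} : Set G)) {b : Set (IrrCharacter C)}
    (hb : IsPBlock M b) {B : Set (IrrCharacter G)} {χ ψ : IrrCharacter G} (hχ : χ ∈ B) :
    MemLocalRing M ((p : ℂ) ^ blockDefect p B * cn p C x b (χ : G → ℂ) (ψ : G → ℂ) /
      (p : ℂ) ^ blockHeight p B (χ : G → ℂ)) := by
  have hpr := hM.2.1.isPrime
  have hp0 : (p : ℂ) ≠ 0 := by exact_mod_cast hM.1.ne_zero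
  obtain ⟨Z, hZ, hZo⟩ := exists_zsec hM hx hC hb (irr_isChar ψ.2)
  have h1 := lr_omega hZ χ.2
  rw [hZo] at h1
  have h2 := lr_pPart_div_card hM (n := Nat.card G) Nat.card_pos.ne'
  obtain ⟨u, hu0, hu, hdeg⟩ := degree_eq hM hχ
  obtain ⟨-, hle⟩ := fact_degree hM hχ
  have h3 := lr_mul (lr_mul h2 h1) (lr_natCast M u)
  have h4 : (Nat.card G : ℂ) ≠ 0 := card_ne_zeroC
  have hu0' : (u : ℂ) ≠ 0 := by exact_mod_cast hu0
  have h6 : (p : ℂ) ^ (Nat.card G).factorization p =
      (p : ℂ) ^ ((Nat.card G).factorization p - blockDefect p B) *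
        (p : ℂ) ^ blockDefect p B := by
    rw [← pow_add]; congr 1; omega
  have h5 : (p : ℂ) ^ (Nat.card G).factorization p / (Nat.card G : ℂ)
      * ((Nat.card G : ℂ) * cn p C x b (χ : G → ℂ) (ψ : G → ℂ) / (χ : G → ℂ) 1) * (u : ℂ)
      = (p : ℂ) ^ blockDefect p B * cn p C x b (χ : G → ℂ) (ψ : G → ℂ) /
      (p : ℂ) ^ blockHeight p B (χ : G → ℂ) := by
    rw [(charDegree_spec χ.2).1, hdeg, h6]
    push_cast
    have h7 : (p : ℂ) ^ ((Nat.card G).factorization p - blockDefect p B) ≠ 0 :=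
      pow_ne_zero _ hp0
    have h8 : (p : ℂ) ^ blockHeight p B (χ : G → ℂ) ≠ 0 := pow_ne_zero _ hp0
    field_simp
  rwa [h5] at h3

/-- The contributions of a major subsection do not vanish. -/
theorem cn_self_ne_zero (hM : IsPModular p M) (hx : ∃ k : ℕ, orderOf x = p ^ k)
    (hC : C = Subgroup.centralizer ({x} : Set G)) {b : Set (IrrCharacter C)}
    {B : Set (IrrCharacter G)} (hB : IsPBlock M B) (hind : IsInducedBlock M C b B)
    (hd : blockDefect p b = blockDefect p B) {χ : IrrCharacter G} (hχ : χ ∈ B) :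
    cn p C x b (χ : G → ℂ) (χ : G → ℂ) ≠ 0 := by
  classical
  have hpr := hM.2.1.isPrime
  have hp0 : (p : ℂ) ≠ 0 := by exact_mod_cast hM.1.ne_zero
  obtain ⟨ψ, hψ, hψ0⟩ := exists_height_zero hM hB
  have hxC : x ∈ C := by rw [hC]; exact Subgroup.mem_centralizer_singleton_iff.mpr rfl
  set x' : C := ⟨x, hxC⟩ with hx'
  have hxc : ∀ c, x' * c = c * x' := fun c => by
    have h : (c : G) ∈ Subgroup.centralizer ({x} : Set G) := hC ▸ c.2
    exact Subtype.ext (Subgroup.mem_centralizer_singleton_iff.mp h).symm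
  have hxp : ∃ k : ℕ, orderOf x' = p ^ k := by
    obtain ⟨k, hk⟩ := hx
    exact ⟨k, by rw [← hk, ← Subgroup.orderOf_coe]⟩
  obtain ⟨t, ht, ht', htt, -⟩ := not_li_cn hM hind hxc hxp hψ hψ0 hψ hψ0
  obtain ⟨Z, hZ, hZo⟩ := exists_zsec hM hx hC hind.1 (irr_isChar ψ.2)
  intro h0
  -- the component of χ vanishes
  have h1 : cn p C x b (χ : G → ℂ) (ψ : G → ℂ) = 0 := by
    have h2 : ∀ s : C, ¬ p ∣ orderOf s → ct C x b (χ : G → ℂ) s = 0 := by
      rw [cn_eq] at h0
      have h3 : (Nat.card C : ℂ)⁻¹ ≠ 0 := inv_ne_zero card_ne_zeroC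
      have h4 := (mul_eq_zero.mp h0).resolve_left h3
      have h5 : ((∑ s : C with ¬ p ∣ orderOf s, ‖ct C x b (χ : G → ℂ) s‖ ^ 2 : ℝ) : ℂ) = 0 := by
        rw [← h4]
        push_cast
        apply Finset.sum_congr rfl
        intro s _
        rw [Complex.mul_conj, Complex.normSq_eq_norm_sq]
        push_cast; rfl
      have h6 : ∑ s : C with ¬ p ∣ orderOf s, ‖ct C x b (χ : G → ℂ) s‖ ^ 2 = 0 := by
        exact_mod_cast h5
      rw [Finset.sum_eq_zero_iff_of_nonneg (fun _ _ => by positivity)] at h6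
      intro s hs
      have := h6 s (Finset.mem_filter.mpr ⟨Finset.mem_univ _, hs⟩)
      exact norm_eq_zero.mp (pow_eq_zero_iff two_ne_zero |>.mp this)
    rw [cn_eq, Finset.sum_eq_zero, mul_zero]
    intro s hs
    rw [h2 s (Finset.mem_filter.mp hs).2, zero_mul]
  have h2 := li_omega_sub hZ (irr_classFun ψ.2) (irr_classFun χ.2)
    (isPBlock_sameBlock hB hψ hχ)
  rw [hZo, hZo, h1, mul_zero, zero_div, sub_zero] at h2
  -- the unit
  have h3 := lr_pPart_div_card hM (n := Nat.card G) Nat.card_pos.ne'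
  obtain ⟨u, hu0, hu, hdeg⟩ := degree_eq hM hψ
  obtain ⟨-, hle⟩ := fact_degree hM hψ
  have h4 := li_mul_right (li_mul_left h3 h2) (lr_natCast M u)
  have h5 : (Nat.card G : ℂ) ≠ 0 := card_ne_zeroC
  have hu0' : (u : ℂ) ≠ 0 := by exact_mod_cast hu0
  have h6 : (p : ℂ) ^ (Nat.card G).factorization p =
      (p : ℂ) ^ ((Nat.card G).factorization p - blockDefect p B) *
        (p : ℂ) ^ blockDefect p B := by
    rw [← pow_add]; congr 1; omega
  have h7 : (p : ℂ) ^ (Nat.card G).factorization p / (Nat.card G : ℂ)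
      * ((Nat.card G : ℂ) * cn p C x b (ψ : G → ℂ) (ψ : G → ℂ) / (ψ : G → ℂ) 1) * (u : ℂ)
      = (p : ℂ) ^ blockDefect p B * cn p C x b (ψ : G → ℂ) (ψ : G → ℂ) := by
    rw [(charDegree_spec ψ.2).1, hdeg, h6, hψ0]
    push_cast
    have h7 : (p : ℂ) ^ ((Nat.card G).factorization p - blockDefect p B) ≠ 0 :=
      pow_ne_zero _ hp0
    field_simp
  rw [h7, ← hd] at h4
  change MemLocalIdeal M ((p : ℂ) ^ blockDefect p b *
    cn p C x b (ψ : G → ℂ) (ψ : G → ℂ) - t) at htt
  rw [li_congr htt] at h4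
  exact ht' h4

end Div

end Cfsg.Agent.H26
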