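import Mathlib
import Cfsg.Agent.H26.Cnt2
import Cfsg.Agent.H26.OpCon
import Cfsg.Agent.H26.Ext1

set_option autoImplicit false

/-!
# Counting the major subsections of a block
-/

namespace Cfsg.Agent.H26

open MonoidAlgebra Cfsg Cfsg.Agent.H11 Finset

universe u

section Cnt

variable {M : Ideal AlgInt} [hM : M.IsPrime] {G : Type u} [Group G] [Fintype G] {p : ℕ}
  [Fact p.Prime] [CharP (KF M) p] {P : Subgroup G} {e : MonoidAlgebra (KF M) G}

/-- Blocks of `C(P)` under a block with defect group `P` are conjugate. -/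
theorem loc_conj {H : Subgroup G} {e e' f : MonoidAlgebra (KF M) G}
    (hf : IsBlk H f) (hCH : cz P ≤ H) (hD : IsDef p H f P) (he : IsBlk (cz P) e)
    (he' : IsBlk (cz P) e') (h : br P f * e = e) (h' : br P f * e' = e') :
    ∃ n ∈ nz P ⊓ H, cj n e = e' := by
  have hF : IsBlk (nz P ⊓ H) (br P f) := isBlk_br_inf hf hD
  have hK : nz P ⊓ H ≤ nz (cz P) := inf_le_left.trans (normalizer_le_normalizer_centralizer P)
  have hC : cz P ≤ nz P ⊓ H := le_inf (centralizer_le_normalizer' P) hCH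
  have h1 : br P f = osum (nz P ⊓ H) e := eq_osum hF he hK hC h
  have h2 : br P f = osum (nz P ⊓ H) e' := eq_osum hF he' hK hC h'
  have h3 : osum (nz P ⊓ H) e * e' = e' := by rw [← h1, h2]; exact osum_mul_self he' hK
  by_contra hcon
  push Not at hcon
  apply he'.ne_zero
  rw [← h3]
  unfold osum
  rw [Finset.sum_mul]
  apply Finset.sum_eq_zero
  intro d hd
  obtain ⟨n, hn, rfl⟩ := mem_orb.mp hd
  exact (isBlk_of_mem_orb he hK hd).mul_of_ne he' (hcon n hn)

/-- If `Q ≤ Z(P)`, then `P` is a defect group of the block `f` of `C(Q)`. -/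
theorem MaxB.isDef_of_central {E : MonoidAlgebra (KF M) G} (hm : MaxB p E P e) {Q : Subgroup G}
    {f : MonoidAlgebra (KF M) G} (hf : PLE p Q f P e) (hQ : P ≤ cz Q) :
    IsDef p (cz Q) f P := by
  have he := hm.1.2.1
  have hfQ : IsBrP p Q f := hf.isBrP_left he
  obtain ⟨D, hD, hle⟩ := hf.centralizer_isDef_ge he hfQ.2
  rw [inf_eq_left.mpr hQ] at hle
  have hDN : D ≤ nz Q := hD.1.trans (centralizer_le_normalizer' Q)
  obtain ⟨e', he'⟩ := exists_nsub_of_br_ne_zero hfQ hD.2.1 (hf.le.trans hle) hDN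
    (hfQ.2.isFx.mono hD.1) hD.2.2.1
  have h1 : InB p E D e' := (hm.1.of_ple' hf).of_ple he'.ple
  obtain ⟨x, hx⟩ := hm.exists_conj h1
  have h2 := Subgroup.card_le_of_le hx.le
  rw [card_cg] at h2
  have h3 : P = D := Subgroup.eq_of_le_of_card_ge hle h2
  rw [h3]; exact hD

/-- Conjugation of major subsections is controlled by the stabilizer. -/
theorem MaxB.exists_factor {E : MonoidAlgebra (KF M) G} (hm : MaxB p E P e)
    {u u0 : G} (hu : u ∈ P ⊓ cz P) (hu0 : u0 ∈ P ⊓ cz P) {f f0 : MonoidAlgebra (KF M) G}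
    (hf : PLE p (Subgroup.zpowers u) f P e) (hf0 : PLE p (Subgroup.zpowers u0) f0 P e)
    {y : G} (hy : y * u * y⁻¹ = u0) (hyf : cj y f = f0) :
    ∃ c ∈ cz (Subgroup.zpowers u0), ∃ t ∈ stab (nz P) e, y = c * t ∧ u = t⁻¹ * u0 * t := by
  have he := hm.1.2.1
  have hcen : ∀ v ∈ P ⊓ cz P, P ≤ cz (Subgroup.zpowers v) := by
    intro v hv x hx
    rw [mem_cz_zpowers]
    exact Subgroup.mem_centralizer_iff.mp hv.2 x hx
  have hczP : ∀ v ∈ P ⊓ cz P, cz P ≤ cz (Subgroup.zpowers v) := by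
    intro v hv x hx
    rw [mem_cz_zpowers]
    exact (Subgroup.mem_centralizer_iff.mp hx v hv.1).symm
  set C := cz (Subgroup.zpowers u0) with hC
  have hD := hm.isDef_of_central hf0 (hcen u0 hu0)
  have hfQ : IsBrP p (Subgroup.zpowers u0) f0 := hf0.isBrP_left he
  -- conjugate by `y`
  have h1 := hf.cj y
  change PLE p (cg (Subgroup.zpowers u) y) (cj y f) (cg P y) (cj y e) at h1
  rw [cg_zpowers, hy, hyf] at h1
  have he1 : IsBrP p (cg P y) (cj y e) := by
    refine ⟨he.1.map _, ?_⟩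
    have := he.2.cj y
    change IsBlk (cg (cz P) y) (cj y e) at this
    rwa [cg_cz] at this
  have hP1 : cg P y ≤ C := by
    intro x hx
    rw [mem_cg] at hx
    rw [hC, mem_cz_zpowers, ← hy]
    have h2 := mem_cz_zpowers.mp (hcen u hu hx)
    calc x * (y * u * y⁻¹) = y * ((y⁻¹ * x * y) * u) * y⁻¹ := by group
      _ = y * (u * (y⁻¹ * x * y)) * y⁻¹ := by rw [h2]
      _ = _ := by group
  have h2 := (h1.br_ne_zero he1 h1.le le_rfl
    (hP1.trans (centralizer_le_normalizer' _))).2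
  obtain ⟨c, hc, hcle⟩ := hD.2.2.2 _ hP1 (he.1.map _) h2
  have hceq : cg (cg P y) c = P := by
    apply Subgroup.eq_of_le_of_card_ge hcle
    rw [card_cg, card_cg]
  have hcC : cg (Subgroup.zpowers u0) c = Subgroup.zpowers u0 := by
    rw [cg_zpowers]
    congr 1
    rw [mem_cz_zpowers.mp hc]; group
  have h3 := h1.cj c
  change PLE p (cg (Subgroup.zpowers u0) c) (cj c f0) (cg (cg P y) c) (cj c (cj y e)) at h3
  rw [hcC, hceq, hfQ.2.isFx c hc] at h3
  have he2 : IsBrP p P (cj c (cj y e)) := h3.isBrP_right hfQ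
  have hPN : P ≤ nz (Subgroup.zpowers u0) :=
    (hcen u0 hu0).trans (centralizer_le_normalizer' _)
  have h4 := h3.nsub he2 hPN
  have h5 := hf0.nsub he hPN
  obtain ⟨n, hn, hne⟩ := loc_conj hfQ.2 (hczP u0 hu0) hD he2.2 he.2 h4.2.2.2.2.2 h5.2.2.2.2.2
  have hnC : n ∈ C := hn.2
  have hncu : (n * c) * u0 * (n * c)⁻¹ = u0 := by
    have := mem_cz_zpowers.mp (C.mul_mem hnC hc)
    rw [this]; group
  refine ⟨(n * c)⁻¹, C.inv_mem (C.mul_mem hnC hc), n * c * y, ?_, by group, ?_⟩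
  · rw [mem_stab]
    constructor
    · have h6 : c * y ∈ nz P := by
        apply mem_nz_of_cg_eq
        rw [← cg_cg, hceq]
      rw [mul_assoc]
      exact (nz P).mul_mem hn.1 h6
    · rw [cj_mul_apply, cj_mul_apply, hne]
  · have h7 : (n * c * y)⁻¹ * u0 * (n * c * y) =
        y⁻¹ * ((n * c)⁻¹ * u0 * (n * c)) * y := by group
    have h8 : (n * c)⁻¹ * u0 * (n * c) = u0 := by
      calc (n * c)⁻¹ * u0 * (n * c) = (n * c)⁻¹ * ((n * c) * u0 * (n * c)⁻¹) * (n * c) := by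
            rw [hncu]
        _ = u0 := by group
    rw [h7, h8, ← hy]; group

open Classical in
/-- The number of major subsections. -/
theorem cen_count {E : MonoidAlgebra (KF M) G} (hm : MaxB p E P e)
    (Ω : Finset (G × MonoidAlgebra (KF M) G))
    (hΩ : ∀ x f, (x, f) ∈ Ω ↔ (∃ j : ℕ, orderOf x = p ^ j) ∧ InB p E (Subgroup.zpowers x) f)
    (f : G → MonoidAlgebra (KF M) G) (hf : ∀ u ∈ P, PLE p (Subgroup.zpowers u) (f u) P e)
    (F : G → MonoidAlgebra (KF M) G → ℝ)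
    (hF : ∀ (g : G), ∀ ω ∈ Ω, F (g * ω.1 * g⁻¹) (cj g ω.2) = F ω.1 ω.2)
    (hF0 : ∀ ω ∈ Ω, 0 ≤ F ω.1 ω.2) :
    (Nat.card (P ⊔ cz P : Subgroup G) : ℝ) * ((Nat.card G : ℝ) *
      ∑ u : G with u ∈ P ⊓ cz P, F u (f u)) ≤
      (Nat.card (stab (nz P) e) : ℝ) *
        ∑ ω ∈ Ω, (Nat.card (cz (Subgroup.zpowers ω.1)) : ℝ) * F ω.1 ω.2 := by
  have he := hm.1.2.1
  have hPp : IsPGroup p P := he.1
  set W : Finset (G × G) := univ ×ˢ (univ.filter (· ∈ P ⊓ cz P)) with hW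
  let φ : G × G → G × MonoidAlgebra (KF M) G := fun w => (w.1 * w.2 * w.1⁻¹, cj w.1 (f w.2))
  have hpel : ∀ u ∈ P, ∃ j : ℕ, orderOf u = p ^ j := by
    intro u hu
    obtain ⟨j, hj⟩ := (IsPGroup.iff_orderOf.mp hPp) ⟨u, hu⟩
    exact ⟨j, by rw [← hj, ← Subgroup.orderOf_coe]⟩
  have hinB : ∀ u ∈ P, InB p E (Subgroup.zpowers u) (f u) := fun u hu =>
    hm.1.of_ple' (hf u hu)
  have hbase : ∀ u ∈ P, (u, f u) ∈ Ω := fun u hu => (hΩ _ _).mpr ⟨hpel u hu, hinB u hu⟩
  have hmaps : ∀ w ∈ W, φ w ∈ Ω := by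
    rintro ⟨g, u⟩ hw
    have hu : u ∈ P ⊓ cz P := (Finset.mem_filter.mp (Finset.mem_product.mp hw).2).2
    rw [hΩ]
    refine ⟨isPEl_conj (hpel u hu.1) g, ?_⟩
    have := (hinB u hu.1).cj g
    change InB p E (cg (Subgroup.zpowers u) g) (cj g (f u)) at this
    rwa [cg_zpowers] at this
  -- rewriting the left hand side
  have hR : (Nat.card G : ℝ) * ∑ u : G with u ∈ P ⊓ cz P, F u (f u) =
      ∑ w ∈ W, F (φ w).1 (φ w).2 := by
    rw [hW, Finset.sum_product]
    have : ∀ g : G, ∑ u : G with u ∈ P ⊓ cz P, F (φ (g, u)).1 (φ (g, u)).2 =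
        ∑ u : G with u ∈ P ⊓ cz P, F u (f u) := by
      intro g
      apply Finset.sum_congr rfl
      intro u hu
      exact hF g (u, f u) (hbase u (Finset.mem_filter.mp hu).2.1)
    rw [Finset.sum_congr rfl fun g _ => this g, Finset.sum_const, nsmul_eq_mul,
      Finset.card_univ, Nat.card_eq_fintype_card]
  rw [hR, ← Finset.sum_fiberwise_of_maps_to hmaps, Finset.mul_sum, Finset.mul_sum]
  apply Finset.sum_le_sum
  rintro ⟨x, f'⟩ hω
  have hsum : ∑ w ∈ W with φ w = (x, f'), F (φ w).1 (φ w).2 =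
      ((W.filter (fun w => φ w = (x, f'))).card : ℝ) * F x f' := by
    rw [Finset.sum_congr rfl (g := fun _ => F x f') (fun w hw => by
      rw [(Finset.mem_filter.mp hw).2]), Finset.sum_const, nsmul_eq_mul]
  rw [hsum, ← mul_assoc, ← mul_assoc]
  apply mul_le_mul_of_nonneg_right _ (hF0 _ hω)
  set Wω := W.filter (fun w => φ w = (x, f')) with hWω
  rcases Finset.eq_empty_or_nonempty Wω with hemp | ⟨⟨g0, u0⟩, hw0⟩
  · rw [hemp, Finset.card_empty, Nat.cast_zero, mul_zero]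
    positivity
  have hmem : ∀ g u, (g, u) ∈ Wω → u ∈ P ⊓ cz P ∧ g * u * g⁻¹ = x ∧ cj g (f u) = f' := by
    intro g u hw
    obtain ⟨h1, h2⟩ := Finset.mem_filter.mp hw
    change (g * u * g⁻¹, cj g (f u)) = (x, f') at h2
    rw [Prod.mk.injEq] at h2
    exact ⟨(Finset.mem_filter.mp (Finset.mem_product.mp h1).2).2, h2.1, h2.2⟩
  obtain ⟨hu0, hg0x, hg0f⟩ := hmem g0 u0 hw0
  have hA : ∀ w : G × G, ∃ ct : G × G, w ∈ Wω → ct.1 ∈ cz (Subgroup.zpowers u0) ∧
      ct.2 ∈ stab (nz P) e ∧ w.1 = g0 * ct.1 * ct.2 ∧ w.2 = ct.2⁻¹ * u0 * ct.2 := by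
    rintro ⟨g, u⟩
    by_cases hw : (g, u) ∈ Wω
    · obtain ⟨hu, hgx, hgf⟩ := hmem g u hw
      obtain ⟨c, hc, t, ht, hyt, hut⟩ := hm.exists_factor hu hu0 (hf u hu.1) (hf u0 hu0.1)
        (y := g0⁻¹ * g) (by
          calc g0⁻¹ * g * u * (g0⁻¹ * g)⁻¹ = g0⁻¹ * (g * u * g⁻¹) * g0 := by group
            _ = g0⁻¹ * (g0 * u0 * g0⁻¹) * g0 := by rw [hgx, hg0x]
            _ = u0 := by group) (by
          rw [cj_mul_apply, hgf, ← hg0f, cj_inv_cj])
      refine ⟨(c, t), fun _ => ⟨hc, ht, ?_, hut⟩⟩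
      change g = g0 * c * t
      rw [mul_assoc, ← hyt]; group
    · exact ⟨(1, 1), fun h => absurd h hw⟩
  choose ct hct using hA
  have hH1 : P ⊔ cz P ≤ stab (nz P) e := sup_le (self_le_stab he.2) (cz_le_stab he.2)
  have hH2 : P ⊔ cz P ≤ cz (Subgroup.zpowers u0) := by
    apply sup_le
    · intro x hx
      rw [mem_cz_zpowers]
      exact Subgroup.mem_centralizer_iff.mp hu0.2 x hx
    · intro x hx
      rw [mem_cz_zpowers]
      exact (Subgroup.mem_centralizer_iff.mp hx u0 hu0.1).symm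
  have hcard : ∀ K : Subgroup G, (univ.filter (· ∈ K)).card = Nat.card K := by
    intro K
    rw [← Fintype.card_subtype, ← Nat.card_eq_fintype_card]
  have hinj : (Wω ×ˢ univ.filter (· ∈ (P ⊔ cz P : Subgroup G))).card ≤
      ((univ.filter (· ∈ stab (nz P) e)) ×ˢ
        (univ.filter (· ∈ cz (Subgroup.zpowers u0)))).card := by
    apply Finset.card_le_card_of_injOn
      (fun w => (w.2 * (ct w.1).2, (ct w.1).1 * w.2⁻¹))
    · rintro ⟨w, h⟩ hwh
      obtain ⟨hw, hh⟩ := Finset.mem_product.mp (Finset.mem_coe.mp hwh)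
      have hh' := (Finset.mem_filter.mp hh).2
      obtain ⟨h1, h2, -, -⟩ := hct w hw
      apply Finset.mem_coe.mpr
      refine Finset.mem_product.mpr ⟨Finset.mem_filter.mpr ⟨Finset.mem_univ _, ?_⟩,
        Finset.mem_filter.mpr ⟨Finset.mem_univ _, ?_⟩⟩
      · exact (stab (nz P) e).mul_mem (hH1 hh') h2
      · exact Subgroup.mul_mem _ h1 (Subgroup.inv_mem _ (hH2 hh'))
    · rintro ⟨w, h⟩ hwh ⟨w', h'⟩ hwh' heq
      obtain ⟨hw, hh⟩ := Finset.mem_product.mp (Finset.mem_coe.mp hwh)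
      obtain ⟨hw', hh'⟩ := Finset.mem_product.mp (Finset.mem_coe.mp hwh')
      have hhm := hH2 (Finset.mem_filter.mp hh).2
      have hhm' := hH2 (Finset.mem_filter.mp hh').2
      obtain ⟨h1, h2, h3, h4⟩ := hct w hw
      obtain ⟨h1', h2', h3', h4'⟩ := hct w' hw'
      simp only [Prod.mk.injEq] at heq
      obtain ⟨q1, q2⟩ := heq
      have e1 : w.1 = w'.1 := by
        have a1 : w.1 = g0 * (((ct w).1 * h⁻¹) * (h * (ct w).2)) := by rw [h3]; group
        have a2 : w'.1 = g0 * (((ct w').1 * h'⁻¹) * (h' * (ct w').2)) := by rw [h3']; group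
        rw [a1, a2, q1, q2]
      have hfix : ∀ z, z ∈ cz (Subgroup.zpowers u0) → z⁻¹ * u0 * z = u0 := by
        intro z hz
        have := mem_cz_zpowers.mp hz
        rw [mul_assoc, ← this]; group
      have e2 : w.2 = w'.2 := by
        have a1 : w.2 = (h * (ct w).2)⁻¹ * u0 * (h * (ct w).2) := by
          calc w.2 = (ct w).2⁻¹ * u0 * (ct w).2 := h4
            _ = (ct w).2⁻¹ * (h⁻¹ * u0 * h) * (ct w).2 := by rw [hfix h hhm]
            _ = _ := by group
        have a2 : w'.2 = (h' * (ct w').2)⁻¹ * u0 * (h' * (ct w').2) := by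
          calc w'.2 = (ct w').2⁻¹ * u0 * (ct w').2 := h4'
            _ = (ct w').2⁻¹ * (h'⁻¹ * u0 * h') * (ct w').2 := by rw [hfix h' hhm']
            _ = _ := by group
        rw [a1, a2, q1]
      have e3 : w = w' := Prod.ext e1 e2
      subst e3
      rw [Prod.mk.injEq]
      exact ⟨rfl, mul_right_cancel q1⟩
  rw [Finset.card_product, Finset.card_product, hcard, hcard, hcard] at hinj
  have hcz : Nat.card (cz (Subgroup.zpowers x)) = Nat.card (cz (Subgroup.zpowers u0)) := by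
    rw [← hg0x, ← cg_zpowers, ← cg_cz, card_cg]
  rw [hcz, mul_comm (Nat.card (P ⊔ cz P : Subgroup G) : ℝ)]
  exact_mod_cast hinj

end Cnt

end Cfsg.Agent.H26
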