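import Mathlib
import Cfsg.Agent.H26.MajSub
import Cfsg.Agent.H26.MajSub2
import Cfsg.Agent.H26.Nil2
import Cfsg.Agent.H26.Defic

set_option autoImplicit false

/-!
# A bound for the heights in a block
-/

namespace Cfsg.Agent.H26

open Cfsg Cfsg.Agent.H3 Cfsg.Agent.H11 Cfsg.Agent.H27 Finset
open scoped ComplexConjugate

universe u

section Avg

variable {G : Type u} [Group G] [Fintype G] {p : ℕ} [hp : Fact p.Prime] {M : Ideal AlgInt}

omit [Fintype G] in
theorem pow_cent_eq [Finite G] {x : G} {m : ℕ} (hm : m.Coprime (orderOf x)) :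
    Subgroup.centralizer ({x ^ m} : Set G) = Subgroup.centralizer ({x} : Set G) := by
  obtain ⟨k, hk⟩ := exists_pow_eq_self_of_coprime hm
  ext g
  rw [Subgroup.mem_centralizer_singleton_iff, Subgroup.mem_centralizer_singleton_iff]
  constructor
  · intro h
    have h1 : Commute g (x ^ m) := h
    have h2 := h1.pow_right k
    rwa [hk] at h2
  · intro h
    have h1 : Commute g x := h
    exact h1.pow_right m

theorem avg_cn (hM : IsPModular p M) {B : Set (IrrCharacter G)} (hB : IsPBlock M B) {x : G}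
    (hx : ∃ k : ℕ, orderOf x = p ^ k) {C : Subgroup G} [Fintype C]
    (hC : C = Subgroup.centralizer ({x} : Set G)) {b : Set (IrrCharacter C)}
    (hind : IsInducedBlock M C b B) (hd : blockDefect p b = blockDefect p B)
    {χ : IrrCharacter G} (hχ : χ ∈ B) {N : ℕ} (hN : N ≠ 0) (hxN : x ^ N = 1) :
    ((cop N).card : ℝ) * (p : ℝ) ^ blockHeight p B (χ : G → ℂ) ≤
      ∑ m ∈ cop N, (p : ℝ) ^ blockDefect p B *
        (cn p C (x ^ m) b (χ : G → ℂ) (χ : G → ℂ)).re := by
  classical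
  have hpr := hM.2.1.isPrime
  have hp0 : (p : ℝ) ≠ 0 := by exact_mod_cast hM.1.ne_zero
  have hp0' : (p : ℂ) ≠ 0 := by exact_mod_cast hM.1.ne_zero
  have hppos : (0 : ℝ) < p := by exact_mod_cast hM.1.pos
  set h := blockHeight p B (χ : G → ℂ) with hh
  set d := blockDefect p B with hdd
  have hcopx : ∀ m ∈ cop N, m.Coprime (orderOf x) := fun m hm =>
    Nat.Coprime.coprime_dvd_right (orderOf_dvd_of_pow_eq_one hxN) (mem_cop.mp hm).2
  have hCm : ∀ m ∈ cop N, C = Subgroup.centralizer ({x ^ m} : Set G) := by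
    intro m hm
    rw [pow_cent_eq (hcopx m hm), hC]
  have hxm : ∀ m, ∃ k : ℕ, orderOf (x ^ m) = p ^ k := by
    intro m
    obtain ⟨k, hk⟩ := hx
    obtain ⟨j, -, hj⟩ := (Nat.dvd_prime_pow hM.1).mp (hk ▸ orderOf_pow_dvd (x := x) m)
    exact ⟨j, hj⟩
  have hxC : x ∈ C := by rw [hC]; exact Subgroup.mem_centralizer_singleton_iff.mpr rfl
  set x' : C := ⟨x, hxC⟩ with hx'
  have hxc : ∀ c, x' * c = c * x' := fun c => by
    have h : (c : G) ∈ Subgroup.centralizer ({x} : Set G) := hC ▸ c.2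
    exact Subtype.ext (Subgroup.mem_centralizer_singleton_iff.mp h).symm
  have hgal := gal_cn hM hind.1 hN (irr_isChar χ.2) (irr_isChar χ.2) hxc
    (Subtype.ext (by rw [Subgroup.coe_pow]; exact hxN) : x' ^ N = 1)
  change IsGalSeq N (fun m => (p : ℂ) ^ blockDefect p b *
    cn p C (x ^ m) b (χ : G → ℂ) (χ : G → ℂ)) at hgal
  rw [hd] at hgal
  choose r hr0 hr using fun m => cn_self_real (p := p) (x ^ m) b (χ : G → ℂ)
  have hre : ∀ m, (cn p C (x ^ m) b (χ : G → ℂ) (χ : G → ℂ)).re = r m := by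
    intro m; rw [hr m, Complex.ofReal_re]
  have hrpos : ∀ m ∈ cop N, 0 < r m := by
    intro m hm
    apply lt_of_le_of_ne (hr0 m)
    intro h
    apply cn_self_ne_zero hM (hxm m) (hCm m hm) hB hind hd hχ
    rw [hr m, ← h, Complex.ofReal_zero]
  obtain ⟨k, hk⟩ := prod_cop_int hN hgal
  set φ := (cop N).card with hφ
  -- divisibility of the product
  have h1 : MemLocalRing M ((k : ℂ) / (p : ℂ) ^ (h * φ)) := by
    have h2 : (k : ℂ) / (p : ℂ) ^ (h * φ) = ∏ m ∈ cop N, ((p : ℂ) ^ d *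
        cn p C (x ^ m) b (χ : G → ℂ) (χ : G → ℂ) / (p : ℂ) ^ h) := by
      rw [Finset.prod_div_distrib, hk, Finset.prod_const, ← pow_mul]
    rw [h2]
    have h3 : ∀ s : Finset ℕ, s ⊆ cop N → MemLocalRing M (∏ m ∈ s, ((p : ℂ) ^ d *
        cn p C (x ^ m) b (χ : G → ℂ) (χ : G → ℂ) / (p : ℂ) ^ h)) := by
      intro s
      induction s using Finset.induction_on with
      | empty => intro _; rw [Finset.prod_empty]; exact lr_one M
      | insert a s ha ih =>
        intro hs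
        rw [Finset.prod_insert ha]
        refine lr_mul ?_ (ih fun y hy => hs (Finset.mem_insert_of_mem hy))
        exact lr_cn_height hM (hxm a) (hCm a (hs (Finset.mem_insert_self a s))) hind.1 hχ
    exact h3 _ (Finset.Subset.refl _)
  obtain ⟨l, hl⟩ := dvd_of_lr_div hM _ k h1
  -- the product of the real parts
  have h4 : ((∏ m ∈ cop N, ((p : ℝ) ^ d * r m / (p : ℝ) ^ h) : ℝ)) = (l : ℝ) := by
    have h5 : ((∏ m ∈ cop N, ((p : ℝ) ^ d * r m / (p : ℝ) ^ h) : ℝ) : ℂ) = ((l : ℝ) : ℂ) := by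
      rw [Complex.ofReal_prod]
      have h6 : ∀ m ∈ cop N, (((p : ℝ) ^ d * r m / (p : ℝ) ^ h : ℝ) : ℂ) = (p : ℂ) ^ d *
        cn p C (x ^ m) b (χ : G → ℂ) (χ : G → ℂ) / (p : ℂ) ^ h := by
        intro m _
        rw [hr m]
        push_cast; rfl
      rw [Finset.prod_congr rfl h6, Finset.prod_div_distrib, hk, Finset.prod_const, ← pow_mul, hl]
      push_cast
      rw [mul_div_cancel_left₀ _ (pow_ne_zero _ hp0')]
    exact_mod_cast h5
  have hFpos : ∀ m ∈ cop N, 0 < (p : ℝ) ^ d * r m / (p : ℝ) ^ h := by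
    intro m hm
    have := hrpos m hm
    positivity
  have h5 : 0 < ∏ m ∈ cop N, ((p : ℝ) ^ d * r m / (p : ℝ) ^ h) := Finset.prod_pos hFpos
  have h6 := card_le_sum_of_prod (cop N) (fun m => (p : ℝ) ^ d * r m / (p : ℝ) ^ h) hFpos (by
    change 1 ≤ ∏ m ∈ cop N, ((p : ℝ) ^ d * r m / (p : ℝ) ^ h)
    rw [h4] at h5 ⊢
    exact_mod_cast Int.add_one_le_iff.mpr (by exact_mod_cast h5 : (0 : ℤ) < l))
  rw [← Finset.sum_div, le_div_iff₀ (by positivity)] at h6
  simp only [hre]
  exact h6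

end Avg

section Main

variable {G : Type u} [Group G] [Fintype G] {p : ℕ} [hp : Fact p.Prime] {M : Ideal AlgInt}

theorem card_inf_cz (D : Subgroup G) :
    Nat.card (Subgroup.center D) = Nat.card (D ⊓ cz D : Subgroup G) := by
  apply Nat.card_congr
  refine ⟨fun z => ⟨(z : D), ⟨(z : D).2, ?_⟩⟩, fun z => ⟨⟨z, z.2.1⟩, ?_⟩, fun z => rfl,
    fun z => rfl⟩
  · change ((z : D) : G) ∈ Subgroup.centralizer (D : Set G)
    rw [Subgroup.mem_centralizer_iff]
    intro y hy
    have := Subgroup.mem_center_iff.mp z.2 ⟨y, hy⟩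
    exact congrArg Subtype.val this
  · rw [Subgroup.mem_center_iff]
    intro y
    exact Subtype.ext (Subgroup.mem_centralizer_iff.mp z.2.2 y y.2)

theorem height_le_center (hM : IsPModular p M) [M.IsPrime] [CharP (KF M) p]
    {B : Set (IrrCharacter G)} (hB : IsPBlock M B) {P : Subgroup G}
    {e : MonoidAlgebra (KF M) G} (hm : MaxB p (EG M B) P e) {χ : IrrCharacter G} (hχ : χ ∈ B) :
    Nat.card (P ⊔ cz P : Subgroup G) * (Nat.card (P ⊓ cz P : Subgroup G) *
      p ^ blockHeight p B (χ : G → ℂ)) ≤ Nat.card (stab (nz P) e) * p ^ blockDefect p B := by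
  classical
  have he : IsBrP p P e := hm.1.2.1
  have hppos : (0 : ℝ) < p := by exact_mod_cast hM.1.pos
  have hex : ∀ v : G, ∃ g, v ∈ P → PLE p (Subgroup.zpowers v) g P e := by
    intro v
    by_cases hv : v ∈ P
    · obtain ⟨g, hg⟩ := exists_ple he (Subgroup.zpowers v) (by rwa [Subgroup.zpowers_le])
      exact ⟨g, fun _ => hg⟩
    · exact ⟨e, fun h => absurd h hv⟩
  choose f hf using hex
  obtain ⟨Ω, hΩ1, hΩ2⟩ := exists_Om (p := p) hB
  have hGpos : (0 : ℝ) < (Nat.card G : ℝ) := by exact_mod_cast Nat.card_pos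
  let F : G → MonoidAlgebra (KF M) G → ℝ := fun x g =>
    (cnk p (cz (Subgroup.zpowers x)) x g (χ : G → ℂ) (χ : G → ℂ)).re
  have hreal : ∀ ω ∈ Ω, 0 ≤ F ω.1 ω.2 ∧ cnk p (cz (Subgroup.zpowers ω.1)) ω.1 ω.2 (χ : G → ℂ)
      (χ : G → ℂ) = (F ω.1 ω.2 : ℂ) := by
    rintro ⟨x, g⟩ hω
    obtain ⟨b, hb, hbe⟩ := exists_EH ((hΩ1 x g).mp hω).2.2.1.2
    have := Fintype.ofFinite (cz (Subgroup.zpowers x))
    obtain ⟨r, hr0, hr⟩ := cn_self_real (p := p) x b (χ : G → ℂ)
    have h1 : cnk p (cz (Subgroup.zpowers x)) x g (χ : G → ℂ) (χ : G → ℂ) = (r : ℂ) := by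
      rw [← hbe, cnk_EH x hb, hr]
    change 0 ≤ (cnk p (cz (Subgroup.zpowers x)) x g (χ : G → ℂ) (χ : G → ℂ)).re ∧
      cnk p (cz (Subgroup.zpowers x)) x g (χ : G → ℂ) (χ : G → ℂ) =
        ((cnk p (cz (Subgroup.zpowers x)) x g (χ : G → ℂ) (χ : G → ℂ)).re : ℂ)
    rw [h1, Complex.ofReal_re]
    exact ⟨hr0, rfl⟩
  have hcount := cen_count hm Ω hΩ1 f (fun u hu => hf u hu) F (by
    intro g ω hω
    have h2 : IsBlk (cz (Subgroup.zpowers ω.1)) ω.2 := ((hΩ1 ω.1 ω.2).mp hω).2.2.1.2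
    change (cnk p (cz (Subgroup.zpowers (g * ω.1 * g⁻¹))) (g * ω.1 * g⁻¹) (cj g ω.2)
      (χ : G → ℂ) (χ : G → ℂ)).re = (cnk p (cz (Subgroup.zpowers ω.1)) ω.1 ω.2
      (χ : G → ℂ) (χ : G → ℂ)).re
    rw [← cg_zpowers, ← cg_cz, cnk_cj h2 g ω.1 (irr_classFun χ.2) (irr_classFun χ.2)])
    (fun ω hω => (hreal ω hω).1)
  have htot : ∑ ω ∈ Ω, (Nat.card (cz (Subgroup.zpowers ω.1)) : ℝ) * F ω.1 ω.2 =
      Nat.card G := by
    have h1 := total_cn hM hB hΩ2 hχ
    have h2 : ((∑ ω ∈ Ω, (Nat.card (cz (Subgroup.zpowers ω.1)) : ℝ) * F ω.1 ω.2 : ℝ) : ℂ) =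
        ((Nat.card G : ℝ) : ℂ) := by
      rw [Complex.ofReal_natCast, ← h1, Complex.ofReal_sum]
      apply Finset.sum_congr rfl
      intro ω hω
      rw [(hreal ω hω).2]
      push_cast; rfl
    exact_mod_cast h2
  rw [htot] at hcount
  set S := univ.filter (fun u : G => u ∈ P ⊓ cz P) with hS
  have hcount' : (Nat.card (P ⊔ cz P : Subgroup G) : ℝ) * ∑ u ∈ S, F u (f u) ≤
      (Nat.card (stab (nz P) e) : ℝ) := by
    have h1 : (Nat.card G : ℝ) * ((Nat.card (P ⊔ cz P : Subgroup G) : ℝ) *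
        ∑ u ∈ S, F u (f u)) ≤ (Nat.card G : ℝ) * (Nat.card (stab (nz P) e) : ℝ) := by
      calc _ = (Nat.card (P ⊔ cz P : Subgroup G) : ℝ) * ((Nat.card G : ℝ) *
            ∑ u ∈ S, F u (f u)) := by ring
        _ ≤ _ := hcount
        _ = _ := by ring
    exact le_of_mul_le_mul_left h1 hGpos
  -- average
  set N := Nat.card G with hNd
  have hN : N ≠ 0 := Nat.card_pos.ne'
  have hcardS : (S.card : ℝ) = Nat.card (P ⊓ cz P : Subgroup G) := by
    rw [hS, ← Fintype.card_subtype, ← Nat.card_eq_fintype_card]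
  have havg : ∀ u ∈ S, ((cop N).card : ℝ) * (p : ℝ) ^ blockHeight p B (χ : G → ℂ) ≤
      ∑ m ∈ cop N, (p : ℝ) ^ blockDefect p B * F (u ^ m) (f (u ^ m)) := by
    intro u hu
    have hu' : u ∈ P ⊓ cz P := (Finset.mem_filter.mp hu).2
    have hin : InB p (EG M B) (Subgroup.zpowers u) (f u) := hm.1.of_ple' (hf u hu'.1)
    obtain ⟨b, hb, hbe⟩ := exists_EH hin.2.1.2
    have hpg := isPGroup_zpowers (hm.isPEl hu'.1)
    have hind : IsInducedBlock M (cz (Subgroup.zpowers u)) b B := by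
      rw [isInducedBlock_cz_iff (p := p) hpg]
      exact ⟨hb, hB, by rw [hbe]; exact hin⟩
    have hPc : P ≤ cz (Subgroup.zpowers u) := by
      intro x hx
      rw [mem_cz_zpowers]
      exact Subgroup.mem_centralizer_iff.mp hu'.2 x hx
    have hdef := hm.isDef_of_central (hf u hu'.1) hPc
    rw [← hbe] at hdef
    have hd1 : Nat.card P = p ^ blockDefect p b := card_def_local hM hb hdef
    have hd2 : Nat.card P = p ^ blockDefect p B := card_isDef_G hM hB hm.isDef
    have hd : blockDefect p b = blockDefect p B :=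
      Nat.pow_right_injective hM.1.two_le (hd1.symm.trans hd2)
    have := Fintype.ofFinite (cz (Subgroup.zpowers u))
    have h1 := avg_cn hM hB (hm.isPEl hu'.1) (cent_zpowers u).symm hind hd hχ hN
      (show u ^ N = 1 from pow_card_eq_one')
    refine h1.trans (le_of_eq ?_)
    apply Finset.sum_congr rfl
    intro m hm'
    congr 1
    have hmc : (Nat.card G).Coprime m := (mem_cop.mp hm').2.symm
    have hz : Subgroup.zpowers (u ^ m) = Subgroup.zpowers u := by
      have hcop : (orderOf u).Coprime m :=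
        Nat.Coprime.coprime_dvd_left (orderOf_dvd_natCard u) hmc
      apply le_antisymm
      · rw [Subgroup.zpowers_le]
        exact Subgroup.pow_mem _ (Subgroup.mem_zpowers u) m
      · rw [Subgroup.zpowers_le]
        obtain ⟨k, hk⟩ := exists_pow_eq_self_of_coprime hcop.symm
        exact Subgroup.mem_zpowers_iff.mpr ⟨(k : ℤ), by rw [zpow_natCast, hk]⟩
    have hff : f (u ^ m) = f u := by
      apply ple_unique he _ _ (hf u hu'.1)
      have := hf (u ^ m) (P.pow_mem hu'.1 m)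
      rwa [hz] at this
    change _ = (cnk p (cz (Subgroup.zpowers (u ^ m))) (u ^ m) (f (u ^ m)) (χ : G → ℂ)
      (χ : G → ℂ)).re
    rw [hff, hz, ← hbe, cnk_EH (u ^ m) hb]
  have hsum1 := Finset.sum_le_sum havg
  rw [Finset.sum_const, nsmul_eq_mul, Finset.sum_comm] at hsum1
  have hbij : ∀ m ∈ cop N, ∑ u ∈ S, (p : ℝ) ^ blockDefect p B * F (u ^ m) (f (u ^ m)) =
      ∑ u ∈ S, (p : ℝ) ^ blockDefect p B * F u (f u) := by
    intro m hm'
    have hmc : (Nat.card G).Coprime m := (mem_cop.mp hm').2.symm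
    have hmem : ∀ v ∈ S, v ^ m ∈ S := fun v hv => Finset.mem_filter.mpr ⟨Finset.mem_univ _,
      (P ⊓ cz P).pow_mem (Finset.mem_filter.mp hv).2 m⟩
    have hinj : ∀ v w : G, v ^ m = w ^ m → v = w := by
      intro v w h
      exact (powCoprime hmc).injective h
    apply Finset.sum_bij (fun v _ => v ^ m)
    · intro v hv
      exact hmem v hv
    · intro v _ w _ h
      exact hinj v w h
    · intro w hw
      obtain ⟨v, h, h'⟩ := Finset.surj_on_of_inj_on_of_card_le (s := S) (t := S)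
          (fun v _ => v ^ m) (fun v hv => hmem v hv)
          (fun _ _ _ _ h => hinj _ _ h) le_rfl w hw
      exact ⟨v, h, h'.symm⟩
    · intro v hv
      rfl
  rw [Finset.sum_congr rfl hbij, Finset.sum_const, nsmul_eq_mul, ← Finset.mul_sum,
    hcardS] at hsum1
  have hcpos : (0 : ℝ) < ((cop N).card : ℝ) := by
    exact_mod_cast Finset.card_pos.mpr (cop_nonempty hN)
  have hsum2 : (Nat.card (P ⊓ cz P : Subgroup G) : ℝ) *
      (p : ℝ) ^ blockHeight p B (χ : G → ℂ) ≤ (p : ℝ) ^ blockDefect p B * ∑ u ∈ S, F u (f u) := by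
    have h1 : ((cop N).card : ℝ) * ((Nat.card (P ⊓ cz P : Subgroup G) : ℝ) *
      (p : ℝ) ^ blockHeight p B (χ : G → ℂ)) ≤ ((cop N).card : ℝ) *
        ((p : ℝ) ^ blockDefect p B * ∑ u ∈ S, F u (f u)) := by
      calc _ = (Nat.card (P ⊓ cz P : Subgroup G) : ℝ) * (((cop N).card : ℝ) *
            (p : ℝ) ^ blockHeight p B (χ : G → ℂ)) := by ring
        _ ≤ _ := hsum1
    exact le_of_mul_le_mul_left h1 hcpos
  have h3 : (Nat.card (P ⊔ cz P : Subgroup G) : ℝ) * ((Nat.card (P ⊓ cz P : Subgroup G) : ℝ) *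
      (p : ℝ) ^ blockHeight p B (χ : G → ℂ)) ≤
      (Nat.card (stab (nz P) e) : ℝ) * (p : ℝ) ^ blockDefect p B := by
    calc _ ≤ (Nat.card (P ⊔ cz P : Subgroup G) : ℝ) *
          ((p : ℝ) ^ blockDefect p B * ∑ u ∈ S, F u (f u)) :=
            mul_le_mul_of_nonneg_left hsum2 (by positivity)
      _ = ((Nat.card (P ⊔ cz P : Subgroup G) : ℝ) * ∑ u ∈ S, F u (f u)) *
          (p : ℝ) ^ blockDefect p B := by ring
      _ ≤ _ := mul_le_mul_of_nonneg_right hcount' (by positivity)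
  exact_mod_cast h3

theorem st4715 (hM : IsPModular p M) (B : Set (IrrCharacter G)) (hB : IsPBlock M B)
    (D : Subgroup G) (hBD : IsDefectGroup p M B D) (d : ℕ) (hDd : Nat.card D = p ^ d)
    (H : Subgroup G) (hH : H = D ⊔ Subgroup.centralizer (D : Set G)) (b : Set (IrrCharacter H))
    (hind : IsInducedBlock M H b B) (T : Subgroup G)
    (hT : ∀ g : G, g ∈ T ↔ (g ∈ Subgroup.normalizer (D : Set G) ∧ ∀ θ ∈ b,
      ∀ θ' : IrrCharacter H, (∀ h h' : H, (h' : G) = g * h * g⁻¹ →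
        (θ' : H → ℂ) h' = (θ : H → ℂ) h) → θ' ∈ b)) (e : ℕ) (he : H.relIndex T = e) (n : ℕ)
    (hn : p ^ n ≤ e ∧ e < p ^ (n + 1)) (c : ℕ) (hc : Nat.card (Subgroup.center D) = p ^ c) :
    ∀ χ ∈ B, blockHeight p B (χ : G → ℂ) + c ≤ n + d := by
  intro χ hχ
  have := pmod_isPrime hM
  have := charP_KF hM
  have hDH : D ≤ H := by rw [hH]; exact le_sup_left
  have hCH : cz D ≤ H := by rw [hH]; exact le_sup_right
  have hHN : H ≤ nz D := by
    rw [hH]; exact sup_le Subgroup.le_normalizer (centralizer_le_normalizer' D)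
  have hDef := (isDefectGroup_iff_EG hB).mp hBD
  have hDp : IsPGroup p D := hDef.2.1
  have hin := inB_of_isInducedBlock_sup hDp hH hind
  have hm := hin.maxB_of_isDef hDef
  have hb : IsPBlock M b := hind.1
  have hTs : T = stab (nz D) (EH M H b) := by
    ext g
    rw [hT, mem_stab]
    apply and_congr_right
    intro hg
    have hgH : g ∈ nz H := by
      apply mem_nz_of_cg_eq
      rw [hH]
      change Subgroup.map _ _ = _
      rw [Subgroup.map_sup]
      change cg D g ⊔ cg (cz D) g = _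
      rw [cg_eq_of_mem_nz hg, cg_eq_of_mem_nz (normalizer_le_normalizer_centralizer D hg)]
    constructor
    · intro h
      apply ((stabilizesBlock_iff hb g).mp ⟨hgH, ?_⟩).2
      intro χ hχ
      have hc : IsConjCharOf H g (χ : H → ℂ) (irrMap (normConj H hgH) χ : H → ℂ) := by
        intro a a' haa
        have : a' = normConj H hgH a := Subtype.ext haa
        rw [this, irrMap_apply']
      exact ⟨_, h χ hχ _ (fun a a' haa => hc a a' haa), hc⟩
    · intro h
      obtain ⟨_, h2⟩ := (stabilizesBlock_iff hb g).mpr ⟨hgH, h⟩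
      intro θ hθ θ' hθ'
      obtain ⟨χ', hχ', hc⟩ := h2 θ hθ
      have : θ' = χ' := by
        apply Subtype.ext
        funext a'
        have h3 := hθ' ((normConj H hgH).symm a') a' (by
          rw [← normConj_coe H hgH, MulEquiv.apply_symm_apply])
        have h4 := hc ((normConj H hgH).symm a') a' (by
          rw [← normConj_coe H hgH, MulEquiv.apply_symm_apply])
        exact h3.trans h4.symm
      rw [this]; exact hχ'
  have hmain := height_le_center hM hB hm hχ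
  rw [← hTs, ← card_inf_cz, hc] at hmain
  have hHle : H ≤ T := by
    rw [hTs]; exact le_stab hHN (isBlk_EH hb).isFx
  have hcardT : Nat.card T = Nat.card H * e := by
    rw [← he]
    have h1 := Subgroup.relIndex_mul_relIndex ⊥ H T bot_le hHle
    rw [Subgroup.relIndex_bot_left, Subgroup.relIndex_bot_left] at h1
    exact h1.symm
  have hcardD : blockDefect p B = d := by
    have h1 : Nat.card D = p ^ blockDefect p B := card_isDef_G hM hB hDef
    exact Nat.pow_right_injective hp.out.two_le (h1.symm.trans hDd)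
  have hHH : (D ⊔ cz D : Subgroup G) = H := hH.symm
  rw [hHH, hcardT, hcardD, mul_assoc, ← pow_add] at hmain
  have hHpos : 0 < Nat.card H := Nat.card_pos
  have h1 := Nat.le_of_mul_le_mul_left hmain hHpos
  have h2 : p ^ (c + blockHeight p B (χ : G → ℂ)) < p ^ (n + 1 + d) := by
    refine h1.trans_lt ?_
    rw [pow_add]
    exact Nat.mul_lt_mul_of_pos_right hn.2 (pow_pos hp.out.pos _)
  have h3 := (Nat.pow_lt_pow_iff_right hp.out.one_lt).mp h2
  omega

end Main

end Cfsg.Agent.H26
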