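import Mathlib
import Cfsg.Agent.H26.Gd1
import Cfsg.Agent.H26.MajSub3

set_option autoImplicit false

/-!
# Generalised decomposition numbers as pairings with virtual projective characters
-/

namespace Cfsg.Agent.H26

open Cfsg Cfsg.Agent.H3 Cfsg.Agent.H11 Cfsg.Agent.H27 Finset
open scoped ComplexConjugate

universe u

section Gal

variable {N : ℕ} {p : ℕ} {M : Ideal AlgInt}

theorem gs_sigma (hN : N ≠ 0) {m : ℕ} (hm : m ∈ cop N) : ∃ σ : ℂ ≃+* ℂ, ∀ a : ℕ → ℂ,
    IsGalSeq N a → a m = σ (a 1) := by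
  obtain ⟨σ, hσ⟩ := exists_ringEquiv_pow hN (mem_cop.mp hm).2
  refine ⟨σ, ?_⟩
  rintro a ⟨f, hf⟩
  set ζ := Complex.exp (2 * Real.pi * Complex.I / N) with hζdef
  have hζ : IsPrimitiveRoot ζ N := Complex.isPrimitiveRoot_exp N hN
  have h1 : σ ζ = ζ ^ m := hσ ζ hζ.pow_eq_one
  have h2 : a m = Polynomial.aeval (ζ ^ m) f := hf m
  have h3 : a 1 = Polynomial.aeval (ζ ^ 1) f := hf 1
  rw [h2, h3, pow_one, ← h1]
  have := Polynomial.hom_eval₂ f (algebraMap ℤ ℂ) (σ : ℂ →+* ℂ) ζ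
  rw [Polynomial.aeval_def, Polynomial.aeval_def]
  change Polynomial.eval₂ (algebraMap ℤ ℂ) (σ ζ) f =
    (σ : ℂ →+* ℂ) (Polynomial.eval₂ (algebraMap ℤ ℂ) ζ f)
  rw [this]
  congr 1
  exact RingHom.ext_int _ _

theorem gs_ne_zero (hN : N ≠ 0) {a : ℕ → ℂ} (ha : IsGalSeq N a) {m : ℕ} (hm : m ∈ cop N) :
    a m = 0 ↔ a 1 = 0 := by
  obtain ⟨σ, hσ⟩ := gs_sigma hN hm
  rw [hσ a ha]
  exact map_eq_zero_iff σ σ.injective

theorem gs_lr [hpr : M.IsPrime] (hN : N ≠ 0) {a : ℕ → ℂ} (ha : IsGalSeq N a) (m : ℕ) :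
    MemLocalRing M (a m) := by
  obtain ⟨f, hf⟩ := ha
  set ζ := Complex.exp (2 * Real.pi * Complex.I / N) with hζdef
  have hζ : IsPrimitiveRoot ζ N := Complex.isPrimitiveRoot_exp N hN
  have h2 : a m = Polynomial.aeval (ζ ^ m) f := hf m
  apply lr_int
  have h1 : IsIntegral ℤ (ζ ^ m) := (hζ.isIntegral (Nat.pos_of_ne_zero hN)).pow m
  rw [h2]
  exact adjoin_le_integralClosure h1 (Polynomial.aeval_mem_adjoin_singleton ℤ (ζ ^ m))

/-- The average of `|a|²` over the Galois conjugates. -/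
theorem gal_avg (hM : IsPModular p M) (hN : N ≠ 0) {a : ℕ → ℂ} (ha : IsGalSeq N a)
    (h0 : a 1 ≠ 0) (j : ℕ) (h : ∀ m ∈ cop N, MemLocalRing M (a m / (p : ℂ) ^ j)) :
    ((cop N).card : ℝ) * (p : ℝ) ^ (2 * j) ≤ ∑ m ∈ cop N, ‖a m‖ ^ 2 := by
  have hpr := hM.2.1.isPrime
  have hp0 : (p : ℂ) ≠ 0 := by exact_mod_cast hM.1.ne_zero
  have hppos : (0 : ℝ) < p := by exact_mod_cast hM.1.pos
  obtain ⟨k, hk⟩ := prod_cop_int hN ha
  have hne : ∀ m ∈ cop N, a m ≠ 0 := fun m hm h1 => h0 ((gs_ne_zero hN ha hm).mp h1)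
  set φ := (cop N).card with hφ
  have h1 : MemLocalRing M ((k : ℂ) / (p : ℂ) ^ (j * φ)) := by
    have h2 : (k : ℂ) / (p : ℂ) ^ (j * φ) = ∏ m ∈ cop N, (a m / (p : ℂ) ^ j) := by
      rw [Finset.prod_div_distrib, hk, Finset.prod_const, ← pow_mul]
    rw [h2]
    have h3 : ∀ s : Finset ℕ, s ⊆ cop N → MemLocalRing M (∏ m ∈ s, (a m / (p : ℂ) ^ j)) := by
      classical
      intro s
      induction s using Finset.induction_on with
      | empty => intro _; rw [Finset.prod_empty]; exact lr_one M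
      | insert a s ha ih =>
        intro hs
        rw [Finset.prod_insert ha]
        exact lr_mul (h a (hs (Finset.mem_insert_self a s)))
          (ih fun y hy => hs (Finset.mem_insert_of_mem hy))
    exact h3 _ (Finset.Subset.refl _)
  obtain ⟨l, hl⟩ := dvd_of_lr_div hM _ k h1
  have hl0 : l ≠ 0 := by
    rintro rfl
    rw [mul_zero] at hl
    rw [hl, Int.cast_zero, Finset.prod_eq_zero_iff] at hk
    obtain ⟨m, hm, hm0⟩ := hk
    exact hne m hm hm0
  have h5 : ∏ m ∈ cop N, (‖a m‖ ^ 2 / (p : ℝ) ^ (2 * j)) = (l : ℝ) ^ 2 := by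
    have h6 : ∏ m ∈ cop N, ‖a m‖ = |(k : ℝ)| := by
      rw [← norm_prod, hk, Complex.norm_intCast]
    rw [Finset.prod_div_distrib, Finset.prod_pow, h6, sq_abs, Finset.prod_const, hl]
    push_cast
    rw [← pow_mul, mul_pow, ← pow_mul]
    have h7 : 2 * j * (cop N).card = j * φ * 2 := by rw [hφ]; ring
    rw [h7]
    field_simp
  have h6 := card_le_sum_of_prod (cop N) (fun m => ‖a m‖ ^ 2 / (p : ℝ) ^ (2 * j)) (by
    intro m hm
    have := norm_pos_iff.mpr (hne m hm)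
    positivity) (by
    rw [h5]
    have : (1 : ℤ) ≤ l ^ 2 := Int.add_one_le_iff.mpr (lt_of_le_of_ne (sq_nonneg l)
      (Ne.symm (pow_ne_zero 2 hl0)))
    exact_mod_cast this)
  rw [← Finset.sum_div, le_div_iff₀ (by positivity)] at h6
  exact h6

theorem gal_avg0 (hN : N ≠ 0) {a : ℕ → ℂ} (ha : IsGalSeq N a)
    (h0 : a 1 ≠ 0) : ((cop N).card : ℝ) ≤ ∑ m ∈ cop N, ‖a m‖ ^ 2 := by
  apply totient_le_sum hN (ha.mul (isGalSeq_conj hN ha)) (fun m => ‖a m‖ ^ 2)
  · intro m _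
    rw [Complex.mul_conj, Complex.normSq_eq_norm_sq]
  · intro m hm
    have := norm_pos_iff.mpr (fun h1 => h0 ((gs_ne_zero hN ha hm).mp h1))
    positivity

end Gal

section Pair

variable {G : Type u} [Group G] [Fintype G] {p : ℕ} [hp : Fact p.Prime] {M : Ideal AlgInt}
  {C : Subgroup G} [Fintype C] {b : Set (IrrCharacter C)}

omit hp in
theorem gal_acG {N : ℕ} (hN : N ≠ 0) {χ : G → ℂ} (hχ : IsCharacter G χ) {x : C}
    (hx : ∀ c, x * c = c * x) (hxN : x ^ N = 1) {Φ : C → ℂ} (hΦ : IsGeneralizedCharacter C Φ) :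
    IsGalSeq N (fun m => ac C ((x : G) ^ m) χ Φ) := by
  have := Fintype.ofFinite (IrrCharacter C)
  obtain ⟨hcl, hint⟩ := isGen_iff.mp hΦ
  choose n hn using hint
  have h1 : Φ = ∑ θ : IrrCharacter C, (n θ : ℂ) • (θ : C → ℂ) := by
    funext g
    rw [classFun_expand_apply hcl g, Finset.sum_apply]
    apply Finset.sum_congr rfl
    intro θ _
    rw [hn, Pi.smul_apply, smul_eq_mul]
  have h2 : (fun m => ac C ((x : G) ^ m) χ Φ) =
      fun m => ∑ θ : IrrCharacter C, (n θ : ℂ) * ac C ((x : G) ^ m) χ (θ : C → ℂ) := by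
    funext m
    unfold ac
    rw [h1, classInner_sum_right]
    apply Finset.sum_congr rfl
    intro θ _
    rw [classInner_smul_right, map_intCast]
  rw [h2]
  apply IsGalSeq.sum
  intro θ _
  exact (IsGalSeq.intCast _).mul (gal_ac hN hχ hx hxN θ)

theorem ac_ct (x : G) (χ : G → ℂ) {Φ : C → ℂ} (hΦ : IsPr p b Φ) :
    ac C x χ Φ = classInner (pRegularPart p (ct C x b χ)) Φ := by
  classical
  have := Fintype.ofFinite (IrrCharacter C)
  have h1 : classInner (pRegularPart p (ct C x b χ)) Φ = classInner (ct C x b χ) Φ := by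
    unfold classInner
    congr 1
    apply Finset.sum_congr rfl
    intro g _
    by_cases hg : p ∣ orderOf g
    · rw [hΦ.2.1 g hg, map_zero, mul_zero, mul_zero]
    · rw [pr_reg hg]
  rw [h1, ct_eq_sum, classInner_sum_left]
  have h2 : ac C x χ Φ = ∑ θ : IrrCharacter C with θ ∈ b, conj (classInner Φ (θ : C → ℂ)) *
      ac C x χ (θ : C → ℂ) := by
    unfold ac
    conv_lhs => rw [hΦ.eq_sum, classInner_sum_right]
    apply Finset.sum_congr rfl
    intro θ _
    rw [classInner_smul_right]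
  rw [h2]
  apply Finset.sum_congr rfl
  intro θ _
  rw [classInner_smul_left, classInner_conj_symm, mul_comm]

omit hp in
theorem reg_ct_mem (x : G) (χ : G → ℂ) : pRegularPart p (ct C x b χ) ∈ VB p b := by
  classical
  have := Fintype.ofFinite (IrrCharacter C)
  rw [ct_eq_sum, pr_sum]
  apply Submodule.sum_mem
  intro θ hθ
  rw [pr_smul]
  exact Submodule.smul_mem _ _ (Submodule.subset_span ⟨θ, (Finset.mem_filter.mp hθ).2, rfl⟩)

omit hp in
theorem cn_eq_inner (x : G) (χ ψ : G → ℂ) : cn p C x b χ ψ =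
    classInner (pRegularPart p (ct C x b χ)) (pRegularPart p (ct C x b ψ)) := by
  rw [cn_eq_mm]
  unfold mm classInner
  congr 1
  apply Finset.sum_congr rfl
  intro g _
  by_cases hg : p ∣ orderOf g
  · rw [pr_sing hg, zero_mul, zero_mul]
  · rw [pr_reg (θ := ct C x b ψ) hg]

/-- norm of the pairing -/
theorem sum_ac (hM : IsPModular p M) {B : Set (IrrCharacter G)} (hB : IsPBlock M B)
    {x : G} (hx : ∃ k : ℕ, orderOf x = p ^ k)
    (hC : C = Subgroup.centralizer ({x} : Set G)) [Fintype (IrrCharacter G)]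
    [DecidablePred (· ∈ B)] (hb : IsInducedBlock M C b B) {Φ : C → ℂ} (hΦ : IsPr p b Φ) :
    ((∑ χ : IrrCharacter G with χ ∈ B, ‖ac C x (χ : G → ℂ) Φ‖ ^ 2 : ℝ) : ℂ) =
      classInner Φ Φ := by
  classical
  have := Fintype.ofFinite (IrrCharacter C)
  have hbP : ∀ s, blockPart b Φ s = Φ s := by
    intro s
    rw [blockPart_eq_sum]
    conv_rhs => rw [hΦ.eq_sum]
    rw [Finset.sum_apply]
    rfl
  have h2 : ∀ χ : IrrCharacter G, ac C x (χ : G → ℂ) Φ = (Nat.card C : ℂ)⁻¹ *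
      ∑ s : C with ¬ p ∣ orderOf s, ct C x b (χ : G → ℂ) s * conj (Φ s) := by
    intro χ
    rw [ac_ct x _ hΦ, Finset.sum_filter]
    unfold classInner
    congr 1
    apply Finset.sum_congr rfl
    intro s _
    split_ifs with hs
    · rw [pr_sing hs, zero_mul]
    · rw [pr_reg hs]
  have h3 : ∀ s : C, ∑ t : C with ¬ p ∣ orderOf t, Φ t * kr b s t = (Nat.card C : ℂ) * Φ s := by
    intro s
    rw [← hbP s, blockPart_eq_kr, ← mul_assoc, mul_inv_cancel₀ card_ne_zeroC, one_mul,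
      Finset.sum_filter]
    apply Finset.sum_congr rfl
    intro t _
    split_ifs with ht
    · rw [hΦ.2.1 t ht, zero_mul]
    · rfl
  have h4 : ∀ χ : IrrCharacter G, ((‖ac C x (χ : G → ℂ) Φ‖ ^ 2 : ℝ) : ℂ) =
      (Nat.card C : ℂ)⁻¹ * (Nat.card C : ℂ)⁻¹ * ∑ s : C with ¬ p ∣ orderOf s,
        ∑ t : C with ¬ p ∣ orderOf t, conj (Φ s) * Φ t *
          (ct C x b (χ : G → ℂ) s * conj (ct C x b (χ : G → ℂ) t)) := by
    intro χ
    have h5 : ((‖ac C x (χ : G → ℂ) Φ‖ ^ 2 : ℝ) : ℂ) =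
        ac C x (χ : G → ℂ) Φ * conj (ac C x (χ : G → ℂ) Φ) := by
      rw [Complex.mul_conj, Complex.normSq_eq_norm_sq]
    rw [h5, h2 χ, map_mul, map_sum, map_inv₀, Complex.conj_natCast]
    have h6 : ∀ A D E : ℂ, A * D * (A * E) = A * A * (D * E) := fun A D E => by ring
    rw [h6, Finset.sum_mul_sum]
    congr 1
    apply Finset.sum_congr rfl
    intro s _
    apply Finset.sum_congr rfl
    intro t _
    rw [map_mul, Complex.conj_conj]
    ring
  push_cast at h4 ⊢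
  rw [Finset.sum_congr rfl (fun χ _ => h4 χ), ← Finset.mul_sum, Finset.sum_comm]
  have h7 : ∀ s ∈ univ.filter (fun s : C => ¬ p ∣ orderOf s),
      ∑ χ : IrrCharacter G with χ ∈ B, ∑ t : C with ¬ p ∣ orderOf t, conj (Φ s) * Φ t *
          (ct C x b (χ : G → ℂ) s * conj (ct C x b (χ : G → ℂ) t)) =
      conj (Φ s) * ((Nat.card C : ℂ) * Φ s) := by
    intro s hs
    rw [Finset.sum_comm, ← h3 s, Finset.mul_sum]
    apply Finset.sum_congr rfl
    intro t ht
    rw [← Finset.mul_sum, ct_pairing hM hB hx hC hb s t (Finset.mem_filter.mp hs).2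
      (Finset.mem_filter.mp ht).2]
    ring
  rw [Finset.sum_congr rfl h7]
  have h8 : classInner Φ Φ = (Nat.card C : ℂ)⁻¹ *
      ∑ s : C with ¬ p ∣ orderOf s, Φ s * conj (Φ s) := by
    rw [Finset.sum_filter]
    unfold classInner
    congr 1
    apply Finset.sum_congr rfl
    intro s _
    split_ifs with hs
    · rw [hΦ.2.1 s hs, zero_mul]
    · rfl
  rw [h8, Finset.mul_sum, Finset.mul_sum]
  apply Finset.sum_congr rfl
  intro s _
  have hCn : (Nat.card C : ℂ) ≠ 0 := card_ne_zeroC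
  field_simp

end Pair

end Cfsg.Agent.H26
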