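import Mathlib
import Cfsg.Agent.H26.Gd2
import Cfsg.Agent.H26.Coef2

set_option autoImplicit false

/-!
# Major subsections with at most two Brauer characters
-/

namespace Cfsg.Agent.H26

open Cfsg Cfsg.Agent.H3 Cfsg.Agent.H11 Cfsg.Agent.H27 Finset
open scoped ComplexConjugate

universe u

section Arith

theorem red_arith {p d : ℕ} (hp : p.Prime) {α β γ : ℤ} (hα : 0 < α) (hβ : 0 ≤ β)
    (h2 : 2 * β ≤ α) (hαγ : α ≤ γ) (h3 : α * γ - β ^ 2 ∣ (p : ℤ) ^ d * α)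
    (h4 : α * γ - β ^ 2 ∣ (p : ℤ) ^ d * β) (h5 : α * γ - β ^ 2 ∣ (p : ℤ) ^ d * γ) :
    α + γ - β ≤ (p : ℤ) ^ d ∨ (β = 0 ∧ γ = (p : ℤ) ^ d ∧ ∃ s, s ≤ d ∧ α = (p : ℤ) ^ s) := by
  have hP : (0 : ℤ) < (p : ℤ) ^ d := pow_pos (by exact_mod_cast hp.pos) d
  rcases hβ.eq_or_lt with h0 | h0
  · -- orthogonal case
    rw [← h0] at h3 h5 ⊢
    have h6 : γ ∣ (p : ℤ) ^ d := by
      have h7 : α * γ ∣ α * (p : ℤ) ^ d := by
        rw [mul_comm α ((p : ℤ) ^ d)]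
        have := h3
        rwa [zero_pow two_ne_zero, sub_zero] at this
      exact (mul_dvd_mul_iff_left hα.ne').mp h7
    have h8 : α ∣ (p : ℤ) ^ d := by
      have h7 : γ * α ∣ γ * (p : ℤ) ^ d := by
        rw [mul_comm γ ((p : ℤ) ^ d), mul_comm γ α]
        have := h5
        rwa [zero_pow two_ne_zero, sub_zero] at this
      exact (mul_dvd_mul_iff_left (lt_of_lt_of_le hα hαγ).ne').mp h7
    have key : ∀ z : ℤ, 0 < z → z ∣ (p : ℤ) ^ d → ∃ s, s ≤ d ∧ z = (p : ℤ) ^ s := by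
      intro z hz hzd
      have h9 : z.natAbs ∣ p ^ d := by
        have := Int.natAbs_dvd_natAbs.mpr hzd
        rwa [Int.natAbs_pow, Int.natAbs_natCast] at this
      obtain ⟨s, hs, hzs⟩ := (Nat.dvd_prime_pow hp).mp h9
      refine ⟨s, hs, ?_⟩
      rw [← Int.natAbs_of_nonneg hz.le, hzs]
      push_cast; rfl
    obtain ⟨t, ht, hγt⟩ := key γ (lt_of_lt_of_le hα hαγ) h6
    obtain ⟨s, hs, hαs⟩ := key α hα h8
    rcases ht.eq_or_lt with h9 | h9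
    · right
      exact ⟨rfl, by rw [hγt, h9], s, hs, hαs⟩
    · left
      have h10 : γ * p ≤ (p : ℤ) ^ d := by
        rw [hγt, ← pow_succ]
        exact pow_le_pow_right₀ (by exact_mod_cast hp.one_lt.le) h9
      have h11 : (2 : ℤ) ≤ p := by exact_mod_cast hp.two_le
      nlinarith
  · left
    obtain ⟨g, hg⟩ : ∃ g : ℤ, g = gcd α (gcd β γ) := ⟨_, rfl⟩
    have hgα : g ∣ α := by rw [hg]; exact gcd_dvd_left _ _
    have hgβ : g ∣ β := by rw [hg]; exact (gcd_dvd_right _ _).trans (gcd_dvd_left _ _)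
    have hgγ : g ∣ γ := by rw [hg]; exact (gcd_dvd_right _ _).trans (gcd_dvd_right _ _)
    have hg0 : 0 < g := by
      have h6 : (0 : ℤ) ≤ g := by rw [hg]; exact Int.ofNat_zero_le _
      rcases h6.eq_or_lt with h7 | h7
      · rw [← h7] at hgα
        rw [zero_dvd_iff] at hgα
        omega
      · exact h7
    obtain ⟨α₁, hα₁⟩ := hgα
    obtain ⟨β₁, hβ₁⟩ := hgβ
    obtain ⟨γ₁, hγ₁⟩ := hgγ
    have h6 : α * γ - β ^ 2 ∣ (p : ℤ) ^ d * g := by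
      have h7 : α * γ - β ^ 2 ∣ gcd ((p : ℤ) ^ d * α) (gcd ((p : ℤ) ^ d * β) ((p : ℤ) ^ d * γ)) :=
        dvd_gcd h3 (dvd_gcd h4 h5)
      refine h7.trans ?_
      rw [hg]
      have h8 : gcd ((p : ℤ) ^ d * β) ((p : ℤ) ^ d * γ) ∣ (p : ℤ) ^ d * gcd β γ :=
        (_root_.gcd_mul_left' _ _ _).dvd
      have h9 : gcd ((p : ℤ) ^ d * α) (gcd ((p : ℤ) ^ d * β) ((p : ℤ) ^ d * γ)) ∣
          gcd ((p : ℤ) ^ d * α) ((p : ℤ) ^ d * gcd β γ) :=
        dvd_gcd (gcd_dvd_left _ _) ((gcd_dvd_right _ _).trans h8)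
      exact h9.trans (_root_.gcd_mul_left' _ _ _).dvd
    have h7 : g * (α₁ * γ₁ - β₁ ^ 2) ∣ (p : ℤ) ^ d := by
      have h8 : α * γ - β ^ 2 = g * (g * (α₁ * γ₁ - β₁ ^ 2)) := by
        rw [hα₁, hβ₁, hγ₁]; ring
      rw [h8, mul_comm ((p : ℤ) ^ d) g] at h6
      exact (mul_dvd_mul_iff_left hg0.ne').mp h6
    have h8 := Int.le_of_dvd hP h7
    have hβ₁0 : 1 ≤ β₁ := by
      by_contra hcon
      push Not at hcon
      nlinarith
    have hα₁2 : 2 * β₁ ≤ α₁ := by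
      by_contra hcon
      push Not at hcon
      nlinarith
    have hγ₁2 : α₁ ≤ γ₁ := by
      by_contra hcon
      push Not at hcon
      nlinarith
    have h9 : α₁ + γ₁ - β₁ ≤ α₁ * γ₁ - β₁ ^ 2 := by nlinarith
    calc α + γ - β = g * (α₁ + γ₁ - β₁) := by rw [hα₁, hβ₁, hγ₁]; ring
      _ ≤ g * (α₁ * γ₁ - β₁ ^ 2) := mul_le_mul_of_nonneg_left h9 hg0.le
      _ ≤ (p : ℤ) ^ d := h8

end Arith

section Cost

variable {G : Type u} [Group G] [Fintype G] {p : ℕ} [hp : Fact p.Prime] {M : Ideal AlgInt}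
  {C : Subgroup G} [Fintype C] {b : Set (IrrCharacter C)}

/-- The number of characters seen by a virtual projective character. -/
theorem card_ac_le (hM : IsPModular p M) {B : Set (IrrCharacter G)} (hB : IsPBlock M B)
    {x : G} (hx : ∃ k : ℕ, orderOf x = p ^ k)
    (hC : C = Subgroup.centralizer ({x} : Set G)) (hb : IsInducedBlock M C b B) {Φ : C → ℂ}
    (hΦ : IsPr p b Φ) {n : ℤ} (hn : classInner Φ Φ = n) (S : Finset (IrrCharacter G))
    (hSB : ∀ χ ∈ S, χ ∈ B) (hS : ∀ χ ∈ S, ac C x (χ : G → ℂ) Φ ≠ 0) (j : IrrCharacter G → ℕ)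
    (hj : ∀ χ ∈ S, ∀ m ∈ cop (Nat.card G),
      MemLocalRing M (ac C (x ^ m) (χ : G → ℂ) Φ / (p : ℂ) ^ (j χ))) :
    ∑ χ ∈ S, (p : ℤ) ^ (2 * j χ) ≤ n := by
  classical
  have := Fintype.ofFinite (IrrCharacter G)
  set N := Nat.card G with hNd
  have hN : N ≠ 0 := Nat.card_pos.ne'
  have hxN : x ^ N = 1 := pow_card_eq_one'
  have hcopx : ∀ m ∈ cop N, m.Coprime (orderOf x) := fun m hm =>
    Nat.Coprime.coprime_dvd_right (orderOf_dvd_of_pow_eq_one hxN) (mem_cop.mp hm).2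
  have hCm : ∀ m ∈ cop N, C = Subgroup.centralizer ({x ^ m} : Set G) := by
    intro m hm
    rw [pow_cent_eq (hcopx m hm), hC]
  have hxm : ∀ m, ∃ k : ℕ, orderOf (x ^ m) = p ^ k := by
    intro m
    obtain ⟨k, hk⟩ := hx
    obtain ⟨j, -, hj⟩ := (Nat.dvd_prime_pow hM.1).mp (hk ▸ orderOf_pow_dvd (x := x) m)
    exact ⟨j, hj⟩
  have hxC : x ∈ C := by rw [hC]; exact Subgroup.mem_centralizer_singleton_iff.mpr rfl
  set x' : C := ⟨x, hxC⟩ with hx'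
  have hxc : ∀ c, x' * c = c * x' := fun c => by
    have h : (c : G) ∈ Subgroup.centralizer ({x} : Set G) := hC ▸ c.2
    exact Subtype.ext (Subgroup.mem_centralizer_singleton_iff.mp h).symm
  have hgal : ∀ χ : IrrCharacter G, IsGalSeq N (fun m => ac C (x ^ m) (χ : G → ℂ) Φ) :=
    fun χ => gal_acG hN (irr_isChar χ.2) hxc
      (Subtype.ext (by rw [Subgroup.coe_pow]; exact hxN) : x' ^ N = 1) hΦ.1
  have h1 : ∀ m ∈ cop N, ∑ χ ∈ S, ‖ac C (x ^ m) (χ : G → ℂ) Φ‖ ^ 2 ≤ (n : ℝ) := by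
    intro m hm
    have h2 := sum_ac hM hB (hxm m) (hCm m hm) hb hΦ
    rw [hn] at h2
    have h3 : ∑ χ : IrrCharacter G with χ ∈ B, ‖ac C (x ^ m) (χ : G → ℂ) Φ‖ ^ 2 = (n : ℝ) := by
      have h4 : ((∑ χ : IrrCharacter G with χ ∈ B, ‖ac C (x ^ m) (χ : G → ℂ) Φ‖ ^ 2 : ℝ) : ℂ) =
        ((n : ℝ) : ℂ) := by rw [h2]; push_cast; rfl
      exact_mod_cast h4
    rw [← h3]
    apply Finset.sum_le_sum_of_subset_of_nonneg
    · intro χ hχ
      exact Finset.mem_filter.mpr ⟨Finset.mem_univ _, hSB χ hχ⟩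
    · intro _ _ _; positivity
  have h2 : ∑ m ∈ cop N, ∑ χ ∈ S, ‖ac C (x ^ m) (χ : G → ℂ) Φ‖ ^ 2 ≤
      ((cop N).card : ℝ) * n := by
    calc _ ≤ ∑ m ∈ cop N, (n : ℝ) := Finset.sum_le_sum h1
      _ = _ := by rw [Finset.sum_const, nsmul_eq_mul]
  rw [Finset.sum_comm] at h2
  have h3 : ∑ χ ∈ S, ((cop N).card : ℝ) * (p : ℝ) ^ (2 * j χ) ≤ ((cop N).card : ℝ) * n := by
    refine le_trans (Finset.sum_le_sum fun χ hχ => ?_) h2
    exact gal_avg hM hN (hgal χ) (by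
      change ac C (x ^ 1) (χ : G → ℂ) Φ ≠ 0
      rw [pow_one]; exact hS χ hχ) (j χ) (hj χ hχ)
  rw [← Finset.mul_sum] at h3
  have hcard : (0 : ℝ) < ((cop N).card : ℝ) := by
    exact_mod_cast Finset.card_pos.mpr (cop_nonempty hN)
  have h4 := le_of_mul_le_mul_left h3 hcard
  exact_mod_cast h4

theorem card_ac_le0 (hM : IsPModular p M) {B : Set (IrrCharacter G)} (hB : IsPBlock M B)
    {x : G} (hx : ∃ k : ℕ, orderOf x = p ^ k)
    (hC : C = Subgroup.centralizer ({x} : Set G)) (hb : IsInducedBlock M C b B) {Φ : C → ℂ}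
    (hΦ : IsPr p b Φ) {n : ℤ} (hn : classInner Φ Φ = n) (S : Finset (IrrCharacter G))
    (hSB : ∀ χ ∈ S, χ ∈ B) (hS : ∀ χ ∈ S, ac C x (χ : G → ℂ) Φ ≠ 0) : (S.card : ℤ) ≤ n := by
  have hpr := hM.2.1.isPrime
  have hN : Nat.card G ≠ 0 := Nat.card_pos.ne'
  have hxN : x ^ Nat.card G = 1 := pow_card_eq_one'
  have hxC : x ∈ C := by rw [hC]; exact Subgroup.mem_centralizer_singleton_iff.mpr rfl
  have hxc : ∀ c, (⟨x, hxC⟩ : C) * c = c * ⟨x, hxC⟩ := fun c => by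
    have h : (c : G) ∈ Subgroup.centralizer ({x} : Set G) := hC ▸ c.2
    exact Subtype.ext (Subgroup.mem_centralizer_singleton_iff.mp h).symm
  have h := card_ac_le hM hB hx hC hb hΦ hn S hSB hS (fun _ => 0) (fun χ _ m _ => by
    rw [pow_zero, div_one]
    exact gs_lr (M := M) hN (gal_acG hN (irr_isChar χ.2) hxc
      (Subtype.ext (by rw [Subgroup.coe_pow]; exact hxN)) hΦ.1) m)
  simpa using h

omit hp in
/-- vanishing of all pairings -/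
theorem cn_zero_of_ac {Ψ₁ Ψ₂ : C → ℂ} [Fact p.Prime] (x : G) (χ : G → ℂ) (h1 : IsPr p b Ψ₁)
    (h2 : IsPr p b Ψ₂) (hsp : VB p b ≤ Submodule.span ℂ {Ψ₁, Ψ₂})
    (h3 : ac C x χ Ψ₁ = 0) (h4 : ac C x χ Ψ₂ = 0) : cn p C x b χ χ = 0 := by
  rw [cn_eq_inner]
  obtain ⟨a, c, hac⟩ := Submodule.mem_span_pair.mp (hsp (reg_ct_mem (b := b) x χ))
  rw [ac_ct x χ h1] at h3
  rw [ac_ct x χ h2] at h4
  have h5 : classInner (pRegularPart p (ct C x b χ)) (pRegularPart p (ct C x b χ)) =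
      classInner (a • Ψ₁ + c • Ψ₂) (pRegularPart p (ct C x b χ)) := by rw [hac]
  rw [h5, classInner_add_left, classInner_smul_left, classInner_smul_left,
    ← classInner_conj_symm, h3, ← classInner_conj_symm, h4]
  simp

end Cost

end Cfsg.Agent.H26
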