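import Mathlib
import Cfsg.Agent.H26.MinMax
import Cfsg.Agent.H26.AugNil
import Cfsg.Agent.H26.BFeit
import Cfsg.Agent.H26.Alpha
import Cfsg.Agent.H3.Gallagher2

set_option autoImplicit false

/-!
# Inflation of blocks from `G / P`, `P` a normal `p`-subgroup with `G / C_G(P)` a `p`-group
-/

namespace Cfsg.Agent.H26

open MonoidAlgebra MulAction Cfsg Cfsg.Agent.H11 Cfsg.Agent.H3
open scoped ComplexConjugate

universe u

section Gen

variable {G : Type u} [Group G] [Finite G] {p : ℕ} [hp : Fact p.Prime] {M : Ideal AlgInt}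

/-- inflation -/
noncomputable def infl (P : Subgroup G) [P.Normal] (χ : IrrCharacter (G ⧸ P)) : IrrCharacter G :=
  ⟨fun g => (χ : G ⧸ P → ℂ) (QuotientGroup.mk' P g),
    isIrr_comp_surjective χ.2 (QuotientGroup.mk' P) (QuotientGroup.mk'_surjective P)⟩

omit [Finite G] in
theorem infl_apply (P : Subgroup G) [P.Normal] (χ : IrrCharacter (G ⧸ P)) (g : G) :
    (infl P χ : G → ℂ) g = (χ : G ⧸ P → ℂ) (QuotientGroup.mk g) := rfl

theorem sameBlock_of_regular [hM : M.IsPrime] (hMp : IsPModular p M) {χ ψ : IrrCharacter G}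
    (h : ∀ x : G, ¬ p ∣ orderOf x →
      MemLocalIdeal M (centralChar (χ : G → ℂ) x - centralChar (ψ : G → ℂ) x)) :
    SameBlock M (χ : G → ℂ) (ψ : G → ℂ) := by
  classical
  have hfG : Fintype G := Fintype.ofFinite _
  have hfC : Fintype (ConjClasses G) := Fintype.ofFinite _
  have hB : IsPBlock M (blockOf M (χ : G → ℂ)) := ⟨χ, rfl⟩
  have h1 := lam_EG_eq (M := M) χ hB
  have h2 := lam_EG_eq (M := M) ψ hB
  rw [if_pos (mem_blockOf_self χ)] at h1
  have h3 : ∑ C : ConjClasses G, (EG M (blockOf M (χ : G → ℂ))).coeff (rp C) * lmB M χ (rp C) =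
      ∑ C : ConjClasses G, (EG M (blockOf M (χ : G → ℂ))).coeff (rp C) * lmB M ψ (rp C) := by
    apply Finset.sum_congr rfl
    intro C _
    by_cases h4 : (EG M (blockOf M (χ : G → ℂ))).coeff (rp C) = 0
    · rw [h4, zero_mul, zero_mul]
    congr 1
    unfold lmB
    exact (rd_eq_iff (lr_centralChar χ.2 _) (lr_centralChar ψ.2 _)).mpr
      (h _ (coeff_EG_pregular hMp hB h4))
  rw [h1, h2] at h3
  by_cases h4 : ψ ∈ blockOf M (χ : G → ℂ)
  · exact h4
  · rw [if_neg h4] at h3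
    exact absurd h3 one_ne_zero

theorem eq_one_of_comm_reg {w x : G} (hw : ∃ k : ℕ, orderOf w = p ^ k) (hc : Commute w x)
    (hx : ¬ p ∣ orderOf x) (hwx : ¬ p ∣ orderOf (w * x)) : w = 1 :=
  isPPart_unique hp.out (g := w * x) ⟨x, rfl, hc, hw, hx⟩
    (isPPart_one_of_pRegular hp.out hwx)

theorem exists_reg_lift {P : Subgroup G} [P.Normal] {t : G ⧸ P}
    (ht : ¬ p ∣ orderOf t) : ∃ x : G, QuotientGroup.mk x = t ∧ ¬ p ∣ orderOf x := by
  obtain ⟨g, rfl⟩ := QuotientGroup.mk_surjective t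
  obtain ⟨a, b, hab, hcomm, ⟨k, hk⟩, hb, -, -⟩ := exists_isPPart_full hp.out g
  refine ⟨b, ?_, hb⟩
  have h1 : (QuotientGroup.mk a : G ⧸ P) = 1 := by
    have h2 : orderOf (QuotientGroup.mk a : G ⧸ P) ∣ p ^ k := by
      rw [← hk]
      exact orderOf_map_dvd (QuotientGroup.mk' P) a
    obtain ⟨j, -, hj⟩ := (Nat.dvd_prime_pow hp.out).mp h2
    apply isPPart_unique hp.out (g := (QuotientGroup.mk g : G ⧸ P)) _
      (isPPart_one_of_pRegular hp.out ht)
    refine ⟨QuotientGroup.mk b, ?_, ?_, ⟨j, hj⟩, ?_⟩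
    · rw [← QuotientGroup.mk_mul, hab]
    · show (QuotientGroup.mk a : G ⧸ P) * QuotientGroup.mk b = QuotientGroup.mk b * QuotientGroup.mk a
      rw [← QuotientGroup.mk_mul, ← QuotientGroup.mk_mul, hcomm.eq]
    · intro h
      exact hb (h.trans (orderOf_map_dvd (QuotientGroup.mk' P) b))
  rw [← hab, QuotientGroup.mk_mul, h1, one_mul]

theorem reg_map {P : Subgroup G} [P.Normal] {x : G} (hx : ¬ p ∣ orderOf x) :
    ¬ p ∣ orderOf (QuotientGroup.mk x : G ⧸ P) := fun h =>
  hx (h.trans (orderOf_map_dvd (QuotientGroup.mk' P) x))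

theorem reg_mem_cz {P : Subgroup G} [P.Normal]
    (hC : ∃ k : ℕ, (Subgroup.centralizer (P : Set G)).index = p ^ k) {x : G}
    (hx : ¬ p ∣ orderOf x) : x ∈ Subgroup.centralizer (P : Set G) := by
  obtain ⟨k, hk⟩ := hC
  rw [← QuotientGroup.eq_one_iff, ← orderOf_eq_one_iff]
  have h1 : orderOf (QuotientGroup.mk x : G ⧸ Subgroup.centralizer (P : Set G)) ∣ orderOf x :=
    orderOf_map_dvd (QuotientGroup.mk' _) x
  have h2 : orderOf (QuotientGroup.mk x : G ⧸ Subgroup.centralizer (P : Set G)) ∣ p ^ k := by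
    rw [← hk]; exact orderOf_dvd_natCard _
  exact Nat.eq_one_of_dvd_coprimes
    (Nat.Coprime.pow_right k ((Nat.Prime.coprime_iff_not_dvd hp.out).mpr hx).symm) h1 h2

theorem cent_map_eq {P : Subgroup G} [hPn : P.Normal] (hP : IsPGroup p P) {x : G}
    (hx : ¬ p ∣ orderOf x) (hxC : x ∈ Subgroup.centralizer (P : Set G)) :
    (Subgroup.centralizer ({x} : Set G)).map (QuotientGroup.mk' P) =
      Subgroup.centralizer ({(QuotientGroup.mk x : G ⧸ P)} : Set (G ⧸ P)) := by
  ext t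
  constructor
  · rintro ⟨z, hz, rfl⟩
    rw [SetLike.mem_coe, Subgroup.mem_centralizer_singleton_iff] at hz
    rw [Subgroup.mem_centralizer_singleton_iff]
    show (QuotientGroup.mk z : G ⧸ P) * QuotientGroup.mk x = QuotientGroup.mk x * QuotientGroup.mk z
    rw [← QuotientGroup.mk_mul, ← QuotientGroup.mk_mul, hz]
  · intro ht
    obtain ⟨z, rfl⟩ := QuotientGroup.mk_surjective t
    rw [Subgroup.mem_centralizer_singleton_iff, ← QuotientGroup.mk_mul, ← QuotientGroup.mk_mul,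
      QuotientGroup.eq] at ht
    refine ⟨z, ?_, rfl⟩
    -- `z x z⁻¹ x⁻¹ ∈ P`
    have h1 : z * x * z⁻¹ * x⁻¹ ∈ P := by
      have h2 := hPn.conj_mem _ (P.inv_mem ht) (x * z)
      have h3 : x * z * ((z * x)⁻¹ * (x * z))⁻¹ * (x * z)⁻¹ = z * x * z⁻¹ * x⁻¹ := by group
      rwa [h3] at h2
    have h4 : Commute (z * x * z⁻¹ * x⁻¹) x := Subgroup.mem_centralizer_iff.mp hxC _ h1
    have h5 : z * x * z⁻¹ * x⁻¹ = 1 := by
      apply eq_one_of_comm_reg (p := p) (x := x) _ h4 hx
      · have h6 : z * x * z⁻¹ * x⁻¹ * x = z * x * z⁻¹ := by group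
        rw [h6, ← MulAut.conj_apply, MulEquiv.orderOf_eq]
        exact hx
      · obtain ⟨k, hk⟩ := IsPGroup.iff_orderOf.mp hP ⟨_, h1⟩
        rw [← Subgroup.orderOf_coe] at hk
        exact ⟨k, hk⟩
    rw [SetLike.mem_coe, Subgroup.mem_centralizer_singleton_iff]
    have h6 := mul_inv_eq_one.mp h5
    exact mul_inv_eq_iff_eq_mul.mp h6

theorem centralChar_infl {P : Subgroup G} [hPn : P.Normal] (hP : IsPGroup p P)
    (χ : IrrCharacter (G ⧸ P)) {x : G}
    (hx : ¬ p ∣ orderOf x) (hxC : x ∈ Subgroup.centralizer (P : Set G)) :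
    centralChar (infl P χ : G → ℂ) x = centralChar (χ : G ⧸ P → ℂ) (QuotientGroup.mk x) := by
  have h1 : (Subgroup.centralizer ({(QuotientGroup.mk x : G ⧸ P)} : Set (G ⧸ P))).index =
      (Subgroup.centralizer ({x} : Set G)).index := by
    rw [← cent_map_eq hP hx hxC]
    apply Subgroup.index_map_eq _ (QuotientGroup.mk'_surjective P)
    rw [QuotientGroup.ker_mk']
    intro y hy
    rw [Subgroup.mem_centralizer_singleton_iff]
    exact Subgroup.mem_centralizer_iff.mp hxC y hy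
  unfold centralChar
  rw [h1, infl_apply, infl_apply]
  rfl

variable {P : Subgroup G} [hPn : P.Normal]

theorem sameBlock_infl_iff (hMp : IsPModular p M) (hP : IsPGroup p P)
    (hC : ∃ k : ℕ, (Subgroup.centralizer (P : Set G)).index = p ^ k)
    (χ ψ : IrrCharacter (G ⧸ P)) :
    SameBlock M (χ : G ⧸ P → ℂ) (ψ : G ⧸ P → ℂ) ↔
      SameBlock M (infl P χ : G → ℂ) (infl P ψ : G → ℂ) := by
  have hM : M.IsPrime := hMp.2.1.isPrime
  constructor
  · intro h
    apply sameBlock_of_regular hMp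
    intro x hx
    rw [centralChar_infl hP χ hx (reg_mem_cz hC hx), centralChar_infl hP ψ hx (reg_mem_cz hC hx)]
    exact h _
  · intro h
    apply sameBlock_of_regular hMp
    intro t ht
    obtain ⟨x, rfl, hx⟩ := exists_reg_lift ht
    rw [← centralChar_infl hP χ hx (reg_mem_cz hC hx), ← centralChar_infl hP ψ hx (reg_mem_cz hC hx)]
    exact h x

/-- Every block contains an inflated character. -/
theorem exists_infl_mem (hMp : IsPModular p M) (hP : IsPGroup p P)
    {B : Set (IrrCharacter G)} (hB : IsPBlock M B) :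
    ∃ χ : IrrCharacter (G ⧸ P), infl P χ ∈ B := by
  classical
  have hM : M.IsPrime := hMp.2.1.isPrime
  have hch : CharP (KF M) p := charP_KF hMp
  have hfG : Fintype G := Fintype.ofFinite _
  have hfP : Fintype P := Fintype.ofFinite _
  have hfI : Fintype (IrrCharacter G) := Fintype.ofFinite _
  by_contra hno
  push Not at hno
  have hker : ∀ χ ∈ B, ∃ n : P, (χ : G → ℂ) n ≠ (χ : G → ℂ) 1 := by
    intro χ hχ
    by_contra h
    push Not at h
    obtain ⟨ψ, hψ, hψ2⟩ := H27.exists_quotient_irr (N := P) χ.2 (fun n hn => h ⟨n, hn⟩)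
    apply hno ⟨ψ, hψ⟩
    have : infl P ⟨ψ, hψ⟩ = χ := by
      apply Subtype.ext
      funext g
      exact (hψ2 g).symm
    rw [this]; exact hχ
  have hsum : ∀ x : G, ∑ u : P, (EG M B).coeff (x * u) = 0 := by
    intro x
    have h1 : ∑ u : P, blockCoeff B (x * u) = 0 := by
      unfold blockCoeff
      rw [← Finset.mul_sum]
      simp only [fms]
      rw [Finset.sum_comm]
      rw [Finset.sum_eq_zero, mul_zero]
      intro χ hχ
      rw [Finset.mem_filter] at hχ
      rw [← Finset.mul_sum, ← map_sum]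
      have h2 := sum_coset_irr hPn χ.2 (hker χ hχ.2) x
      have h3 : ∑ u : P, (χ : G → ℂ) (x * u) = ∑ u : P, (χ : G → ℂ) ((u : G) * x) := by
        apply Finset.sum_nbij' (fun u : P => (⟨x * u * x⁻¹, hPn.conj_mem u u.2 x⟩ : P))
          (fun u : P => (⟨x⁻¹ * u * x⁻¹⁻¹, hPn.conj_mem u u.2 x⁻¹⟩ : P))
        · intro _ _; exact Finset.mem_univ _
        · intro _ _; exact Finset.mem_univ _
        · intro u _; apply Subtype.ext; simp only; group
        · intro u _; apply Subtype.ext; simp only; group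
        · intro u _
          simp only
          congr 1
          group
      rw [h3, h2, map_zero, mul_zero]
    have h2 := congrArg (rd M) h1
    rw [rd_sum _ _ (fun u _ => lr_blockCoeff hB _), rd_zero] at h2
    rw [← h2]
    apply Finset.sum_congr rfl
    intro u _
    exact coeff_EG B _
  have hnil := isNilpotent_of_coset_sum P hP (EG M B) hsum
  obtain ⟨n, hn⟩ := hnil
  have hid := (isBlk_EG hB).idem
  have h0 : EG M B = 0 := by
    have h3 : ∀ m : ℕ, EG M B ^ (m + 1) = EG M B := by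
      intro m
      induction m with
      | zero => rw [zero_add, pow_one]
      | succ m ih => rw [pow_succ, ih, hid]
    rw [← h3 n, pow_succ, hn, zero_mul]
  exact (isBlk_EG hB).ne_zero h0

end Gen

theorem st0941 {G : Type u} [Group G] [Finite G] (p : ℕ) [Fact p.Prime] (M : Ideal AlgInt)
    (hM : IsPModular p M) (P : Subgroup G) [P.Normal] (hP : IsPGroup p P)
    (hC : ∃ k : ℕ, (Subgroup.centralizer (P : Set G)).index = p ^ k) :
    (∀ χ ψ : IrrCharacter (G ⧸ P), SameBlock M (χ : G ⧸ P → ℂ) (ψ : G ⧸ P → ℂ) ↔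
      SameBlock M ((χ : G ⧸ P → ℂ) ∘ QuotientGroup.mk) ((ψ : G ⧸ P → ℂ) ∘ QuotientGroup.mk)) ∧
    ∀ B : Set (IrrCharacter G), IsPBlock M B → ∃ χ : IrrCharacter (G ⧸ P), ∃ θ ∈ B,
      (θ : G → ℂ) = (χ : G ⧸ P → ℂ) ∘ QuotientGroup.mk := by
  refine ⟨fun χ ψ => sameBlock_infl_iff hM hP hC χ ψ, fun B hB => ?_⟩
  obtain ⟨χ, hχ⟩ := exists_infl_mem (P := P) hM hP hB
  exact ⟨χ, infl P χ, hχ, rfl⟩

end Cfsg.Agent.H26
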