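import Mathlib
import Cfsg.Agent.H26.InfBlk
import Cfsg.Agent.H26.Kern
import Cfsg.Agent.H26.Princ

set_option autoImplicit false

/-!
# Inflation of the principal block: ranks
-/

namespace Cfsg.Agent.H26

open MonoidAlgebra MulAction Cfsg Cfsg.Agent.H11 Cfsg.Agent.H3
open scoped ComplexConjugate

universe u

section Gen

variable {G : Type u} [Group G] [Finite G] {p : ℕ} [hp : Fact p.Prime] {M : Ideal AlgInt}
  {P : Subgroup G} [hPn : P.Normal]

theorem eq_of_mk_eq (hP : IsPGroup p P)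
    (hC : ∃ k : ℕ, (Subgroup.centralizer (P : Set G)).index = p ^ k) {x y : G}
    (hx : ¬ p ∣ orderOf x) (hy : ¬ p ∣ orderOf y)
    (h : (QuotientGroup.mk x : G ⧸ P) = QuotientGroup.mk y) : x = y := by
  have h1 : x * y⁻¹ ∈ P := by
    rw [QuotientGroup.eq] at h
    have h2 := hPn.conj_mem _ (P.inv_mem h) x
    have h3 : x * (x⁻¹ * y)⁻¹ * x⁻¹ = x * y⁻¹ := by group
    rwa [h3] at h2
  have hc : Commute (x * y⁻¹) y := Subgroup.mem_centralizer_iff.mp (reg_mem_cz hC hy) _ h1
  have h2 : x * y⁻¹ = 1 := by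
    apply eq_one_of_comm_reg (p := p) (x := y) _ hc hy
    · rw [inv_mul_cancel_right]; exact hx
    · obtain ⟨k, hk⟩ := IsPGroup.iff_orderOf.mp hP ⟨_, h1⟩
      rw [← Subgroup.orderOf_coe] at hk
      exact ⟨k, hk⟩
  exact mul_inv_eq_one.mp h2

open Classical in
/-- deflation of functions on the `p`-regular elements -/
noncomputable def defl (p : ℕ) [Fact p.Prime] (P : Subgroup G) [P.Normal] (f : G → ℂ) : G ⧸ P → ℂ :=
  fun t => if h : ∃ x : G, QuotientGroup.mk x = t ∧ ¬ p ∣ orderOf x then f h.choose else 0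

theorem defl_mk (hP : IsPGroup p P)
    (hC : ∃ k : ℕ, (Subgroup.centralizer (P : Set G)).index = p ^ k) (f : G → ℂ) {x : G}
    (hx : ¬ p ∣ orderOf x) : defl p P f (QuotientGroup.mk x) = f x := by
  have h : ∃ y : G, (QuotientGroup.mk y : G ⧸ P) = QuotientGroup.mk x ∧ ¬ p ∣ orderOf y :=
    ⟨x, rfl, hx⟩
  unfold defl
  rw [dif_pos h]
  congr 1
  exact eq_of_mk_eq hP hC h.choose_spec.2 hx h.choose_spec.1

theorem orderOf_cj (g x : G) : orderOf (g * x * g⁻¹) = orderOf x := by
  rw [← MulAut.conj_apply, MulEquiv.orderOf_eq]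

theorem defl_classFun (hP : IsPGroup p P)
    (hC : ∃ k : ℕ, (Subgroup.centralizer (P : Set G)).index = p ^ k) {f : G → ℂ}
    (hf : IsClassFunction G f) : IsClassFunction (G ⧸ P) (defl p P f) := by
  intro t s
  obtain ⟨g, rfl⟩ := QuotientGroup.mk_surjective s
  by_cases h : ∃ x : G, QuotientGroup.mk x = t ∧ ¬ p ∣ orderOf x
  · obtain ⟨x, rfl, hx⟩ := h
    have h2 : ¬ p ∣ orderOf (g * x * g⁻¹) := by rwa [orderOf_cj]
    rw [← QuotientGroup.mk_inv, ← QuotientGroup.mk_mul, ← QuotientGroup.mk_mul,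
      defl_mk hP hC f h2, defl_mk hP hC f hx]
    exact hf x g
  · have h' : ¬ ∃ x : G, (QuotientGroup.mk x : G ⧸ P) =
        QuotientGroup.mk g * t * (QuotientGroup.mk g)⁻¹ ∧ ¬ p ∣ orderOf x := by
      rintro ⟨x, hx, hx2⟩
      apply h
      refine ⟨g⁻¹ * x * g⁻¹⁻¹, ?_, by rwa [orderOf_cj]⟩
      rw [inv_inv, QuotientGroup.mk_mul, QuotientGroup.mk_mul, hx, QuotientGroup.mk_inv]
      group
    unfold defl
    rw [dif_neg h, dif_neg h']

theorem mem_principal_infl (hMp : IsPModular p M) (hP : IsPGroup p P)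
    (hC : ∃ k : ℕ, (Subgroup.centralizer (P : Set G)).index = p ^ k)
    (ψ : IrrCharacter (G ⧸ P)) :
    ψ ∈ principalBlock M (G ⧸ P) ↔ infl P ψ ∈ principalBlock M G :=
  sameBlock_infl_iff hMp hP hC ⟨fun _ => 1, isIrr_one⟩ ψ

theorem reg_expand (hMp : IsPModular p M) (hP : IsPGroup p P)
    (hC : ∃ k : ℕ, (Subgroup.centralizer (P : Set G)).index = p ^ k)
    {B : Set (IrrCharacter G)} (hB : IsPBlock M B) {χ : IrrCharacter G} (hχ : χ ∈ B) :
    pRegularPart p (χ : G → ℂ) ∈ Submodule.span ℂ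
      ((fun ψ : IrrCharacter (G ⧸ P) => pRegularPart p (infl P ψ : G → ℂ)) ''
        {ψ | infl P ψ ∈ B}) := by
  classical
  have hfG : Fintype G := Fintype.ofFinite _
  have hfQ : Fintype (G ⧸ P) := Fintype.ofFinite _
  have hfI : Fintype (IrrCharacter (G ⧸ P)) := Fintype.ofFinite _
  have h1 := classFun_expand_apply (defl_classFun hP hC (irr_classFun χ.2))
  obtain ⟨c, hc⟩ : ∃ c : IrrCharacter (G ⧸ P) → ℂ, ∀ ψ, c ψ =
    classInner (defl p P (χ : G → ℂ)) (ψ : G ⧸ P → ℂ) := ⟨_, fun _ => rfl⟩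
  have h2 : ∀ x : G, ¬ p ∣ orderOf x → (χ : G → ℂ) x =
      ∑ ψ : IrrCharacter (G ⧸ P), c ψ * (infl P ψ : G → ℂ) x := by
    intro x hx
    rw [← defl_mk hP hC (χ : G → ℂ) hx, h1]
    apply Finset.sum_congr rfl
    intro ψ _
    rw [hc]
    rfl
  have h3 : pRegularPart p (χ : G → ℂ) = ∑ ψ : IrrCharacter (G ⧸ P),
      (if infl P ψ ∈ B then c ψ else 0) • pRegularPart p (infl P ψ : G → ℂ) := by
    funext x
    rw [Finset.sum_apply]
    by_cases hx : p ∣ orderOf x
    · rw [pr_sing hx]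
      symm
      apply Finset.sum_eq_zero
      intro ψ _
      rw [Pi.smul_apply, pr_sing hx, smul_zero]
    · rw [pr_reg hx]
      have h4 : blockPart B (χ : G → ℂ) x =
          blockPart B (fun y => ∑ ψ : IrrCharacter (G ⧸ P), c ψ * (infl P ψ : G → ℂ) y) x :=
        blockPart_congr_reg hMp hB h2 hx
      have h5 : ∀ θ : IrrCharacter G, blockPart B (θ : G → ℂ) x =
          if θ ∈ B then (θ : G → ℂ) x else 0 := by
        intro θ
        rw [blockPart_eq_actFun B (irr_classFun θ.2), actFun_char]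
      have h6 : blockPart B (fun y => ∑ ψ : IrrCharacter (G ⧸ P), c ψ * (infl P ψ : G → ℂ) y) x =
          ∑ ψ : IrrCharacter (G ⧸ P), c ψ * blockPart B (infl P ψ : G → ℂ) x := by
        simp only [blockPart_eq_kr, Finset.mul_sum, Finset.sum_mul]
        rw [Finset.sum_comm]
        apply Finset.sum_congr rfl
        intro ψ _
        apply Finset.sum_congr rfl
        intro y _
        ring
      rw [h5, if_pos hχ] at h4
      rw [h4, h6]
      apply Finset.sum_congr rfl
      intro ψ _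
      rw [Pi.smul_apply, pr_reg hx, h5]
      split_ifs with h7
      · rfl
      · rw [mul_zero, smul_eq_mul, zero_mul]
  rw [h3]
  apply Submodule.sum_mem
  intro ψ _
  split_ifs with h7
  · exact Submodule.smul_mem _ _ (Submodule.subset_span ⟨ψ, h7, rfl⟩)
  · rw [zero_smul]; exact Submodule.zero_mem _

/-- ranks are preserved by inflation -/
theorem blockRank_infl (hMp : IsPModular p M) (hP : IsPGroup p P)
    (hC : ∃ k : ℕ, (Subgroup.centralizer (P : Set G)).index = p ^ k)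
    {B : Set (IrrCharacter G)} (hB : IsPBlock M B) {B' : Set (IrrCharacter (G ⧸ P))}
    (hBB : ∀ ψ, ψ ∈ B' ↔ infl P ψ ∈ B) : blockRank p B = blockRank p B' := by
  classical
  let T : (G ⧸ P → ℂ) →ₗ[ℂ] (G → ℂ) :=
    { toFun := fun f => pRegularPart p (fun g => f (QuotientGroup.mk g))
      map_add' := fun f g => by rw [← pr_add]; rfl
      map_smul' := fun c f => by rw [RingHom.id_apply, ← pr_smul]; rfl }
  have hT : ∀ ψ : IrrCharacter (G ⧸ P), T (pRegularPart p (ψ : G ⧸ P → ℂ)) =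
      pRegularPart p (infl P ψ : G → ℂ) := by
    intro ψ
    funext x
    show pRegularPart p (fun g => pRegularPart p (ψ : G ⧸ P → ℂ) (QuotientGroup.mk g)) x = _
    by_cases hx : p ∣ orderOf x
    · rw [pr_sing hx, pr_sing hx]
    · rw [pr_reg hx, pr_reg hx, pr_reg (reg_map hx)]
      rfl
  set W := Submodule.span ℂ ((fun χ : IrrCharacter (G ⧸ P) =>
    pRegularPart p (χ : G ⧸ P → ℂ)) '' B') with hW
  have hmap : Submodule.span ℂ ((fun χ : IrrCharacter G => pRegularPart p (χ : G → ℂ)) '' B) =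
      W.map T := by
    rw [hW, Submodule.map_span]
    apply le_antisymm
    · rw [Submodule.span_le]
      rintro _ ⟨χ, hχ, rfl⟩
      have h1 := reg_expand (P := P) hMp hP hC hB hχ
      refine Submodule.span_mono ?_ h1
      rintro _ ⟨ψ, hψ, rfl⟩
      exact ⟨pRegularPart p (ψ : G ⧸ P → ℂ), ⟨ψ, (hBB ψ).mpr hψ, rfl⟩, hT ψ⟩
    · rw [Submodule.span_le]
      rintro _ ⟨_, ⟨ψ, hψ, rfl⟩, rfl⟩
      apply Submodule.subset_span
      exact ⟨infl P ψ, (hBB ψ).mp hψ, (hT ψ).symm⟩
  have hsing : ∀ f ∈ W, ∀ t : G ⧸ P, p ∣ orderOf t → f t = 0 := by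
    intro f hf
    rw [hW] at hf
    induction hf using Submodule.span_induction with
    | mem f hf =>
      obtain ⟨ψ, hψ, rfl⟩ := hf
      intro t ht
      exact pr_sing ht
    | zero => intro t _; rfl
    | add f g _ _ h1 h2 =>
      intro t ht
      rw [Pi.add_apply, h1 t ht, h2 t ht, add_zero]
    | smul c f _ h1 =>
      intro t ht
      rw [Pi.smul_apply, h1 t ht, smul_zero]
  have hinj : Function.Injective (T.domRestrict W) := by
    rw [← LinearMap.ker_eq_bot, LinearMap.ker_eq_bot']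
    rintro ⟨f, hf⟩ h
    apply Subtype.ext
    funext t
    show f t = 0
    by_cases ht : p ∣ orderOf t
    · exact hsing f hf t ht
    · obtain ⟨x, rfl, hx⟩ := exists_reg_lift ht
      have h2 := congrFun h x
      change pRegularPart p (fun g => f (QuotientGroup.mk g)) x = 0 at h2
      rwa [pr_reg hx] at h2
  unfold blockRank
  rw [hmap, ← LinearMap.range_domRestrict, LinearMap.finrank_range_of_inj hinj]

end Gen

theorem st4571 {G : Type u} [Group G] [Finite G] (p : ℕ) [Fact p.Prime] (M : Ideal AlgInt)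
    (hM : IsPModular p M) (Q : Subgroup G) [Q.Normal] (hQ : IsPGroup p Q)
    (hsup : Q ⊔ Subgroup.centralizer (Q : Set G) = ⊤) :
    blockRank p (principalBlock M G) = blockRank p (principalBlock M (G ⧸ Q)) := by
  have hpr : M.IsPrime := hM.2.1.isPrime
  have hC : ∃ k : ℕ, (Subgroup.centralizer (Q : Set G)).index = p ^ k := by
    obtain ⟨n, hn⟩ := IsPGroup.iff_card.mp hQ
    have h1 : (Subgroup.centralizer (Q : Set G)).index ∣ p ^ n := by
      rw [← hn, ← Subgroup.relIndex_top_right, ← hsup, sup_comm, Subgroup.relIndex_sup_left]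
      exact Subgroup.relIndex_dvd_card _ _
    obtain ⟨j, -, hj⟩ := (Nat.dvd_prime_pow Fact.out).mp h1
    exact ⟨j, hj⟩
  exact blockRank_infl hM hQ hC (isPBlock_principal G) (fun ψ => mem_principal_infl hM hQ hC ψ)

end Cfsg.Agent.H26
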