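import Mathlib
import Cfsg.Agent.H26.InfBlk2
import Cfsg.Agent.H26.OpCon2

set_option autoImplicit false

/-!
# Defect groups and blocks of factor groups
-/

namespace Cfsg.Agent.H26

open MonoidAlgebra MulAction Cfsg Cfsg.Agent.H11 Cfsg.Agent.H3
open scoped ComplexConjugate

universe u

section Gen

variable {G : Type u} [Group G] [Finite G] {p : ℕ} [hp : Fact p.Prime] {M : Ideal AlgInt}
  {N : Subgroup G} [hNn : N.Normal]

theorem cg_map_mk (P : Subgroup G) (g : G) :
    (cg P g).map (QuotientGroup.mk' N) = cg (P.map (QuotientGroup.mk' N)) (QuotientGroup.mk g) := by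
  ext t
  constructor
  · rintro ⟨_, ⟨y, hy, rfl⟩, rfl⟩
    exact ⟨QuotientGroup.mk' N y, ⟨y, hy, rfl⟩, rfl⟩
  · rintro ⟨_, ⟨y, hy, rfl⟩, rfl⟩
    exact ⟨g * y * g⁻¹, ⟨y, hy, rfl⟩, rfl⟩

theorem isDefectGroup_cg (hMp : IsPModular p M) {B : Set (IrrCharacter G)} (hB : IsPBlock M B)
    {P : Subgroup G} (hP : IsDefectGroup p M B P) (g : G) : IsDefectGroup p M B (cg P g) := by
  have hM : M.IsPrime := hMp.2.1.isPrime
  have hch : CharP (KF M) p := charP_KF hMp
  rw [isDefectGroup_iff_EG hB] at hP ⊢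
  exact hP.conj (EG_isFx B ⊤) (Subgroup.mem_top g)

theorem isDefectGroup_conj2 (hMp : IsPModular p M) {B : Set (IrrCharacter G)} (hB : IsPBlock M B)
    {P P' : Subgroup G} (hP : IsDefectGroup p M B P) (hP' : IsDefectGroup p M B P') :
    ∃ g : G, cg P g = P' := by
  have hM : M.IsPrime := hMp.2.1.isPrime
  have hch : CharP (KF M) p := charP_KF hMp
  rw [isDefectGroup_iff_EG hB] at hP hP'
  obtain ⟨g, -, hg⟩ := hP.unique hP'
  exact ⟨g, hg⟩

/-- the central character of an inflated character. -/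
theorem centralChar_infl' (χ : IrrCharacter (G ⧸ N)) (x : G) :
    centralChar (infl N χ : G → ℂ) x =
      ((Subgroup.centralizer ({x} : Set G)).relIndex ((Subgroup.centralizer
        ({(QuotientGroup.mk x : G ⧸ N)} : Set (G ⧸ N))).comap (QuotientGroup.mk' N)) : ℂ) *
      centralChar (χ : G ⧸ N → ℂ) (QuotientGroup.mk x) := by
  have h1 : Subgroup.centralizer ({x} : Set G) ≤ (Subgroup.centralizer
        ({(QuotientGroup.mk x : G ⧸ N)} : Set (G ⧸ N))).comap (QuotientGroup.mk' N) := by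
    intro z hz
    rw [Subgroup.mem_centralizer_singleton_iff] at hz
    rw [Subgroup.mem_comap, Subgroup.mem_centralizer_singleton_iff]
    show (QuotientGroup.mk z : G ⧸ N) * QuotientGroup.mk x = QuotientGroup.mk x * QuotientGroup.mk z
    rw [← QuotientGroup.mk_mul, ← QuotientGroup.mk_mul, hz]
  have h2 := Subgroup.relIndex_mul_index h1
  rw [Subgroup.index_comap_of_surjective _ (QuotientGroup.mk'_surjective N)] at h2
  unfold centralChar
  rw [← h2, infl_apply, infl_apply]
  push_cast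
  rw [QuotientGroup.mk_one]
  ring

theorem sameBlock_infl (hM : M.IsPrime) {χ ψ : IrrCharacter (G ⧸ N)}
    (h : SameBlock M (χ : G ⧸ N → ℂ) (ψ : G ⧸ N → ℂ)) :
    SameBlock M (infl N χ : G → ℂ) (infl N ψ : G → ℂ) := by
  intro x
  have hfG : Fintype G := Fintype.ofFinite _
  have hfQ : Fintype (G ⧸ N) := Fintype.ofFinite _
  rw [← rd_eq_iff (lr_centralChar (infl N χ).2 _) (lr_centralChar (infl N ψ).2 _),
    centralChar_infl', centralChar_infl', rd_mul (lr_natCast M _) (lr_centralChar χ.2 _),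
    rd_mul (lr_natCast M _) (lr_centralChar ψ.2 _),
    (rd_eq_iff (lr_centralChar χ.2 _) (lr_centralChar ψ.2 _)).mpr (h _)]

/-- the sum over a coset of the coefficients -/
theorem sum_coset_blockCoeff (B : Set (IrrCharacter G)) [Fintype N] (x : G) :
    ∑ u : N, blockCoeff B (x * u) = blockCoeff {ψ | infl N ψ ∈ B} (QuotientGroup.mk x : G ⧸ N) := by
  classical
  have hfG : Fintype G := Fintype.ofFinite _
  have hfQ : Fintype (G ⧸ N) := Fintype.ofFinite _
  have hfI : Fintype (IrrCharacter G) := Fintype.ofFinite _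
  have hfI' : Fintype (IrrCharacter (G ⧸ N)) := Fintype.ofFinite _
  have hN0 : (Nat.card N : ℂ) ≠ 0 := Nat.cast_ne_zero.mpr Nat.card_pos.ne'
  have hcard : (Nat.card G : ℂ) = (Nat.card N : ℂ) * (Nat.card (G ⧸ N) : ℂ) := by
    rw [← Nat.cast_mul, mul_comm, ← Subgroup.card_eq_card_quotient_mul_card_subgroup]
  unfold blockCoeff
  rw [← Finset.mul_sum]
  simp only [fms]
  rw [Finset.sum_comm, hcard, mul_inv, mul_comm (Nat.card N : ℂ)⁻¹, mul_assoc]
  congr 1
  have key : ∀ χ : IrrCharacter G, ∑ u : N, (χ : G → ℂ) 1 * conj ((χ : G → ℂ) (x * u)) =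
      (Nat.card N : ℂ) * ∑ ψ : IrrCharacter (G ⧸ N), if infl N ψ = χ then
        (χ : G → ℂ) 1 * conj ((χ : G → ℂ) x) else 0 := by
    intro χ
    by_cases h : ∀ n : N, (χ : G → ℂ) n = (χ : G → ℂ) 1
    · obtain ⟨ψ, hψ, hψ2⟩ := H27.exists_quotient_irr (N := N) χ.2 (fun n hn => h ⟨n, hn⟩)
      have h1 : infl N ⟨ψ, hψ⟩ = χ := by
        apply Subtype.ext
        funext g
        exact (hψ2 g).symm
      rw [Finset.sum_eq_single (⟨ψ, hψ⟩ : IrrCharacter (G ⧸ N))]
      · rw [if_pos h1]
        have h2 : ∀ u : N, (χ : G → ℂ) 1 * conj ((χ : G → ℂ) (x * u)) =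
            (χ : G → ℂ) 1 * conj ((χ : G → ℂ) x) := by
          intro u
          have h3 : (QuotientGroup.mk (x * (u : G)) : G ⧸ N) = QuotientGroup.mk x := by
            rw [QuotientGroup.eq, mul_inv_rev, mul_assoc, inv_mul_cancel, mul_one]
            exact N.inv_mem u.2
          rw [hψ2 (x * u), hψ2 x, h3]
        rw [Finset.sum_congr rfl (fun u _ => h2 u), Finset.sum_const, Finset.card_univ,
          nsmul_eq_mul, Nat.card_eq_fintype_card]
      · intro ψ' _ hne
        rw [if_neg]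
        intro h3
        apply hne
        apply Subtype.ext
        funext t
        obtain ⟨g, rfl⟩ := QuotientGroup.mk_surjective t
        have h4 := congrArg (fun θ : IrrCharacter G => (θ : G → ℂ) g) (h3.trans h1.symm)
        exact h4
      · intro h3; exact absurd (Finset.mem_univ _) h3
    · push Not at h
      have h2 := sum_coset_irr hNn χ.2 h x
      have h3 : ∑ u : N, (χ : G → ℂ) (x * u) = ∑ u : N, (χ : G → ℂ) ((u : G) * x) := by
        apply Finset.sum_nbij' (fun u : N => (⟨x * u * x⁻¹, hNn.conj_mem u u.2 x⟩ : N))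
          (fun u : N => (⟨x⁻¹ * u * x⁻¹⁻¹, hNn.conj_mem u u.2 x⁻¹⟩ : N))
        · intro _ _; exact Finset.mem_univ _
        · intro _ _; exact Finset.mem_univ _
        · intro u _; apply Subtype.ext; simp only; group
        · intro u _; apply Subtype.ext; simp only; group
        · intro u _
          simp only
          congr 1
          group
      rw [← Finset.mul_sum, ← map_sum, h3, h2, map_zero, mul_zero, Finset.sum_eq_zero, mul_zero]
      intro ψ _
      rw [if_neg]
      rintro rfl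
      obtain ⟨n, hn⟩ := h
      apply hn
      rw [infl_apply, infl_apply, (QuotientGroup.eq_one_iff (n : G)).mpr n.2, QuotientGroup.mk_one]
  rw [Finset.sum_congr rfl (fun χ _ => key χ), ← Finset.mul_sum, ← mul_assoc,
    inv_mul_cancel₀ hN0, one_mul, Finset.sum_comm, Finset.sum_filter]
  apply Finset.sum_congr rfl
  intro ψ _
  by_cases h : infl N ψ ∈ B
  · rw [if_pos (by exact h), Finset.sum_eq_single (infl N ψ)]
    · rw [if_pos rfl, infl_apply, infl_apply, QuotientGroup.mk_one]
    · intro χ _ hne; rw [if_neg (fun h' => hne h'.symm)]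
    · intro h'; exact absurd (Finset.mem_filter.mpr ⟨Finset.mem_univ _, h⟩) h'
  · rw [if_neg (by exact h), Finset.sum_eq_zero]
    intro χ hχ
    rw [Finset.mem_filter] at hχ
    rw [if_neg]
    rintro rfl
    exact h hχ.2

/-- a union of blocks with a nonzero coefficient contains a block with a nonzero coefficient. -/
theorem exists_block_coeff [hM : M.IsPrime] {U : Set (IrrCharacter G)}
    (hU : ∀ χ ∈ U, ∀ ψ : IrrCharacter G, SameBlock M (χ : G → ℂ) (ψ : G → ℂ) → ψ ∈ U) {x : G}
    (hx : ¬ MemLocalIdeal M (blockCoeff U x)) :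
    ∃ B : Set (IrrCharacter G), IsPBlock M B ∧ B ⊆ U ∧ ¬ MemLocalIdeal M (blockCoeff B x) := by
  classical
  by_contra hno
  push Not at hno
  have hfG : Fintype G := Fintype.ofFinite _
  have hfI : Fintype (IrrCharacter G) := Fintype.ofFinite _
  apply hx
  have hlr : ∀ χ : IrrCharacter G, MemLocalRing M (blockCoeff (blockOf M (χ : G → ℂ)) x) :=
    fun χ => lr_blockCoeff ⟨χ, rfl⟩ x
  have h1 : blockCoeff U x = ∑ b ∈ (Finset.univ.filter (· ∈ U)).image
      (fun χ : IrrCharacter G => blockOf M (χ : G → ℂ)), blockCoeff b x := by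
    unfold blockCoeff
    rw [← Finset.mul_sum, fms]
    congr 1
    rw [← Finset.sum_fiberwise_of_maps_to (g := fun χ : IrrCharacter G => blockOf M (χ : G → ℂ))
      (t := (Finset.univ.filter (· ∈ U)).image (fun χ : IrrCharacter G => blockOf M (χ : G → ℂ)))
      (fun χ hχ => Finset.mem_image_of_mem _ hχ)]
    apply Finset.sum_congr rfl
    intro b hb
    obtain ⟨χ, hχ, rfl⟩ := Finset.mem_image.mp hb
    rw [fms]
    apply Finset.sum_congr _ (fun _ _ => rfl)
    ext ψ
    simp only [Finset.mem_filter, Finset.mem_univ, true_and] at hχ ⊢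
    constructor
    · rintro ⟨-, h⟩
      rw [← h]
      exact mem_blockOf_self ψ
    · intro h
      exact ⟨hU χ hχ ψ h, (isPBlock_eq_blockOf ⟨χ, rfl⟩ h).symm⟩
  rw [h1, ← rd_eq_zero_iff, rd_sum]
  · apply Finset.sum_eq_zero
    intro b hb
    obtain ⟨χ, hχ, rfl⟩ := Finset.mem_image.mp hb
    rw [rd_eq_zero_iff (hlr χ)]
    apply hno _ ⟨χ, rfl⟩
    intro ψ hψ
    rw [Finset.mem_filter] at hχ
    exact hU χ hχ.2 ψ hψ
  · intro b hb
    obtain ⟨χ, hχ, rfl⟩ := Finset.mem_image.mp hb
    exact hlr χ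
  · apply lr_sum
    intro b hb
    obtain ⟨χ, hχ, rfl⟩ := Finset.mem_image.mp hb
    exact hlr χ

end Gen

end Cfsg.Agent.H26
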