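import Mathlib
import Cfsg.Agent.H26.Princ
import Cfsg.Agent.H26.Fong1
import Cfsg.Agent.H26.StabP
import Cfsg.Agent.H26.Alpha
import Cfsg.Agent.H26.InfBlk
import Cfsg.Agent.H11.Kulshammer

set_option autoImplicit false

/-!
# The principal block part of characters induced from a subgroup containing a Sylow subgroup
-/

namespace Cfsg.Agent.H26

open MonoidAlgebra MulAction Cfsg Cfsg.Agent.H11 Cfsg.Agent.H3
open scoped ComplexConjugate

universe u

section Gen

theorem inner_ne_zero_trans {G : Type u} [Group G] [Finite G] {N T : Subgroup G} [Fintype N]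
    [Fintype T] (hNT : N ≤ T) (χ : IrrCharacter G) {θ : IrrCharacter N} {ψ : IrrCharacter T}
    (h1 : classInner (fun t : T => (χ : G → ℂ) t) (ψ : T → ℂ) ≠ 0)
    (h2 : classInner (fun n : N => (ψ : T → ℂ) ⟨(n : G), hNT n.2⟩) (θ : N → ℂ) ≠ 0) :
    classInner (fun n : N => (χ : G → ℂ) n) (θ : N → ℂ) ≠ 0 := by
  classical
  have hrest := isChar_restrict T (irr_isChar χ.2)
  have : Fintype (IrrCharacter T) := Fintype.ofFinite _
  have hexp := classFun_expand_apply (char_classFun hrest)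
  have hc : ∀ ξ : IrrCharacter T, ∃ n : ℕ,
      classInner (fun t : T => (χ : G → ℂ) t) (ξ : T → ℂ) = n := fun ξ =>
    classInner_char_nat hrest (irr_isChar ξ.2)
  choose c hc using hc
  have hd : ∀ ξ : IrrCharacter T, ∃ n : ℕ,
      classInner (fun n : N => (ξ : T → ℂ) ⟨(n : G), hNT n.2⟩) (θ : N → ℂ) = n := by
    intro ξ
    exact classInner_char_nat (isChar_comp (irr_isChar ξ.2) (Subgroup.inclusion hNT))
      (irr_isChar θ.2)
  choose d hd using hd
  have h3 : (fun n : N => (χ : G → ℂ) n) = fun n : N =>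
      ∑ ξ : IrrCharacter T, (c ξ : ℂ) * (ξ : T → ℂ) ⟨(n : G), hNT n.2⟩ := by
    funext n
    rw [Finset.sum_congr rfl (fun ξ _ => by rw [← hc ξ])]
    exact hexp ⟨(n : G), hNT n.2⟩
  have h4 : classInner (fun n : N => (χ : G → ℂ) n) (θ : N → ℂ) =
      ∑ ξ : IrrCharacter T, (c ξ : ℂ) * (d ξ : ℂ) := by
    rw [h3]
    simp only [← hd]
    unfold classInner
    simp only [Finset.sum_mul]
    rw [Finset.sum_comm, Finset.mul_sum]
    apply Finset.sum_congr rfl
    intro ξ _
    rw [Finset.mul_sum, Finset.mul_sum, Finset.mul_sum]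
    apply Finset.sum_congr rfl
    intro n _
    ring
  rw [h4]
  have h5 : (∑ ξ : IrrCharacter T, (c ξ : ℂ) * (d ξ : ℂ)) =
      ((∑ ξ : IrrCharacter T, c ξ * d ξ : ℕ) : ℂ) := by push_cast; rfl
  rw [h5, Nat.cast_ne_zero]
  intro h6
  have h7 := (Finset.sum_eq_zero_iff.mp h6) ψ (Finset.mem_univ _)
  rw [hc ψ, Nat.cast_ne_zero] at h1
  rw [hd ψ, Nat.cast_ne_zero] at h2
  exact (mul_ne_zero h1 h2) h7

variable {G : Type u} [Group G] [Fintype G] {p : ℕ} [hp : Fact p.Prime]

open Classical in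
theorem sum_conj_eq {k : Type*} [Field k] [CharP k p] {P : Subgroup G} (hP : IsPGroup p P)
    (F : G → k) (hF : ∀ u ∈ P, ∀ x, F (u * x * u⁻¹) = F x) :
    ∑ x, F x = ∑ x ∈ Finset.univ.filter (· ∈ cz P), F x := by
  let act : MulAction P G := conjAct P
  have h1 := sum_eq_sum_fixedPoints hP (α := G) (A := k)
    (fun c => by rw [nsmul_eq_mul, CharP.cast_eq_zero k p, zero_mul])
    F (fun u g => hF u u.2 g)
  rw [h1]
  apply Finset.sum_congr _ (fun _ _ => rfl)
  ext g
  rw [Finset.mem_filter, Finset.mem_filter]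
  apply and_congr_right
  intro _
  rw [Subgroup.mem_centralizer_iff]
  constructor
  · intro h y hy
    have h3 : y * g * y⁻¹ = g := h ⟨y, hy⟩
    calc y * g = y * g * y⁻¹ * y := by group
      _ = g * y := by rw [h3]
  · intro h u
    change (u : G) * g * (u : G)⁻¹ = g
    rw [h u u.2]; group

theorem ord_cj (g x : G) : orderOf (g * x * g⁻¹) = orderOf x := by
  rw [← MulAut.conj_apply, MulEquiv.orderOf_eq]

omit [Fintype G] in
theorem mem_sylow_of_cz [Finite G] (P : Sylow p G) {x : G} (hx : x ∈ cz (P : Subgroup G))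
    (hxp : ∃ k : ℕ, orderOf x = p ^ k) : x ∈ (P : Subgroup G) := by
  obtain ⟨k, hk⟩ := hxp
  have h1 : IsPGroup p (Subgroup.zpowers x) := IsPGroup.of_card (n := k) (by
    rw [Nat.card_zpowers, hk])
  have h2 := h1.inf_normalizer_sylow P
  have h3 : x ∈ Subgroup.zpowers x ⊓ Subgroup.normalizer (P : Set G) :=
    ⟨Subgroup.mem_zpowers x, centralizer_le_normalizer' _ hx⟩
  rw [h2] at h3
  exact h3.2

/-- number of factorizations of an element centralizing a Sylow subgroup -/
theorem card_fact_eq {k : Type*} [Field k] [CharP k p] (P : Sylow p G) {g : G}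
    (hg : g ∈ cz (P : Subgroup G)) (hreg : ¬ p ∣ orderOf g) :
    (Nat.card {xy : G × G // (∃ k : ℕ, orderOf xy.1 = p ^ k) ∧ ¬ p ∣ orderOf xy.2 ∧
        xy.1 * xy.2 = g} : k) = 1 := by
  classical
  have h1 : Nat.card {xy : G × G // (∃ k : ℕ, orderOf xy.1 = p ^ k) ∧ ¬ p ∣ orderOf xy.2 ∧
        xy.1 * xy.2 = g} =
      Nat.card {x : G // (∃ k : ℕ, orderOf x = p ^ k) ∧ ¬ p ∣ orderOf (x⁻¹ * g)} := by
    apply Nat.card_congr
    exact
      { toFun := fun q => ⟨q.1.1, q.2.1, by
          have h := q.2.2.2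
          have : q.1.1⁻¹ * g = q.1.2 := by
            calc q.1.1⁻¹ * g = q.1.1⁻¹ * (q.1.1 * q.1.2) := congrArg _ h.symm
              _ = q.1.2 := by group
          rw [this]; exact q.2.2.1⟩
        invFun := fun x => ⟨(x, (x : G)⁻¹ * g), x.2.1, x.2.2, by
          show (x : G) * ((x : G)⁻¹ * g) = g
          group⟩
        left_inv := by
          rintro ⟨⟨a, b⟩, h1, h2, h3⟩
          apply Subtype.ext
          simp only at h3 ⊢
          rw [← h3]; simp
        right_inv := fun x => rfl }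
  have h2 : (Nat.card {x : G // (∃ k : ℕ, orderOf x = p ^ k) ∧ ¬ p ∣ orderOf (x⁻¹ * g)} : k) =
      ∑ x : G, if ((∃ k : ℕ, orderOf x = p ^ k) ∧ ¬ p ∣ orderOf (x⁻¹ * g)) then (1 : k) else 0 := by
    rw [Nat.card_eq_fintype_card, Fintype.card_subtype, Finset.card_filter]
    push_cast
    rfl
  rw [h1, h2, sum_conj_eq (P := (P : Subgroup G)) P.2]
  · rw [Finset.sum_eq_single (1 : G)]
    · rw [if_pos]
      refine ⟨⟨0, by rw [orderOf_one, pow_zero]⟩, ?_⟩
      rw [inv_one, one_mul]
      exact hreg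
    · intro x hx hne
      rw [if_neg]
      rintro ⟨h3, h4⟩
      apply hne
      rw [Finset.mem_filter] at hx
      have hxP := mem_sylow_of_cz P hx.2 h3
      have hc : Commute x g := Subgroup.mem_centralizer_iff.mp hg x hxP
      apply eq_one_of_comm_reg (p := p) (x := x⁻¹ * g) h3 _ h4
      · rw [mul_inv_cancel_left]; exact hreg
      · exact (Commute.refl x).inv_right.mul_right hc
    · intro h
      exact absurd (Finset.mem_filter.mpr ⟨Finset.mem_univ _, Subgroup.one_mem _⟩) h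
  · intro u hu x
    have h3 : (u * x * u⁻¹)⁻¹ * g = u * (x⁻¹ * g) * u⁻¹ := by
      have hc := Subgroup.mem_centralizer_iff.mp hg u hu
      calc (u * x * u⁻¹)⁻¹ * g = u * x⁻¹ * (u⁻¹ * g * u) * u⁻¹ := by group
        _ = u * x⁻¹ * (u⁻¹ * (u * g)) * u⁻¹ := by rw [mul_assoc u⁻¹, hc]
        _ = _ := by group
    rw [h3, ord_cj, ord_cj]

variable {M : Ideal AlgInt}

theorem rd_coeff_principal (hMp : IsPModular p M) [hM : M.IsPrime] (P : Sylow p G) {g : G}
    (hg : g ∈ cz (P : Subgroup G)) (hreg : ¬ p ∣ orderOf g) :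
    rd M (blockCoeff (principalBlock M G) g) =
      ((Nat.card {y : G // ¬ p ∣ orderOf y} : ℕ) : KF M)⁻¹ := by
  have hch : CharP (KF M) p := charP_KF hMp
  have h1 := kulshammer hMp hreg
  have hR := not_dvd_card_pRegular (G := G) (p := p)
  have hR' : ¬ MemLocalIdeal M ((Nat.card {y : G // ¬ p ∣ orderOf y} : ℕ) : ℂ) := by
    rwa [li_natCast_iff hMp]
  have h2 : rd M ((Nat.card {xy : G × G // (∃ k : ℕ, orderOf xy.1 = p ^ k) ∧
      ¬ p ∣ orderOf xy.2 ∧ xy.1 * xy.2 = g} : ℂ) /
        (Nat.card {y : G // ¬ p ∣ orderOf y} : ℂ)) =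
      ((Nat.card {y : G // ¬ p ∣ orderOf y} : ℕ) : KF M)⁻¹ := by
    rw [div_eq_mul_inv, rd_mul (lr_natCast M _) (lr_inv_natCast hMp hR), rd_natCast,
      card_fact_eq P hg hreg, one_mul]
    have hne : ((Nat.card {y : G // ¬ p ∣ orderOf y} : ℕ) : ℂ) ≠ 0 := by
      rw [Nat.cast_ne_zero]
      intro h
      rw [h] at hR
      exact hR (dvd_zero p)
    apply eq_inv_of_mul_eq_one_left
    rw [← rd_natCast (M := M), ← rd_mul (lr_inv_natCast hMp hR) (lr_natCast M _),
      inv_mul_cancel₀ hne, rd_one]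
  rw [← h2]
  apply (rd_eq_iff (lr_blockCoeff principalBlock_isPBlock g) ?_).mpr h1
  rw [div_eq_mul_inv]
  exact lr_mul (lr_natCast M _) (lr_inv_natCast hMp hR)

open Classical in
/-- The sum of the coefficients of the principal block idempotent over a subgroup containing a
Sylow subgroup is a unit. -/
theorem sum_coeff_ne_zero (hMp : IsPModular p M) [hM : M.IsPrime] (P : Sylow p G)
    {H : Subgroup G} (hPH : (P : Subgroup G) ≤ H) :
    ∑ x : G, (if x ∈ H then rd M (blockCoeff (principalBlock M G) x) else 0) ≠ 0 := by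
  have hch : CharP (KF M) p := charP_KF hMp
  have hR := not_dvd_card_pRegular (G := G) (p := p)
  have hRH := not_dvd_card_pRegular (G := H) (p := p)
  have e1 : ∑ x : G, (if x ∈ H then rd M (blockCoeff (principalBlock M G) x) else 0) =
      ∑ x ∈ Finset.univ.filter (· ∈ cz (P : Subgroup G)),
        (if x ∈ H then rd M (blockCoeff (principalBlock M G) x) else 0) := by
    apply sum_conj_eq P.2
    intro u hu x
    have h1 : u * x * u⁻¹ ∈ H ↔ x ∈ H := by
      constructor
      · intro h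
        have h2 := H.mul_mem (H.mul_mem (H.inv_mem (hPH hu)) h) (hPH hu)
        have h3 : u⁻¹ * (u * x * u⁻¹) * u = x := by group
        rwa [h3] at h2
      · intro h
        exact H.mul_mem (H.mul_mem (hPH hu) h) (H.inv_mem (hPH hu))
    have h4 : blockCoeff (principalBlock M G) (u * x * u⁻¹) =
        blockCoeff (principalBlock M G) x := isCen_coeff (isCen_fIdem _) x u
    simp only [h1, h4]
  have e2 : ∑ x : G, (if (x ∈ H ∧ ¬ p ∣ orderOf x) then (1 : KF M) else 0) =
      ∑ x ∈ Finset.univ.filter (· ∈ cz (P : Subgroup G)),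
        (if (x ∈ H ∧ ¬ p ∣ orderOf x) then (1 : KF M) else 0) := by
    apply sum_conj_eq P.2
    intro u hu x
    have h1 : u * x * u⁻¹ ∈ H ↔ x ∈ H := by
      constructor
      · intro h
        have h2 := H.mul_mem (H.mul_mem (H.inv_mem (hPH hu)) h) (hPH hu)
        have h3 : u⁻¹ * (u * x * u⁻¹) * u = x := by group
        rwa [h3] at h2
      · intro h
        exact H.mul_mem (H.mul_mem (hPH hu) h) (H.inv_mem (hPH hu))
    simp only [h1, ord_cj]
  have e3 : ∑ x ∈ Finset.univ.filter (· ∈ cz (P : Subgroup G)),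
        (if x ∈ H then rd M (blockCoeff (principalBlock M G) x) else 0) =
      ((Nat.card {y : G // ¬ p ∣ orderOf y} : ℕ) : KF M)⁻¹ *
      ∑ x ∈ Finset.univ.filter (· ∈ cz (P : Subgroup G)),
        (if (x ∈ H ∧ ¬ p ∣ orderOf x) then (1 : KF M) else 0) := by
    rw [Finset.mul_sum]
    apply Finset.sum_congr rfl
    intro x hx
    rw [Finset.mem_filter] at hx
    by_cases hxH : x ∈ H
    · by_cases hreg : p ∣ orderOf x
      · rw [if_pos hxH, if_neg (fun h => h.2 hreg), mul_zero,
          blockCoeff_eq_zero hMp principalBlock_isPBlock x hreg, rd_zero]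
      · rw [if_pos hxH, if_pos ⟨hxH, hreg⟩, mul_one, rd_coeff_principal hMp P hx.2 hreg]
    · rw [if_neg hxH, if_neg (fun h => hxH h.1), mul_zero]
  have e4 : ∑ x : G, (if (x ∈ H ∧ ¬ p ∣ orderOf x) then (1 : KF M) else 0) =
      ((Nat.card {y : H // ¬ p ∣ orderOf y} : ℕ) : KF M) := by
    have h1 : Nat.card {y : H // ¬ p ∣ orderOf y} = Nat.card {x : G // x ∈ H ∧ ¬ p ∣ orderOf x} := by
      apply Nat.card_congr
      exact
        { toFun := fun y => ⟨y.1, y.1.2, by rw [Subgroup.orderOf_coe]; exact y.2⟩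
          invFun := fun x => ⟨⟨x.1, x.2.1⟩, by rw [← Subgroup.orderOf_coe]; exact x.2.2⟩
          left_inv := fun y => rfl
          right_inv := fun x => rfl }
    rw [h1, Nat.card_eq_fintype_card, Fintype.card_subtype, Finset.card_filter]
    push_cast
    rfl
  rw [e1, e3, ← e2, e4]
  apply mul_ne_zero
  · apply inv_ne_zero
    intro h
    exact hR ((CharP.cast_eq_zero_iff (KF M) p _).mp h)
  · intro h
    exact hRH ((CharP.cast_eq_zero_iff (KF M) p _).mp h)

end Gen

end Cfsg.Agent.H26
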