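import Mathlib
import Cfsg.Agent.H26.PrinB

set_option autoImplicit false

/-!
# Extendible characters of the principal block lie under characters of `p'`-degree
-/

namespace Cfsg.Agent.H26

open MonoidAlgebra MulAction Cfsg Cfsg.Agent.H11 Cfsg.Agent.H3
open scoped ComplexConjugate

universe u

section Gen

variable {G : Type u} [Group G] [Fintype G] {p : ℕ} [hp : Fact p.Prime] {M : Ideal AlgInt}

open Classical in
theorem sum_mult_eq [Fintype (IrrCharacter G)] {H : Subgroup G} [Fintype H] (η : IrrCharacter H)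
    (m : IrrCharacter G → ℕ)
    (hm : ∀ χ : IrrCharacter G, classInner (fun h : H => (χ : G → ℂ) h) (η : H → ℂ) = m χ)
    (B : Set (IrrCharacter G)) :
    ∑ χ ∈ Finset.univ.filter (· ∈ B), (m χ : ℂ) * (χ : G → ℂ) 1 =
      (H.index : ℂ) * ∑ h : H, blockCoeff B (h : G) * (η : H → ℂ) h := by
  have hG0 : (Nat.card G : ℂ) ≠ 0 := Nat.cast_ne_zero.mpr Nat.card_pos.ne'
  have hH0 : (Nat.card H : ℂ) ≠ 0 := Nat.cast_ne_zero.mpr Nat.card_pos.ne'
  have hI0 : (H.index : ℂ) ≠ 0 := Nat.cast_ne_zero.mpr Subgroup.index_ne_zero_of_finite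
  have h3 : (Nat.card G : ℂ) = (Nat.card H : ℂ) * (H.index : ℂ) := by
    rw [← Subgroup.card_mul_index H]; push_cast; rfl
  have h1 : ∀ χ : IrrCharacter G, ∑ h : H, conj ((χ : G → ℂ) (h : G)) * (η : H → ℂ) h =
      (Nat.card H : ℂ) * (m χ : ℂ) := by
    intro χ
    have h4 := congrArg conj (hm χ)
    rw [Complex.conj_natCast] at h4
    rw [← h4]
    unfold classInner
    rw [map_mul, map_inv₀, map_sum]
    simp only [map_mul, Complex.conj_conj]
    first
    | rw [Complex.conj_natCast, mul_inv_cancel_left₀ hH0]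
    | (rw [← Nat.card_eq_fintype_card, Complex.conj_natCast, mul_inv_cancel_left₀ hH0])
  have h2 : ∑ h : H, blockCoeff B (h : G) * (η : H → ℂ) h = (Nat.card G : ℂ)⁻¹ *
      ∑ χ ∈ Finset.univ.filter (· ∈ B), (χ : G → ℂ) 1 * ((Nat.card H : ℂ) * (m χ : ℂ)) := by
    unfold blockCoeff
    simp only [fms, Finset.mul_sum, Finset.sum_mul]
    rw [Finset.sum_comm]
    apply Finset.sum_congr rfl
    intro χ _
    rw [← h1 χ, Finset.mul_sum, Finset.mul_sum]
    apply Finset.sum_congr rfl
    intro h _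
    ring
  rw [h2, h3, Finset.mul_sum, Finset.mul_sum]
  apply Finset.sum_congr rfl
  intro χ _
  field_simp

theorem exists_char_principal (hMp : IsPModular p M) (P : Sylow p G)
    {H : Subgroup G} [Fintype H] (hPH : (P : Subgroup G) ≤ H) {η : IrrCharacter H}
    (hη : η ∈ principalBlock M H) (hd : ¬ p ∣ charDegree (η : H → ℂ)) :
    ∃ χ : IrrCharacter G, χ ∈ principalBlock M G ∧ ¬ p ∣ charDegree (χ : G → ℂ) ∧
      classInner (fun h : H => (χ : G → ℂ) h) (η : H → ℂ) ≠ 0 := by
  classical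
  have hM : M.IsPrime := hMp.2.1.isPrime
  have hch : CharP (KF M) p := charP_KF hMp
  have hfI : Fintype (IrrCharacter G) := Fintype.ofFinite _
  have hm : ∀ χ : IrrCharacter G, ∃ n : ℕ,
      classInner (fun h : H => (χ : G → ℂ) h) (η : H → ℂ) = n := fun χ =>
    classInner_char_nat (isChar_restrict H (irr_isChar χ.2)) (irr_isChar η.2)
  choose m hm using hm
  have hB : IsPBlock M (principalBlock M G) := principalBlock_isPBlock
  have h1 := sum_mult_eq η m hm (principalBlock M G)
  -- central character of the restriction of the idempotent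
  have hZ : IsZS M (resAlg H (fIdem (principalBlock M G))) := by
    constructor
    · exact isCen_resAlg H (isCen_fIdem _)
    · intro h; exact lr_blockCoeff hB _
  have hsame : SameBlock M ((trv H : IrrCharacter H) : H → ℂ) (η : H → ℂ) := hη
  have h2 := (lam_eq_iff (M := M) (Subgroup.topEquiv.symm : H ≃* (⊤ : Subgroup H))
    (χ := trv H) (ψ := η)).mpr hsame
  have h3 := DFunLike.congr_fun h2 ⟨upf M (Subgroup.topEquiv.symm : H ≃* (⊤ : Subgroup H))
      (fun x => (resAlg H (fIdem (principalBlock M G))).coeff x), upf_isZS_mem _ hZ⟩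
  rw [lam_upf _ _ hZ, lam_upf _ _ hZ] at h3
  have h4 : rd M (omega ((trv H : IrrCharacter H) : H → ℂ)
      (resAlg H (fIdem (principalBlock M G)))) ≠ 0 := by
    have h5 : omega ((trv H : IrrCharacter H) : H → ℂ) (resAlg H (fIdem (principalBlock M G))) =
        ∑ h : H, blockCoeff (principalBlock M G) (h : G) := by
      unfold omega
      rw [lin_apply]
      have e1 : ((trv H : IrrCharacter H) : H → ℂ) = fun _ => 1 := rfl
      rw [e1, div_one]
      apply Finset.sum_congr rfl
      intro h _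
      rw [coeff_resAlg, coeff_fIdem, mul_one]
    rw [h5, rd_sum _ _ (fun h _ => lr_blockCoeff hB _)]
    have h6 := sum_coeff_ne_zero hMp P hPH
    rw [← Finset.sum_filter] at h6
    intro h7
    apply h6
    rw [← h7]
    exact Finset.sum_subtype _ (fun x => by simp) _
  rw [h3] at h4
  -- the sum is a unit
  have h5 : omega (η : H → ℂ) (resAlg H (fIdem (principalBlock M G))) =
      (∑ h : H, blockCoeff (principalBlock M G) (h : G) * (η : H → ℂ) h) / (η : H → ℂ) 1 := by
    unfold omega
    rw [lin_apply]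
    rfl
  have hη1 : (η : H → ℂ) 1 ≠ 0 := H27.isIrr_one_ne_zero η.2
  have h6 : ((∑ χ ∈ Finset.univ.filter (· ∈ principalBlock M G),
      m χ * charDegree (χ : G → ℂ) : ℕ) : ℂ) =
      ((H.index * charDegree (η : H → ℂ) : ℕ) : ℂ) *
        omega (η : H → ℂ) (resAlg H (fIdem (principalBlock M G))) := by
    rw [h5]
    push_cast
    rw [← (charDegree_spec η.2).1, mul_assoc, mul_div_cancel₀ _ hη1, ← h1]
    apply Finset.sum_congr rfl
    intro χ _
    rw [(charDegree_spec χ.2).1]
  have h7 := congrArg (rd M) h6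
  rw [rd_natCast, rd_mul (lr_natCast M _) (lr_omega hZ η.2), rd_natCast] at h7
  have h8 : ((H.index * charDegree (η : H → ℂ) : ℕ) : KF M) ≠ 0 := by
    intro h
    rw [CharP.cast_eq_zero_iff (KF M) p] at h
    rcases hp.out.dvd_mul.mp h with h9 | h9
    · exact P.not_dvd_index (h9.trans (Subgroup.index_dvd_of_le hPH))
    · exact hd h9
  have h9 : ¬ p ∣ ∑ χ ∈ Finset.univ.filter (· ∈ principalBlock M G),
      m χ * charDegree (χ : G → ℂ) := by
    rw [← CharP.cast_eq_zero_iff (KF M) p, h7]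
    exact mul_ne_zero h8 h4
  obtain ⟨χ, hχ, hχ2⟩ : ∃ χ ∈ Finset.univ.filter (· ∈ principalBlock M G),
      ¬ p ∣ m χ * charDegree (χ : G → ℂ) := by
    by_contra h
    push Not at h
    exact h9 (Finset.dvd_sum h)
  rw [Finset.mem_filter] at hχ
  refine ⟨χ, hχ.2, fun h => hχ2 (h.mul_left _), ?_⟩
  rw [hm χ, Nat.cast_ne_zero]
  intro h
  apply hχ2
  rw [h, zero_mul]
  exact dvd_zero p

end Gen

end Cfsg.Agent.H26
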