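import Mathlib
import Cfsg.Agent.H26.PrinB2

set_option autoImplicit false

/-!
# Extendible characters of the principal block lie under characters of `p'`-degree: statement
-/

namespace Cfsg.Agent.H26

open MonoidAlgebra MulAction Cfsg Cfsg.Agent.H11 Cfsg.Agent.H3
open scoped ComplexConjugate

universe u

variable {G : Type u} [Group G] [Finite G] {p : ℕ} [hp : Fact p.Prime] {M : Ideal AlgInt}

/-- the principal block of a normal subgroup of `p`-power index -/
theorem pb_eq_of_index (hMp : IsPModular p M) [hM : M.IsPrime] {N H : Subgroup G} [hN : N.Normal]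
    (hNH : N ≤ H) (hidx : ∃ j : ℕ, N.relIndex H = p ^ j) : pb (KF M) N = pb (KF M) H := by
  have hch : CharP (KF M) p := charP_KF hMp
  have h1 : IsBlk H (pb (KF M) N) := by
    apply isBlk_of_stable_pow hMp hNH (fun g _ => mem_nz_normal (N := N) g) hidx (isBlk_pb N)
    intro g _
    rw [cj_pb, cg_normal]
  rw [eq_pb_iff h1, aug_pb]
  exact one_ne_zero

theorem mem_principal_of_ext (hMp : IsPModular p M) {N H : Subgroup G} [hN : N.Normal]
    [Fintype N]
    (hNH : N ≤ H) (hidx : ∃ j : ℕ, N.relIndex H = p ^ j) {θ : IrrCharacter N}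
    (hθ : θ ∈ principalBlock M N) {η : IrrCharacter H}
    (h : classInner (fun n : N => (η : H → ℂ) ⟨(n : G), hNH n.2⟩) (θ : N → ℂ) ≠ 0) :
    η ∈ principalBlock M H := by
  have hM : M.IsPrime := hMp.2.1.isPrime
  have hfH : Fintype H := Fintype.ofFinite H
  have hb : IsPBlock M (principalBlock M N) := isPBlock_principal N
  have hB' : IsPBlock M (blockOf M (η : H → ℂ)) := ⟨η, rfl⟩
  have hBp : IsPBlock M (principalBlock M H) := isPBlock_principal H
  have hn : (N.subgroupOf H).Normal := hN.subgroupOf H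
  have h1 := (cov_sub_iff hNH hn hB' hb).mp ⟨η, mem_blockOf_self η, θ, hθ, h⟩
  rw [EH_principal, pb_eq_of_index hMp hNH hidx, ← EH_principal] at h1
  by_contra hne
  apply h1
  apply (isBlk_EH hB').mul_of_ne (isBlk_EH hBp)
  intro h2
  apply hne
  rw [← EH_injective hB' hBp h2]
  exact mem_blockOf_self η

theorem st4583 {G : Type u} [Group G] [Finite G] (N : Subgroup G) [N.Normal] (p : ℕ)
    [Fact p.Prime] (M : Ideal AlgInt) (hM : IsPModular p M) (P : Sylow p G)
    (θ : IrrCharacter N) (hθ : θ ∈ principalBlock M N) (hdeg : ¬ p ∣ charDegree (θ : N → ℂ))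
    (hext : ∃ η : IrrCharacter ↥(N ⊔ (P : Subgroup G)), ∀ n : N,
      (η : ↥(N ⊔ (P : Subgroup G)) → ℂ) (Subgroup.inclusion le_sup_left n) = (θ : N → ℂ) n) :
    ∃ χ : IrrCharacter G, χ ∈ principalBlock M G ∧ ¬ p ∣ charDegree (χ : G → ℂ) ∧
      haveI := Fintype.ofFinite N
      classInner (fun n : N => (χ : G → ℂ) n) (θ : N → ℂ) ≠ 0 := by
  classical
  have hfG : Fintype G := Fintype.ofFinite G
  have hfN : Fintype N := Fintype.ofFinite N
  have hfH : Fintype (N ⊔ (P : Subgroup G) : Subgroup G) := Fintype.ofFinite _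
  obtain ⟨η, hη⟩ := hext
  have hNH : N ≤ N ⊔ (P : Subgroup G) := le_sup_left
  have hin : classInner (fun n : N => (η : ↥(N ⊔ (P : Subgroup G)) → ℂ) ⟨(n : G), hNH n.2⟩)
      (θ : N → ℂ) ≠ 0 := by
    have h1 : (fun n : N => (η : ↥(N ⊔ (P : Subgroup G)) → ℂ) ⟨(n : G), hNH n.2⟩) =
        (θ : N → ℂ) := funext hη
    rw [h1, classInner_self_of_irr θ.2]
    exact one_ne_zero
  have hidx : ∃ j : ℕ, N.relIndex (N ⊔ (P : Subgroup G)) = p ^ j := by
    obtain ⟨n, hn⟩ := IsPGroup.iff_card.mp P.2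
    have h1 : N.relIndex (N ⊔ (P : Subgroup G)) ∣ p ^ n := by
      rw [← hn, sup_comm, Subgroup.relIndex_sup_right]
      exact Subgroup.relIndex_dvd_card _ _
    obtain ⟨j, -, hj⟩ := (Nat.dvd_prime_pow Fact.out).mp h1
    exact ⟨j, hj⟩
  have hηp := mem_principal_of_ext hM hNH hidx hθ hin
  have hηd : ¬ p ∣ charDegree (η : ↥(N ⊔ (P : Subgroup G)) → ℂ) := by
    have h1 := hη 1
    rw [map_one, (charDegree_spec η.2).1, (charDegree_spec θ.2).1] at h1
    have h2 : charDegree (η : ↥(N ⊔ (P : Subgroup G)) → ℂ) = charDegree (θ : N → ℂ) := by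
      exact_mod_cast h1
    rw [h2]; exact hdeg
  obtain ⟨χ, hχ1, hχ2, hχ3⟩ := exists_char_principal hM P le_sup_right hηp hηd
  refine ⟨χ, hχ1, hχ2, ?_⟩
  have h5 := inner_ne_zero_trans hNH χ hχ3 hin
  convert h5

end Cfsg.Agent.H26
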