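import Mathlib
import Cfsg.Agent.H26.Cor3
import Cfsg.Agent.H3.Gallagher2
import Cfsg.Agent.H3.DetExt

set_option autoImplicit false

/-!
# Real 2-blocks of full defect
-/

namespace Cfsg.Agent.H26

open Cfsg Cfsg.Agent.H3 Cfsg.Agent.H11 Cfsg.Agent.H27 Finset
open scoped ComplexConjugate

universe u

section Deg

variable {M : Ideal AlgInt} {G : Type u} [Group G] [Fintype G] {p : ℕ} [hp : Fact p.Prime]

/-- All members of a nilpotent block with abelian defect groups have the same degree. -/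
theorem nil_abelian_deg (hM : IsPModular p M) [M.IsPrime] [CharP (KF M) p]
    {B : Set (IrrCharacter G)}
    (hB : IsPBlock M B) {P : Subgroup G} {e : MonoidAlgebra (KF M) G}
    (hm : MaxB p (EG M B) P e) (hn : IsNilK p ⊤ (EG M B))
    (hab : ∀ x ∈ P, ∀ y ∈ P, x * y = y * x) {χ ψ : IrrCharacter G} (hχ : χ ∈ B) (hψ : ψ ∈ B) :
    (χ : G → ℂ) 1 = (ψ : G → ℂ) 1 := by
  classical
  have := Fintype.ofFinite (IrrCharacter G)
  obtain ⟨hcard, hl⟩ := nil_abelian hM hB hm hn hab
  obtain ⟨c, h1, h2, h3, h4, h5, h6⟩ := exists_cmat hM hB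
  obtain ⟨χ₀, hχ₀, h0⟩ := exists_height_zero hM hB
  suffices h : ∀ η : IrrCharacter G, η ∈ B → (η : G → ℂ) 1 = (χ₀ : G → ℂ) 1 by
    rw [h χ hχ, h ψ hψ]
  have hsq := cmat_sq hM hB h1 h2 h3 hχ₀
  have hc : c χ₀ χ₀ = 1 := by
    have h7 := nil_mm hM hB hm hn hχ₀ h0
    rw [card_maxB hM hB hm] at h7
    push_cast at h7
    rw [h1 χ₀ χ₀ hχ₀ hχ₀] at h7
    exact_mod_cast h7
  rw [hc, mul_one] at hsq
  have hone : ∀ ψ, ψ ∈ B → 1 ≤ c χ₀ ψ ^ 2 := by
    intro ψ hψ
    have hne : c χ₀ ψ ≠ 0 := by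
      intro h
      apply h5 χ₀ ψ hχ₀ hψ h0
      rw [h]; exact dvd_zero _
    have := sq_pos_of_ne_zero hne
    omega
  have hsum : ∑ ψ : IrrCharacter G with ψ ∈ B, c χ₀ ψ ^ 2 =
      ∑ ψ : IrrCharacter G with ψ ∈ B, (1 : ℤ) := by
    rw [Finset.sum_filter_of_ne, hsq, Finset.sum_const, nsmul_eq_mul, mul_one]
    · have : (univ.filter (· ∈ B)).card = Nat.card B := natCard_block.symm
      rw [this, hcard, card_maxB hM hB hm]
      push_cast; rfl
    · intro ψ _ hne
      by_contra hψ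
      rw [h2 χ₀ ψ hψ] at hne
      exact hne (by norm_num)
  have heq := (Finset.sum_eq_sum_iff_of_le
    (fun ψ hψ => hone ψ (Finset.mem_filter.mp hψ).2)).mp hsum.symm
  intro η hη
  have h8 := heq η (Finset.mem_filter.mpr ⟨Finset.mem_univ _, hη⟩)
  -- comparison of the pairings
  have hmm : mm p (χ₀ : G → ℂ) (η : G → ℂ) * (χ₀ : G → ℂ) 1 =
      (η : G → ℂ) 1 * mm p (χ₀ : G → ℂ) (χ₀ : G → ℂ) := by
    unfold mm classInner
    rw [mul_assoc, mul_left_comm ((η : G → ℂ) 1)]
    congr 1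
    rw [Finset.sum_mul, Finset.mul_sum]
    apply Finset.sum_congr rfl
    intro g _
    by_cases hg : p ∣ orderOf g
    · rw [pr_sing hg]; ring
    · rw [pr_reg hg]
      have h9 := congrArg conj (rank_one_prop hl hη hχ₀ hg)
      rw [map_mul, map_mul] at h9
      obtain ⟨a, _, ha⟩ := irr_one_eq_nat χ₀.2
      obtain ⟨b, _, hb⟩ := irr_one_eq_nat η.2
      rw [ha, hb, Complex.conj_natCast, Complex.conj_natCast] at h9
      rw [ha, hb]
      linear_combination (χ₀ : G → ℂ) g * h9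
  have h10 : (c χ₀ η : ℂ) * (χ₀ : G → ℂ) 1 = (η : G → ℂ) 1 := by
    rw [← h1 χ₀ η hχ₀ hη, mul_assoc, hmm, mul_left_comm, h1 χ₀ χ₀ hχ₀ hχ₀, hc]
    simp
  obtain ⟨a, ha0, ha⟩ := irr_one_eq_nat χ₀.2
  obtain ⟨b, hb0, hb⟩ := irr_one_eq_nat η.2
  rw [ha, hb] at h10 ⊢
  have h11 : c χ₀ η * a = b := by exact_mod_cast h10
  have h12 : c χ₀ η = 1 ∨ c χ₀ η = -1 := by
    rcases mul_eq_zero.mp (show (c χ₀ η - 1) * (c χ₀ η + 1) = 0 by linear_combination -h8)
      with h | h
    · left; omega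
    · right; omega
  rcases h12 with h12 | h12
  · rw [h12] at h11
    have : b = a := by omega
    rw [this]
  · rw [h12] at h11
    exfalso; omega

end Deg

section Star

variable {k : Type*} [Field k] {G : Type*} [Group G]

/-- The inversion antiautomorphism. -/
noncomputable def sr : MonoidAlgebra k G →ₗ[k] MonoidAlgebra k G where
  toFun a := MonoidAlgebra.ofCoeff (a.coeff.equivMapDomain (Equiv.inv G))
  map_add' a b := by
    ext x
    simp [Finsupp.equivMapDomain_apply]
  map_smul' c a := by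
    ext x
    simp [Finsupp.equivMapDomain_apply]

theorem coeff_sr (a : MonoidAlgebra k G) (x : G) : (sr a).coeff x = a.coeff x⁻¹ := by
  change (a.coeff.equivMapDomain (Equiv.inv G)) x = _
  rw [Finsupp.equivMapDomain_apply]
  rfl

theorem sr_sr (a : MonoidAlgebra k G) : sr (sr a) = a := by
  ext x
  rw [coeff_sr, coeff_sr, inv_inv]

theorem sr_mul [Fintype G] (a b : MonoidAlgebra k G) : sr (a * b) = sr b * sr a := by
  ext x
  rw [coeff_sr, coeff_mul_fintype, coeff_mul_fintype]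
  symm
  apply Fintype.sum_equiv (Equiv.mulLeft x⁻¹)
  intro y
  rw [coeff_sr, coeff_sr, Equiv.coe_mulLeft, mul_comm]
  congr 2
  · group
  · group

theorem sr_cj (g : G) (a : MonoidAlgebra k G) : sr (cj g a) = cj g (sr a) := by
  ext x
  rw [coeff_sr, coeff_cj, coeff_cj, coeff_sr]
  congr 1
  group

theorem sr_br (P : Subgroup G) (a : MonoidAlgebra k G) : sr (br P a) = br P (sr a) := by
  ext x
  rw [coeff_sr]
  by_cases hx : x ∈ cz P
  · rw [coeff_br_of_mem _ ((cz P).inv_mem hx), coeff_br_of_mem _ hx, coeff_sr]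
  · rw [coeff_br_of_notMem _ hx, coeff_br_of_notMem]
    intro h; apply hx; rw [← inv_inv x]; exact (cz P).inv_mem h

theorem sr_mem_Zc {H : Subgroup G} {a : MonoidAlgebra k G} (ha : a ∈ Zc k H) :
    sr a ∈ Zc k H := by
  constructor
  · intro x hx
    rw [coeff_sr]
    apply ha.1
    intro h; apply hx; rw [← inv_inv x]; exact H.inv_mem h
  · intro g hg
    rw [← sr_cj, ha.2 g hg]

theorem IsBlk.sr [Fintype G] {H : Subgroup G} {e : MonoidAlgebra k G} (he : IsBlk H e) :
    IsBlk H (H26.sr e) := by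
  refine ⟨sr_mem_Zc he.mem, by rw [← sr_mul, he.idem], ?_, ?_⟩
  · intro h
    apply he.ne_zero
    rw [← sr_sr e, h, map_zero]
  · intro f hf hff hfe
    have h1 : H26.sr f * H26.sr f = H26.sr f := by rw [← sr_mul, hff]
    have h2 : H26.sr f * e = H26.sr f := by
      rw [(Zc_commute (sr_mem_Zc hf) he.isSup).eq]
      conv_lhs => rw [← sr_sr e]
      rw [← sr_mul, hfe]
    rcases he.2.2.2 _ (sr_mem_Zc hf) h1 h2 with h | h
    · left; rw [← sr_sr f, h, map_zero]
    · right; rw [← sr_sr f, h]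

theorem InB.sr [Fintype G] {p : ℕ} {E : MonoidAlgebra k G} (hE : H26.sr E = E) {Q : Subgroup G}
    {f : MonoidAlgebra k G} (h : InB p E Q f) : InB p E Q (H26.sr f) := by
  refine ⟨h.1, ⟨h.2.1.1, h.2.1.2.sr⟩, ?_⟩
  have hc : br Q E ∈ Zc k (cz Q) := br_mem_Zc_centralizer (h.1.isFx.mono le_top)
  have h1 : H26.sr f * H26.sr (br Q E) = H26.sr f := by
    rw [← sr_mul, h.2.2]
  rw [sr_br, hE] at h1
  rw [(Zc_commute hc h.2.1.2.sr.isSup).eq]
  exact h1

theorem aug_of_real [Fintype G] [CharP k 2] {e : MonoidAlgebra k G} (hs : sr e = e)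
    (h0 : ∀ g : G, 2 ∣ orderOf g → e.coeff g = 0) : augHom k G e = e.coeff 1 := by
  classical
  rw [augHom_apply, ← Finset.add_sum_erase _ _ (Finset.mem_univ (1 : G))]
  rw [Finset.sum_involution (fun g _ => g⁻¹), add_zero]
  · intro g _
    have : e.coeff g⁻¹ = e.coeff g := by rw [← coeff_sr, hs]
    rw [this]
    exact CharTwo.add_self_eq_zero _
  · intro g hg hne h
    apply hne
    apply h0
    have h1 : g ≠ 1 := Finset.ne_of_mem_erase hg
    have h2 : orderOf g = 2 := orderOf_eq_prime (by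
      rw [sq]; nth_rewrite 1 [← h]; exact inv_mul_cancel g) h1
    rw [h2]
  · intro g hg
    rw [Finset.mem_erase]
    exact ⟨inv_ne_one.mpr (Finset.ne_of_mem_erase hg), Finset.mem_univ _⟩
  · intro g _
    exact inv_inv g

end Star

section Main

variable {M : Ideal AlgInt} {G : Type u} [Group G] [Fintype G]

theorem two_part_mem (S : Sylow 2 G) {T : Subgroup G} (hST : (S : Subgroup G) ≤ T) {n : G}
    (hn : n ∈ nz (S : Subgroup G)) (hn2 : n * n ∈ T) : n ∈ T := by
  obtain ⟨x, y, hy1, hy2, hy3, hy4⟩ := exists_isPPart Nat.prime_two n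
  have hxz : x ∈ Subgroup.zpowers n := by
    -- x is a power of n
    obtain ⟨j, hj⟩ := hy3
    have hcop : (orderOf x).Coprime (orderOf y) := by
      rw [hj]
      apply Nat.Coprime.pow_left
      exact (Nat.Prime.coprime_iff_not_dvd Nat.prime_two).mpr hy4
    obtain ⟨a, ha⟩ := (Nat.chineseRemainder hcop 1 0)
    have h1 : x ^ a = x := by
      have := (pow_eq_pow_iff_modEq (x := x)).mpr ha.1
      rwa [pow_one] at this
    have h2 : y ^ a = 1 := by
      have := (pow_eq_pow_iff_modEq (x := y)).mpr ha.2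
      rwa [pow_zero] at this
    have h3 : n ^ a = x := by rw [← hy1, hy2.mul_pow, h1, h2, mul_one]
    rw [← h3]
    exact Subgroup.pow_mem _ (Subgroup.mem_zpowers n) a
  have hxN : x ∈ nz (S : Subgroup G) := (Subgroup.zpowers_le.mpr hn) hxz
  have hxS : x ∈ (S : Subgroup G) := by
    have hp : IsPGroup 2 (Subgroup.zpowers x) := isPGroup_zpowers hy3
    have h1 := hp.inf_normalizer_sylow S
    have h2 : x ∈ Subgroup.zpowers x ⊓ nz (S : Subgroup G) := ⟨Subgroup.mem_zpowers x, hxN⟩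
    have h3 : x ∈ Subgroup.zpowers x ⊓ (S : Subgroup G) := by
      rw [← h1]; exact h2
    exact h3.2
  have hxT := hST hxS
  have hyy : y * y ∈ T := by
    have h1 : y * y = x⁻¹ * x⁻¹ * (n * n) := by
      rw [← hy1]
      have := hy2.eq
      calc y * y = x⁻¹ * (x * y) * y := by group
        _ = x⁻¹ * (y * x) * y := by rw [this]
        _ = x⁻¹ * x⁻¹ * (x * y) * (x * y) := by group
        _ = _ := by group
    rw [h1]
    exact T.mul_mem (T.mul_mem (T.inv_mem hxT) (T.inv_mem hxT)) hn2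
  have hyT : y ∈ T := by
    have hodd : Odd (orderOf y) := by
      rw [← Nat.not_even_iff_odd, even_iff_two_dvd]; exact hy4
    obtain ⟨j, hj⟩ := hodd
    have h1 : (y * y) ^ (j + 1) = y := by
      rw [← sq, ← pow_mul]
      have : 2 * (j + 1) = orderOf y + 1 := by omega
      rw [this, pow_succ, pow_orderOf_eq_one, one_mul]
    rw [← h1]
    exact T.pow_mem hyy _
  rw [← hy1]
  exact T.mul_mem hxT hyT

theorem coeff_one_ne_zero [M.IsPrime] [CharP (KF M) 2] (hM : IsPModular 2 M) (S : Sylow 2 G)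
    {b : Set (IrrCharacter (cz (S : Subgroup G)))} (hb : IsPBlock M b)
    (hD : IsDef 2 (cz (S : Subgroup G)) (EH M (cz (S : Subgroup G)) b)
      ((S : Subgroup G) ⊓ cz (S : Subgroup G))) :
    (EH M (cz (S : Subgroup G)) b).coeff 1 ≠ 0 := by
  classical
  generalize hCdef : cz (S : Subgroup G) = C at *
  have := Fintype.ofFinite C
  have := Fintype.ofFinite (IrrCharacter C)
  have hp2 : Fact (Nat.Prime 2) := ⟨Nat.prime_two⟩
  set Z : Subgroup C := ((S : Subgroup G) ⊓ C).subgroupOf C with hZ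
  have hDZ : IsDefectGroup 2 M b Z := (isDefectGroup_iff_EH hb inf_le_right).mpr hD
  have hZc : Z ≤ Subgroup.center C := by
    rintro ⟨x, hx⟩ hx'
    rw [Subgroup.mem_center_iff]
    rintro ⟨g, hg⟩
    apply Subtype.ext
    have h1 := (Subgroup.mem_subgroupOf.mp hx').1
    rw [← hCdef, Subgroup.mem_centralizer_iff] at hg
    exact (hg x h1).symm
  have hnil := nilpotent_of_central 2 M hM hb hDZ hZc
  have hab : ∀ x ∈ Z, ∀ y ∈ Z, x * y = y * x :=
    fun x hx y _ => (Subgroup.mem_center_iff.mp (hZc hx) y).symm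
  have hnil' := (isNilpotentBlock_iff.mp hnil).2
  have hDef := (isDefectGroup_iff_EG hb).mp hDZ
  obtain ⟨e, he⟩ := hDef.exists_inB (isBlk_EG hb)
  have hm := he.maxB_of_isDef hDef
  obtain ⟨hcard, -⟩ := nil_abelian hM hb hm hnil' hab
  obtain ⟨χ₀, hχ₀, h0⟩ := exists_height_zero hM hb
  -- the index of Z is odd
  have hidx : ¬ 2 ∣ Z.index := by
    intro hd
    obtain ⟨T, hT⟩ := Sylow.exists_subgroup_card_pow_succ (p := 2) (G := C) (n :=
      (Nat.card Z).factorization 2) (by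
        rw [pow_succ]
        have h1 : Nat.card C = Nat.card Z * Z.index := (Z.card_mul_index).symm
        rw [h1]
        exact Nat.mul_dvd_mul (Nat.ordProj_dvd _ _) hd)
      (H := Z) (by
        obtain ⟨j, hj⟩ := IsPGroup.iff_card.mp hDef.2.1
        rw [hj, Nat.factorization_pow]
        simp [Nat.prime_two.factorization])
    -- T embeds in a 2-group normalized by S
    have hTp : IsPGroup 2 (T.map C.subtype) := by
      have : IsPGroup 2 T := IsPGroup.of_card hT.1
      exact this.map _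
    have hTC : T.map C.subtype ≤ C := Subgroup.map_subtype_le _
    have hTS : T.map C.subtype ≤ (S : Subgroup G) := by
      have h1 := hTp.inf_normalizer_sylow S
      have h2 : T.map C.subtype ≤ nz (S : Subgroup G) := by
        apply hTC.trans
        rw [← hCdef]
        exact centralizer_le_normalizer' _
      have h3 : T.map C.subtype ⊓ nz (S : Subgroup G) = T.map C.subtype := inf_eq_left.mpr h2
      have h4 : T.map C.subtype = T.map C.subtype ⊓ (S : Subgroup G) := by
        rw [← h1]; exact h3.symm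
      rw [h4]; exact inf_le_right
    have hTZ : T ≤ Z := by
      intro x hx
      exact Subgroup.mem_subgroupOf.mpr ⟨hTS ⟨x, hx, rfl⟩, x.2⟩
    have h5 := Subgroup.card_le_of_le hTZ
    rw [hT.1] at h5
    obtain ⟨j, hj⟩ := IsPGroup.iff_card.mp hDef.2.1
    rw [hj, Nat.factorization_pow] at h5
    simp [Nat.prime_two.factorization] at h5
    rw [pow_succ] at h5
    have := pow_pos (show 0 < 2 by norm_num) j
    omega
  obtain ⟨m, hm0, hmm⟩ := irr_one_eq_nat χ₀.2
  -- m is odd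
  have hmodd : ¬ 2 ∣ m := by
    have h1 := (fact_degree hM hχ₀).1
    have h2 : charDegree (χ₀ : C → ℂ) = m := by
      have := (charDegree_spec χ₀.2).1
      rw [hmm] at this
      exact_mod_cast this.symm
    rw [h2, h0, add_zero] at h1
    have h3 : Nat.card Z = 2 ^ blockDefect 2 b := card_maxB hM hb hm
    have h4 : (Nat.card C).factorization 2 = blockDefect 2 b := by
      have h5 : Nat.card C = Nat.card Z * Z.index := (Z.card_mul_index).symm
      rw [h5, Nat.factorization_mul Nat.card_pos.ne' Z.index_ne_zero_of_finite, h3]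
      simp [Nat.factorization_eq_zero_of_not_dvd hidx, Nat.prime_two.factorization]
    rw [h4, Nat.sub_self] at h1
    intro hd
    have := (Nat.Prime.factorization_pos_of_dvd Nat.prime_two hm0.ne' hd)
    omega
  have hcoef : (EH M C b).coeff 1 = rd M (blockCoeff b 1) := by
    have := coeff_upf (M := M) (MulEquiv.refl C) (blockCoeff b) 1
    exact this
  rw [hcoef]
  have hbc : blockCoeff b 1 * (Z.index : ℂ) = (m : ℂ) ^ 2 := by
    unfold blockCoeff
    rw [finsum_mem_irr]
    have h1 : ∀ χ ∈ univ.filter (fun χ : IrrCharacter C => χ ∈ b),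
        (χ : C → ℂ) 1 * conj ((χ : C → ℂ) 1) = (m : ℂ) ^ 2 := by
      intro χ hχ
      rw [nil_abelian_deg hM hb hm hnil' hab (Finset.mem_filter.mp hχ).2 hχ₀, hmm,
        Complex.conj_natCast, sq]
    rw [Finset.sum_congr rfl h1, Finset.sum_const, nsmul_eq_mul, ← natCard_block, hcard]
    have h2 : (Nat.card C : ℂ) = Nat.card Z * Z.index := by
      exact_mod_cast (Z.card_mul_index).symm
    have h3 : (Nat.card Z : ℂ) ≠ 0 := by exact_mod_cast Nat.card_pos.ne'
    have h4 : (Z.index : ℂ) ≠ 0 := by exact_mod_cast Z.index_ne_zero_of_finite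
    rw [h2]
    field_simp
  have hlr : MemLocalRing M (blockCoeff b 1) := lr_blockCoeff hb _
  intro h
  have h1 := congrArg (rd M) hbc
  rw [rd_mul hlr (lr_natCast M _), h, zero_mul, rd_pow (lr_natCast M _), rd_natCast] at h1
  have h2 : (m : KF M) = 0 := by
    have := h1.symm
    exact pow_eq_zero_iff (two_ne_zero) |>.mp this
  rw [CharP.cast_eq_zero_iff (KF M) 2] at h2
  exact hmodd h2

/-- A real block of full defect is principal. -/
theorem real_full_principal [M.IsPrime] [CharP (KF M) 2] (hM : IsPModular 2 M) (S : Sylow 2 G)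
    {B : Set (IrrCharacter G)} (hB : IsPBlock M B) (hD : IsDef 2 ⊤ (EG M B) (S : Subgroup G))
    (hs : sr (EG M B) = EG M B) : B = principalBlock M G := by
  have hp2 : Fact (Nat.Prime 2) := ⟨Nat.prime_two⟩
  obtain ⟨e, he⟩ := hD.exists_inB (isBlk_EG hB)
  have he' := he.sr hs
  obtain ⟨n, hn, hne⟩ := InB.conj_of_isDef hD he he'
  have hn2 : cj (n * n) e = e := by
    rw [cj_mul_apply, hne, ← sr_cj, hne, sr_sr]
  have hnT : n ∈ stab (nz (S : Subgroup G)) e :=
    two_part_mem S (self_le_stab he.2.1.2) hn ⟨(nz (S : Subgroup G)).mul_mem hn hn, hn2⟩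
  have hse : sr e = e := by rw [← hne]; exact hnT.2
  obtain ⟨b, hb, rfl⟩ := exists_EH he.2.1.2
  have hm := he.maxB_of_isDef hD
  have hDef : IsDef 2 (cz (S : Subgroup G)) (EH M (cz (S : Subgroup G)) b)
      ((S : Subgroup G) ⊓ cz (S : Subgroup G)) := by
    obtain ⟨D, hD', hle⟩ := (PLE.refl (p := 2) (S : Subgroup G) _).centralizer_isDef_ge he.2.1
      he.2.1.2
    have h1 : D ≤ (S : Subgroup G) := by
      have h2 := hD'.2.1.inf_normalizer_sylow S
      have h3 : D ≤ nz (S : Subgroup G) := hD'.1.trans (centralizer_le_normalizer' _)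
      have h4 : D = D ⊓ (S : Subgroup G) := by
        rw [← h2]; exact (inf_eq_left.mpr h3).symm
      rw [h4]; exact inf_le_right
    have h2 : D = (S : Subgroup G) ⊓ cz (S : Subgroup G) := le_antisymm (le_inf h1 hD'.1) hle
    rw [← h2]; exact hD'
  have hne0 := coeff_one_ne_zero hM S hb hDef
  have haug : augHom (KF M) G (EH M (cz (S : Subgroup G)) b) =
      (EH M (cz (S : Subgroup G)) b).coeff 1 := by
    apply aug_of_real hse
    intro g hg
    by_cases hgC : g ∈ cz (S : Subgroup G)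
    · have h1 := coeff_upf_of_mem (M := M) (MulEquiv.refl (cz (S : Subgroup G)))
        (blockCoeff b) hgC
      have h2 : (EH M (cz (S : Subgroup G)) b).coeff g = rd M (blockCoeff b ⟨g, hgC⟩) := h1
      have := Fintype.ofFinite (cz (S : Subgroup G))
      rw [h2, blockCoeff_eq_zero hM hb ⟨g, hgC⟩ (by rw [Subgroup.orderOf_mk]; exact hg), rd_zero]
    · exact isBlk_EH hb |>.isSup g hgC
  have hpb : EH M (cz (S : Subgroup G)) b = pb (KF M) (cz (S : Subgroup G)) := by
    rw [eq_pb_iff (isBlk_EH hb), haug]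
    exact hne0
  have h1 := inB_pb (k := KF M) (G := G) S.isPGroup'
  rw [hpb] at he
  have h2 := (existsUnique_inB he.2.1).unique he h1
  rw [← EG_principal] at h2
  exact EG_injective hB (isPBlock_principal G) h2

theorem full_defect_iff [M.IsPrime] [CharP (KF M) 2] (hM : IsPModular 2 M)
    {B : Set (IrrCharacter G)} (hB : IsPBlock M B)
    (hd : blockDefect 2 B = (Nat.card G).factorization 2) :
    ∃ S : Sylow 2 G, IsDef 2 ⊤ (EG M B) (S : Subgroup G) := by
  have hp2 : Fact (Nat.Prime 2) := ⟨Nat.prime_two⟩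
  obtain ⟨D, hD⟩ := (isBlk_EG hB).exists_isDef (p := 2)
  have h1 := card_defect hM hB ((isDefectGroup_iff_EG hB).mpr hD)
  rw [hd] at h1
  exact ⟨Sylow.ofCard D h1, hD⟩

theorem sr_of_coeff [M.IsPrime] {B : Set (IrrCharacter G)}
    (h : ∀ g : G, blockCoeff B g⁻¹ = blockCoeff B g) : sr (EG M B) = EG M B := by
  ext g
  rw [coeff_sr, coeff_EG, coeff_EG, h]

theorem sr_of_real [M.IsPrime] (hM : IsPModular 2 M) {B : Set (IrrCharacter G)}
    (hB : IsPBlock M B) {χ : IrrCharacter G} (hχ : χ ∈ B)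
    (hr : ∀ g : G, ¬ 2 ∣ orderOf g → (χ : G → ℂ) g⁻¹ = (χ : G → ℂ) g) :
    sr (EG M B) = EG M B := by
  classical
  have hE := isBlk_EG hB
  -- lam χ (sr E) = 1
  have hZ := isZS_fIdem (M := M) hB
  let A : MonoidAlgebra ℂ G := toAlg (fun g => blockCoeff B g⁻¹)
  have hAc : ∀ g, A.coeff g = blockCoeff B g⁻¹ := fun g => rfl
  have hAZ : IsZS M A := by
    refine ⟨?_, fun g => ?_⟩
    · apply isCen_toAlg
      intro g x
      have : (x * g * x⁻¹)⁻¹ = x * g⁻¹ * x⁻¹ := by group
      change blockCoeff B (x * g * x⁻¹)⁻¹ = blockCoeff B g⁻¹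
      rw [this]
      exact blockCoeff_conj (isConj_iff.mpr ⟨x, rfl⟩) |>.symm
    · rw [hAc]; exact lr_blockCoeff hB _
  have hupf : sr (EG M B) = upf M (Subgroup.topEquiv.symm : G ≃* (⊤ : Subgroup G))
      (fun g => A.coeff g) := by
    symm
    apply upf_ext _ (isSup_top _)
    intro x
    rw [coeff_sr, hAc]
    exact coeff_EG B _
  have hom : omega (χ : G → ℂ) A = 1 := by
    have h1 : omega (χ : G → ℂ) (fIdem B) = 1 := by rw [omega_fIdem, if_pos hχ]
    rw [← h1]
    unfold omega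
    congr 1
    rw [lin_apply, lin_apply]
    apply Fintype.sum_equiv (Equiv.inv G)
    intro g
    rw [hAc, Equiv.inv_apply, coeff_fIdem]
    by_cases hg : 2 ∣ orderOf g
    · rw [blockCoeff_eq_zero hM hB g⁻¹ (by rwa [orderOf_inv]), zero_mul, zero_mul]
    · rw [hr g hg]
  have hidem : sr (EG M B) * sr (EG M B) = sr (EG M B) := by rw [← sr_mul, hE.idem]
  have hmem : sr (EG M B) ∈ Zc (KF M) (⊤ : Subgroup G) := sr_mem_Zc hE.mem
  have hmul : sr (EG M B) * EG M B = EG M B := by
    rw [Eb_mul_eq_iff _ hB hχ hmem hidem]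
    have h1 : lam (Subgroup.topEquiv.symm : G ≃* (⊤ : Subgroup G)) χ
        ⟨upf M (Subgroup.topEquiv.symm : G ≃* (⊤ : Subgroup G)) (fun g => A.coeff g),
          upf_isZS_mem _ hAZ⟩ = rd M (omega (χ : G → ℂ) A) := lam_upf _ χ hAZ _
    rw [hom, rd_one] at h1
    have h2 : (⟨sr (EG M B), hmem⟩ : Zc (KF M) (⊤ : Subgroup G)) =
      ⟨upf M (Subgroup.topEquiv.symm : G ≃* (⊤ : Subgroup G)) (fun g => A.coeff g),
          upf_isZS_mem _ hAZ⟩ := Subtype.ext hupf
    rw [h2]; exact h1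
  by_contra hne
  have := hE.sr.mul_of_ne hE hne
  rw [this] at hmul
  exact hE.ne_zero hmul.symm

/-- Characters of odd degree which are real on elements of odd order. -/
theorem real_odd_principal (hM : IsPModular 2 M) {χ : IrrCharacter G}
    (hodd : Odd (charDegree (χ : G → ℂ)))
    (hr : ∀ g : G, ¬ 2 ∣ orderOf g → (χ : G → ℂ) g⁻¹ = (χ : G → ℂ) g) :
    χ ∈ principalBlock M G := by
  have := pmod_isPrime hM
  have := charP_KF hM
  have hp2 : Fact (Nat.Prime 2) := ⟨Nat.prime_two⟩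
  have hB : IsPBlock M (blockOf M (χ : G → ℂ)) := ⟨χ, rfl⟩
  have hχ : χ ∈ blockOf M (χ : G → ℂ) := mem_blockOf_self χ
  have hd : blockDefect 2 (blockOf M (χ : G → ℂ)) = (Nat.card G).factorization 2 := by
    obtain ⟨h1, h2⟩ := fact_degree hM hχ
    have h3 : (charDegree (χ : G → ℂ)).factorization 2 = 0 := by
      apply Nat.factorization_eq_zero_of_not_dvd
      rw [← even_iff_two_dvd, Nat.not_even_iff_odd]
      exact hodd
    omega
  obtain ⟨S, hS⟩ := full_defect_iff hM hB hd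
  rw [← real_full_principal hM S hB hS (sr_of_real hM hB hχ hr)]
  exact hχ

end Main

section St

variable {G : Type u} [Group G] [Finite G]

theorem st4483 (M : Ideal AlgInt) (hM : IsPModular 2 M) :
    (∀ χ : IrrCharacter G, (∀ g : G, ((χ : G → ℂ) g).im = 0) →
      Odd (charDegree (χ : G → ℂ)) → χ ∈ principalBlock M G) ∧
    Nat.card {χ : IrrCharacter G // (∀ g : G, ((χ : G → ℂ) g).im = 0) ∧
      Odd (charDegree (χ : G → ℂ))} ≤ 2 ^ (2 * (Nat.card G).factorization 2) := by
  have := Fintype.ofFinite G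
  have := Fintype.ofFinite (IrrCharacter G)
  have := pmod_isPrime hM
  have hp2 : Fact (Nat.Prime 2) := ⟨Nat.prime_two⟩
  have h1 : ∀ χ : IrrCharacter G, (∀ g : G, ((χ : G → ℂ) g).im = 0) →
      Odd (charDegree (χ : G → ℂ)) → χ ∈ principalBlock M G := by
    intro χ hr ho
    apply real_odd_principal hM ho
    intro g _
    rw [char_inv (irr_isChar χ.2)]
    exact Complex.conj_eq_iff_im.mpr (hr g)
  refine ⟨h1, ?_⟩
  have hB : IsPBlock M (principalBlock M G) := isPBlock_principal G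
  have h2 : Nat.card {χ : IrrCharacter G // (∀ g : G, ((χ : G → ℂ) g).im = 0) ∧
      Odd (charDegree (χ : G → ℂ))} ≤ Nat.card (principalBlock M G) := by
    apply Nat.card_le_card_of_injective
      (fun χ => (⟨χ.1, h1 χ.1 χ.2.1 χ.2.2⟩ : principalBlock M G))
    intro χ ψ h
    have h' : χ.1 = ψ.1 := congrArg (fun x : principalBlock M G => x.1) h
    exact Subtype.ext h'
  have h3 := st4494 hM _ hB
  have h4 : blockDefect 2 (principalBlock M G) ≤ (Nat.card G).factorization 2 := by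
    unfold blockDefect; exact Nat.sub_le _ _
  have h5 : 2 ^ (2 * blockDefect 2 (principalBlock M G)) ≤
      2 ^ (2 * (Nat.card G).factorization 2) := Nat.pow_le_pow_right (by norm_num) (by omega)
  by_cases ha : (Nat.card G).factorization 2 = 0
  · rw [ha] at h5 ⊢
    omega
  · have h6 : 2 ^ 2 ≤ 2 ^ (2 * (Nat.card G).factorization 2) :=
      Nat.pow_le_pow_right (by norm_num) (by omega)
    omega

theorem st4490 (M : Ideal AlgInt) (hM : IsPModular 2 M) (B : Set (IrrCharacter G))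
    (hB : IsPBlock M B) (P : Sylow 2 G) (hfull : IsDefectGroup 2 M B (P : Subgroup G))
    (hnp : B ≠ principalBlock M G) :
    {ψ : IrrCharacter G | ∃ χ ∈ B, (ψ : G → ℂ) = fun g => (starRingEnd ℂ) ((χ : G → ℂ) g)} ≠
      B := by
  classical
  have := Fintype.ofFinite G
  have := Fintype.ofFinite (IrrCharacter G)
  have := pmod_isPrime hM
  have := charP_KF hM
  have hp2 : Fact (Nat.Prime 2) := ⟨Nat.prime_two⟩
  intro heq
  apply hnp
  apply real_full_principal hM P hB ((isDefectGroup_iff_EG hB).mp hfull)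
  apply sr_of_coeff
  intro g
  unfold blockCoeff
  rw [finsum_mem_irr, finsum_mem_irr]
  congr 1
  have hmem : ∀ ψ : IrrCharacter G, ψ ∈ B → ∃ χ ∈ B, (ψ : G → ℂ) =
      fun g => (starRingEnd ℂ) ((χ : G → ℂ) g) := by
    intro ψ hψ
    rw [← heq] at hψ
    exact hψ
  choose! f hf1 hf2 using hmem
  have hinj : ∀ ψ ∈ univ.filter (· ∈ B), ∀ ψ' ∈ univ.filter (· ∈ B), f ψ = f ψ' → ψ = ψ' := by
    intro ψ hψ ψ' hψ' h
    apply Subtype.ext
    rw [hf2 ψ (Finset.mem_filter.mp hψ).2, hf2 ψ' (Finset.mem_filter.mp hψ').2, h]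
  apply Finset.sum_bij (fun ψ _ => f ψ)
  · intro ψ hψ
    exact Finset.mem_filter.mpr ⟨Finset.mem_univ _, hf1 ψ (Finset.mem_filter.mp hψ).2⟩
  · exact fun ψ hψ ψ' hψ' h => hinj ψ hψ ψ' hψ' h
  · intro χ hχ
    obtain ⟨ψ, h, h'⟩ := Finset.surj_on_of_inj_on_of_card_le (s := univ.filter (· ∈ B))
      (t := univ.filter (· ∈ B)) (fun ψ _ => f ψ)
      (fun ψ hψ => Finset.mem_filter.mpr ⟨Finset.mem_univ _, hf1 ψ (Finset.mem_filter.mp hψ).2⟩)
      (fun ψ ψ' hψ hψ' h => hinj ψ hψ ψ' hψ' h) le_rfl χ hχ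
    exact ⟨ψ, h, h'.symm⟩
  · intro ψ hψ
    have h1 := hf2 ψ (Finset.mem_filter.mp hψ).2
    have h2 : (ψ : G → ℂ) g⁻¹ = (f ψ : G → ℂ) g := by
      rw [char_inv (irr_isChar ψ.2), h1, Complex.conj_conj]
    have h3 : (ψ : G → ℂ) 1 = (f ψ : G → ℂ) 1 := by
      obtain ⟨n, _, hn⟩ := irr_one_eq_nat (f ψ).2
      rw [h1]
      change conj ((f ψ : G → ℂ) 1) = _
      rw [hn, Complex.conj_natCast]
    rw [h2, h3]

theorem st4517 (M : Ideal AlgInt) (hM : IsPModular 2 M) (k : ℕ)
    (_hk : Nat.Coprime k (Nat.card G)) (hk₂ : ∀ g : G, Odd (orderOf g) → g ^ k = g⁻¹)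
    (B : Set (IrrCharacter G)) (hB : IsPBlock M B)
    (hdef : blockDefect 2 B = (Nat.card G).factorization 2)
    (hstab : ∀ χ ∈ B, ∃ ψ ∈ B, ∀ g : G, (ψ : G → ℂ) g = (χ : G → ℂ) (g ^ k)) :
    B = principalBlock M G := by
  classical
  have := Fintype.ofFinite G
  have := Fintype.ofFinite (IrrCharacter G)
  have := pmod_isPrime hM
  have := charP_KF hM
  have hp2 : Fact (Nat.Prime 2) := ⟨Nat.prime_two⟩
  obtain ⟨S, hS⟩ := full_defect_iff hM hB hdef
  apply real_full_principal hM S hB hS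
  apply sr_of_coeff
  intro g
  by_cases hg : 2 ∣ orderOf g
  · rw [blockCoeff_eq_zero hM hB g hg, blockCoeff_eq_zero hM hB g⁻¹ (by rwa [orderOf_inv])]
  · have hodd : Odd (orderOf g) := by
      rw [← Nat.not_even_iff_odd, even_iff_two_dvd]; exact hg
    have hodd' : Odd (orderOf g⁻¹) := by rwa [orderOf_inv]
    unfold blockCoeff
    rw [finsum_mem_irr, finsum_mem_irr]
    congr 1
    choose! f hf1 hf2 using hstab
    have hinj : ∀ ψ ∈ univ.filter (· ∈ B), ∀ ψ' ∈ univ.filter (· ∈ B), f ψ = f ψ' →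
        ψ = ψ' := by
      intro ψ hψ ψ' hψ' h
      apply Subtype.ext
      funext x
      obtain ⟨y, rfl⟩ := (powCoprime (G := G) _hk.symm).surjective x
      rw [powCoprime_apply, ← hf2 ψ (Finset.mem_filter.mp hψ).2,
        ← hf2 ψ' (Finset.mem_filter.mp hψ').2, h]
    symm
    apply Finset.sum_bij (fun ψ _ => f ψ)
    · intro ψ hψ
      exact Finset.mem_filter.mpr ⟨Finset.mem_univ _, hf1 ψ (Finset.mem_filter.mp hψ).2⟩
    · exact fun ψ hψ ψ' hψ' h => hinj ψ hψ ψ' hψ' h
    · intro χ hχ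
      obtain ⟨ψ, h, h'⟩ := Finset.surj_on_of_inj_on_of_card_le (s := univ.filter (· ∈ B))
        (t := univ.filter (· ∈ B)) (fun ψ _ => f ψ)
        (fun ψ hψ => Finset.mem_filter.mpr ⟨Finset.mem_univ _,
          hf1 ψ (Finset.mem_filter.mp hψ).2⟩)
        (fun ψ ψ' hψ hψ' h => hinj ψ hψ ψ' hψ' h) le_rfl χ hχ
      exact ⟨ψ, h, h'.symm⟩
    · intro ψ hψ
      have h2 : (f ψ : G → ℂ) g⁻¹ = (ψ : G → ℂ) g := by
        rw [hf2 ψ (Finset.mem_filter.mp hψ).2, hk₂ _ hodd', inv_inv]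
      have h3 : (f ψ : G → ℂ) 1 = (ψ : G → ℂ) 1 := by
        rw [hf2 ψ (Finset.mem_filter.mp hψ).2, one_pow]
      rw [h2, h3]

theorem st4580 (N : Subgroup G) [hN : N.Normal] (M : Ideal AlgInt) (hM : IsPModular 2 M)
    (θ : IrrCharacter N) (hreal : ∀ n : N, ((θ : N → ℂ) n).im = 0)
    (hodd : Odd (charDegree (θ : N → ℂ)))
    (hext : ∃ η : IrrCharacter G, ∀ n : N, (η : G → ℂ) n = (θ : N → ℂ) n) :
    ∃ η : IrrCharacter G, (∀ n : N, (η : G → ℂ) n = (θ : N → ℂ) n) ∧
      η ∈ principalBlock M G := by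
  have := Fintype.ofFinite G
  have := Fintype.ofFinite N
  obtain ⟨η, hη⟩ := hext
  have hηN : (fun n : N => (η : G → ℂ) n) = (θ : N → ℂ) := funext hη
  have hirrN : IsIrrCharacter N (fun n : N => (η : G → ℂ) n) := by rw [hηN]; exact θ.2
  -- the conjugate of η
  have hbar : IsIrrCharacter G (fun g => conj ((η : G → ℂ) g)) := isIrr_conj η.2
  have hover : classInner (fun n : N => (fun g => conj ((η : G → ℂ) g)) (n : G))
      (fun n : N => (η : G → ℂ) n) ≠ 0 := by
    have h1 : (fun n : N => (fun g => conj ((η : G → ℂ) g)) (n : G)) =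
        fun n : N => (η : G → ℂ) n := by
      funext n
      change conj ((η : G → ℂ) n) = _
      rw [hη n]
      exact Complex.conj_eq_iff_im.mpr (hreal n)
    rw [h1, classInner_self_of_irr hirrN]
    exact one_ne_zero
  obtain ⟨-, -, hg3, -⟩ := gallagher_one hN η.2 hirrN
  obtain ⟨β, hβ, hβN, hβη⟩ := hg3 _ hbar hover
  have hη1 : (η : G → ℂ) 1 ≠ 0 := irr_one_ne_zero η.2
  have hβ1 : β 1 = 1 := by
    have h1 := congrFun hβη 1
    obtain ⟨n, _, hn⟩ := irr_one_eq_nat η.2
    rw [Pi.mul_apply, hn, Complex.conj_natCast] at h1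
    rw [hn] at hη1
    exact (mul_right_cancel₀ hη1 (by rw [one_mul]; exact h1)).symm
  obtain ⟨μ, rfl⟩ := exists_hf (irr_isChar hβ) hβ1
  -- decomposition of the order
  have hord : orderOf μ ≠ 0 := (orderOf_pos μ).ne'
  obtain ⟨s, m, hmodd, hsm⟩ := Nat.exists_eq_two_pow_mul_odd hord
  obtain ⟨t, ht⟩ := hmodd
  -- the twist
  set ν := μ ^ (t + 1) with hν
  have hirr : IsIrrCharacter G (hf ν * (η : G → ℂ)) := by
    obtain ⟨-, hg2, -, -⟩ := gallagher_one hN η.2 hirrN
    apply hg2 _ (isIrr_hf ν)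
    intro n
    have h1 := hβN n
    rw [hf_apply, hf_apply, map_one] at h1 ⊢
    have h2 : μ (n : G) = 1 := Units.ext h1
    rw [hν, MonoidHom.pow_apply, h2, one_pow]
  refine ⟨⟨hf ν * (η : G → ℂ), hirr⟩, ?_, ?_⟩
  · intro n
    change hf ν n * (η : G → ℂ) n = _
    have h1 := hβN n
    rw [hf_apply, hf_apply, map_one] at h1
    have h2 : μ (n : G) = 1 := Units.ext h1
    rw [hf_apply, hν, MonoidHom.pow_apply, h2, one_pow, Units.val_one, one_mul, hη n]
  · apply real_odd_principal hM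
    · have h1 : charDegree (hf ν * (η : G → ℂ)) = charDegree (θ : N → ℂ) := by
        unfold charDegree
        rw [Pi.mul_apply, hf_at_one, one_mul, ← hηN]
        rfl
      change Odd (charDegree (hf ν * (η : G → ℂ)))
      rw [h1]; exact hodd
    · intro g hg
      change (hf ν * (η : G → ℂ)) g⁻¹ = (hf ν * (η : G → ℂ)) g
      rw [char_inv (irr_isChar hirr)]
      have h1 : conj ((η : G → ℂ) g) = hf μ g * (η : G → ℂ) g := congrFun hβη g
      have h2 : (μ g : ℂˣ) ^ m = 1 := by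
        have h3 : ((μ g) ^ m) ^ 2 ^ s = 1 := by
          rw [← pow_mul, mul_comm, ← hsm, ← MonoidHom.pow_apply, pow_orderOf_eq_one]; rfl
        have h4 : ((μ g) ^ m) ^ orderOf g = 1 := by
          rw [← pow_mul, mul_comm, pow_mul, ← map_pow, pow_orderOf_eq_one, map_one, one_pow]
        have hcop : Nat.Coprime (2 ^ s) (orderOf g) := by
          apply Nat.Coprime.pow_left
          exact (Nat.Prime.coprime_iff_not_dvd Nat.prime_two).mpr hg
        have h5 := orderOf_dvd_of_pow_eq_one h3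
        have h6 := orderOf_dvd_of_pow_eq_one h4
        have h7 := Nat.dvd_gcd h5 h6
        rw [hcop, Nat.dvd_one] at h7
        exact orderOf_eq_one_iff.mp h7
      have hconjμ : conj ((μ g : ℂˣ) : ℂ) = (((μ g)⁻¹ : ℂˣ) : ℂ) := by
        have h3 : IsCharacter G (hf μ) := irr_isChar hβ
        have h4 := char_inv h3 g
        rw [hf_apply, hf_apply, map_inv] at h4
        exact h4.symm
      rw [Pi.mul_apply, map_mul, h1, hf_apply, hf_apply, hν, MonoidHom.pow_apply,
        Units.val_pow_eq_pow_val, map_pow, hconjμ, ← mul_assoc]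
      congr 1
      have h8 : ((μ g)⁻¹) ^ (t + 1) * μ g = (μ g) ^ (t + 1) := by
        have h9 : (μ g) ^ (t + 1) * (μ g) ^ (t + 1) = μ g := by
          rw [← pow_add]
          have : t + 1 + (t + 1) = m + 1 := by omega
          rw [this, pow_succ, h2, one_mul]
        rw [inv_pow]
        nth_rewrite 2 [← h9]
        rw [inv_mul_cancel_left]
      have := congrArg (fun u : ℂˣ => (u : ℂ)) h8
      simpa using this

end St

end Cfsg.Agent.H26
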