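import Mathlib
import Cfsg.Agent.H26.Real2

set_option autoImplicit false

/-!
# Blocks of small defect, blocks of rank one
-/

namespace Cfsg.Agent.H26

open Cfsg Cfsg.Agent.H3 Cfsg.Agent.H11 Cfsg.Agent.H27 Finset
open scoped ComplexConjugate

universe u

section Four

variable {M : Ideal AlgInt} {G : Type u} [Group G] [Fintype G]

/-- Blocks of defect two for `p = 2` have four members. -/
theorem card_eq_four (hM : IsPModular 2 M) {B : Set (IrrCharacter G)} (hB : IsPBlock M B)
    (hd : blockDefect 2 B = 2) : Nat.card B = 4 := by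
  classical
  have hp2 : Fact (Nat.Prime 2) := ⟨Nat.prime_two⟩
  have := Fintype.ofFinite (IrrCharacter G)
  have hh : ∀ χ ∈ B, blockHeight 2 B (χ : G → ℂ) = 0 := by
    intro χ hχ
    by_contra h
    have := (height_bound hM hB hχ h).1
    omega
  obtain ⟨c, h1, h2, h3, h4, h5, h6⟩ := exists_cmat hM hB
  obtain ⟨χ₀, hχ₀, h0⟩ := exists_height_zero hM hB
  have hsq := cmat_sq hM hB h1 h2 h3 hχ₀
  have hodd : ∀ ψ ∈ B, c χ₀ ψ % 2 = 1 := by
    intro ψ hψ
    have := h5 χ₀ ψ hχ₀ hψ h0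
    rw [hh ψ hψ, zero_add, pow_one] at this
    have h7 : ((2 : ℕ) : ℤ) = 2 := rfl
    rw [h7] at this
    omega
  have hmod : ∀ ψ ∈ B, c χ₀ ψ ^ 2 % 8 = 1 := by
    intro ψ hψ
    have h7 := hodd ψ hψ
    have h8 : c χ₀ ψ % 8 = 1 ∨ c χ₀ ψ % 8 = 3 ∨ c χ₀ ψ % 8 = 5 ∨ c χ₀ ψ % 8 = 7 := by omega
    rw [sq, Int.mul_emod]
    rcases h8 with h | h | h | h <;> rw [h] <;> norm_num
  have hsum : (∑ ψ : IrrCharacter G, c χ₀ ψ ^ 2) % 8 = (Nat.card B : ℤ) % 8 := by
    have e1 : ∑ ψ : IrrCharacter G, c χ₀ ψ ^ 2 = ∑ ψ : IrrCharacter G with ψ ∈ B, c χ₀ ψ ^ 2 := by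
      rw [Finset.sum_filter_of_ne]
      intro ψ _ hne
      by_contra hψ
      rw [h2 χ₀ ψ hψ] at hne
      exact hne (by norm_num)
    rw [e1, Finset.sum_int_mod, Finset.sum_congr rfl fun ψ hψ => hmod ψ (Finset.mem_filter.mp hψ).2,
      Finset.sum_const, nsmul_eq_mul, mul_one, natCard_block (B := B)]
  rw [hsq, hd] at hsum
  have h7 := hodd χ₀ hχ₀
  have h8 : ((2 : ℕ) : ℤ) ^ 2 = 4 := by norm_num
  rw [h8] at hsum
  have h9 := st4494 hM B hB
  rw [hd] at h9
  have h10 : 2 ^ (2 * 2) = 16 := by norm_num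
  rw [h10] at h9
  omega

end Four

section St

variable {G : Type u} [Group G] [Finite G]

theorem st4637 (M : Ideal AlgInt) (hM : IsPModular 2 M)
    (B : Set (IrrCharacter G)) (hB : IsPBlock M B) (P : Subgroup G)
    (hPD : IsDefectGroup 2 M B P) (hV : IsKleinFour P)
    (c : Set (IrrCharacter (Subgroup.centralizer (P : Set G))))
    (hc : IsInducedBlock M (Subgroup.centralizer (P : Set G)) c B) (T : Subgroup G)
    (hT : ∀ g : G, g ∈ T ↔ (g ∈ Subgroup.normalizer (P : Set G) ∧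
      StabilizesBlock (Subgroup.centralizer (P : Set G)) c g))
    (e : ℕ) (he : (Subgroup.centralizer (P : Set G)).relIndex T = e) :
    (e = 1 ∨ e = 3) ∧ Nat.card B = 4 ∧ blockRank 2 B = e := by
  classical
  have hp2 : Fact (Nat.Prime 2) := ⟨Nat.prime_two⟩
  have := Fintype.ofFinite G
  have := pmod_isPrime hM
  have := charP_KF hM
  obtain ⟨hcb, hm⟩ := maxB_of_induced 2 M hM B hB P hPD c hc
  have hTs : T = stab (nz P) (EH M (cz P) c) := eq_stab hcb hT
  have hcardP : Nat.card P = 4 := hV.card_four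
  have hmul1 : ∀ x ∈ P, x * x = 1 := by
    intro x hx
    have := IsKleinFour.mul_self (⟨x, hx⟩ : P)
    exact congrArg Subtype.val this
  have hab : ∀ x ∈ P, ∀ y ∈ P, x * y = y * x := by
    intro x hx y hy
    have h1 := hmul1 _ (P.mul_mem hx hy)
    have h2 := hmul1 x hx
    have h3 := hmul1 y hy
    have h4 : x * y = (x * y)⁻¹ := eq_inv_of_mul_eq_one_left h1
    rw [h4, mul_inv_rev, inv_eq_of_mul_eq_one_left h2, inv_eq_of_mul_eq_one_left h3]
  have hdef : blockDefect 2 B = 2 := by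
    have h1 := card_defect hM hB hPD
    rw [hcardP] at h1
    have h2 : (2 : ℕ) ^ 2 = 2 ^ blockDefect 2 B := by rw [← h1]; norm_num
    exact (Nat.pow_right_injective le_rfl h2).symm
  have hk := card_eq_four hM hB hdef
  have hCT : cz P ≤ T := by rw [hTs]; exact cz_le_stab hm.1.2.1.2
  have hTN : T ≤ nz P := by rw [hTs]; exact stab_le _ _
  have hodd : ¬ 2 ∣ e := by rw [← he, hTs]; exact hm.not_dvd_abelian hab
  have hCn : ((cz P).subgroupOf T).Normal := by
    have h1 : (cz P).subgroupOf (nz P) = (Subgroup.normalizerMonoidHom P).ker :=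
      (Subgroup.normalizerMonoidHom_ker P).symm
    have h2 : (cz P).subgroupOf T = ((cz P).subgroupOf (nz P)).comap
        (Subgroup.inclusion hTN) := by
      ext x
      rw [Subgroup.mem_comap, Subgroup.mem_subgroupOf, Subgroup.mem_subgroupOf]
      rfl
    rw [h2, h1]
    infer_instance
  have heidx : ((cz P).subgroupOf T).index = e := he
  -- free action
  have hfree : ∀ t ∈ T, ∀ u ∈ P, u ≠ 1 → t * u * t⁻¹ = u → t ∈ cz P := by
    intro t ht u hu hu1 htu
    have hconj : ∀ v ∈ P, t * v * t⁻¹ ∈ P := fun v hv =>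
      (Subgroup.mem_normalizer_iff.mp (hTN ht) v).mp hv
    -- t^2 centralizes P
    have hcard3 : ∀ v ∈ P, v ≠ 1 → v ≠ u → ∀ w ∈ P, w = 1 ∨ w = u ∨ w = v ∨ w = u * v := by
      intro v hv hv1 hvu w hw
      by_contra hcon
      push Not at hcon
      obtain ⟨h1, h2, h3, h4⟩ := hcon
      have h5 := IsKleinFour.eq_mul_of_ne_all (x := (⟨u, hu⟩ : P)) (y := ⟨v, hv⟩)
        (z := ⟨w, hw⟩) (fun h => hu1 (congrArg Subtype.val h))
        (fun h => hv1 (congrArg Subtype.val h)) (fun h => hvu (congrArg Subtype.val h).symm)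
        (fun h => h1 (congrArg Subtype.val h)) (fun h => h2 (congrArg Subtype.val h))
        (fun h => h3 (congrArg Subtype.val h))
      exact h4 (congrArg Subtype.val h5)
    have hsq : t * t ∈ cz P := by
      rw [Subgroup.mem_centralizer_iff]
      intro v hv
      suffices h : t * (t * v * t⁻¹) * t⁻¹ = v by
        calc v * (t * t) = (t * (t * v * t⁻¹) * t⁻¹) * (t * t) := by rw [h]
          _ = t * t * v := by group
      by_cases hv1 : v = 1
      · rw [hv1]; group
      by_cases hvu : v = u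
      · rw [hvu, htu, htu]
      have hne1 : t * v * t⁻¹ ≠ 1 := by
        intro h
        apply hv1
        have : v = t⁻¹ * (t * v * t⁻¹) * t := by group
        rw [this, h]; group
      have hneu : t * v * t⁻¹ ≠ u := by
        intro h
        apply hvu
        have h1 : v = t⁻¹ * (t * v * t⁻¹) * t := by group
        rw [h1, h]
        nth_rewrite 1 [← htu]
        group
      rcases hcard3 v hv hv1 hvu _ (hconj v hv) with h | h | h | h
      · exact absurd h hne1
      · exact absurd h hneu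
      · rw [h, h]
      · rw [h]
        have : t * (u * v) * t⁻¹ = (t * u * t⁻¹) * (t * v * t⁻¹) := by group
        rw [this, htu, h, ← mul_assoc, hmul1 u hu, one_mul]
    -- odd index
    have h1 : (⟨t, ht⟩ : T) ^ e ∈ (cz P).subgroupOf T := by
      rw [← heidx]
      exact Subgroup.pow_index_mem _ _
    have h2 : t ^ e ∈ cz P := Subgroup.mem_subgroupOf.mp h1
    obtain ⟨j, hj⟩ : ∃ j, e = 2 * j + 1 := ⟨e / 2, by omega⟩
    have h3 : t = t ^ e * ((t * t) ^ j)⁻¹ := by
      rw [hj, pow_succ', pow_mul, sq, mul_assoc, mul_inv_cancel, mul_one]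
    rw [h3]
    exact (cz P).mul_mem h2 ((cz P).inv_mem ((cz P).pow_mem hsq j))
  -- bound for e
  have hPne : ∃ u ∈ P, u ≠ 1 := by
    have : Nontrivial P := by
      rw [← Finite.one_lt_card_iff_nontrivial, hcardP]; norm_num
    obtain ⟨u, hu⟩ := exists_ne (1 : P)
    exact ⟨u, u.2, fun h => hu (Subtype.ext h)⟩
  obtain ⟨u0, hu0, hu01⟩ := hPne
  have hle : e ≤ 3 := by
    let S : Finset P := univ.filter (· ≠ 1)
    have hS : S.card = 3 := by
      have h1 : S.card + 1 = Nat.card P := by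
        rw [Nat.card_eq_fintype_card, ← Finset.card_univ (α := P),
          ← Finset.card_erase_add_one (Finset.mem_univ (1 : P))]
        congr 1
        congr 1
        ext x
        simp [S]
      omega
    have := Fintype.ofFinite (T ⧸ (cz P).subgroupOf T)
    have h1 : ((cz P).subgroupOf T).index = Fintype.card (T ⧸ (cz P).subgroupOf T) := by
      rw [Subgroup.index_eq_card, Nat.card_eq_fintype_card]
    rw [← heidx, h1, ← Finset.card_univ, ← hS]
    have hmemP : ∀ q : T ⧸ (cz P).subgroupOf T, (q.out : G) * u0 * (q.out : G)⁻¹ ∈ P :=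
      fun q => (Subgroup.mem_normalizer_iff.mp (hTN q.out.2) u0).mp hu0
    apply Finset.card_le_card_of_injOn
      (fun q => (⟨(q.out : G) * u0 * (q.out : G)⁻¹, hmemP q⟩ : P))
    · intro q _
      rw [Finset.mem_coe, Finset.mem_filter]
      refine ⟨Finset.mem_univ _, fun h => hu01 ?_⟩
      have h2 : (q.out : G) * u0 * (q.out : G)⁻¹ = 1 := congrArg Subtype.val h
      have h3 : u0 = (q.out : G)⁻¹ * ((q.out : G) * u0 * (q.out : G)⁻¹) * (q.out : G) := by
        group
      rw [h3, h2]; group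
    · intro q _ q' _ h
      have h2 : (q.out : G) * u0 * (q.out : G)⁻¹ = (q'.out : G) * u0 * (q'.out : G)⁻¹ :=
        congrArg Subtype.val h
      have h3 : ((q'.out : G)⁻¹ * (q.out : G)) ∈ cz P := by
        apply hfree _ (T.mul_mem (T.inv_mem q'.out.2) q.out.2) u0 hu0 hu01
        calc (q'.out : G)⁻¹ * (q.out : G) * u0 * ((q'.out : G)⁻¹ * (q.out : G))⁻¹
            = (q'.out : G)⁻¹ * ((q.out : G) * u0 * (q.out : G)⁻¹) * (q'.out : G) := by group
          _ = u0 := by rw [h2]; group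
      have h4 : (q'.out : T)⁻¹ * q.out ∈ (cz P).subgroupOf T := Subgroup.mem_subgroupOf.mpr h3
      have h5 := QuotientGroup.eq.mpr h4
      rw [QuotientGroup.out_eq', QuotientGroup.out_eq'] at h5
      exact h5.symm
  have he13 : e = 1 ∨ e = 3 := by
    have : e ≠ 0 := by rintro rfl; exact hodd (dvd_zero _)
    omega
  refine ⟨he13, hk, ?_⟩
  -- the count
  have hePr : IsBrP 2 P (EH M (cz P) c) := hm.1.2.1
  have hex : ∀ v : G, ∃ g, v ∈ P → PLE 2 (Subgroup.zpowers v) g P (EH M (cz P) c) := by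
    intro v
    by_cases hv : v ∈ P
    · obtain ⟨g, hg⟩ := exists_ple hePr (Subgroup.zpowers v) (by rwa [Subgroup.zpowers_le])
      exact ⟨g, fun _ => hg⟩
    · exact ⟨0, fun h => absurd h hv⟩
  choose f' hf' using hex
  obtain ⟨Ω, hΩ1, hΩ2⟩ := exists_Om (p := 2) hB
  have hGne : (Nat.card G : ℂ) ≠ 0 := card_ne_zeroC
  have h1 := fus_count hm (K := T) (by rw [hTs]) (by
    intro Q g hg
    rw [hTs]
    exact hm.inner_of_abelian hab Q g hg) Ω hΩ1 f' (fun u hu => hf' u hu)
    (fun x g => (rk 2 (cz (Subgroup.zpowers x)) g : ℂ)) (by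
      intro g ω hω
      have h2 : IsBlk (cz (Subgroup.zpowers ω.1)) ω.2 := ((hΩ1 ω.1 ω.2).mp hω).2.2.1.2
      rw [← cg_zpowers, ← cg_cz, rk_cj hM h2])
  rw [total_rk hM hB hΩ2, hk] at h1
  have h2 : (Nat.card T : ℂ) * 4 = ∑ u : G with u ∈ P,
      (Nat.card (T ⊓ cz (Subgroup.zpowers u) : Subgroup G) : ℂ) *
        (rk 2 (cz (Subgroup.zpowers u)) (f' u) : ℂ) := by
    apply mul_left_cancel₀ hGne
    rw [mul_left_comm]
    exact_mod_cast h1
  have hone : ∀ u ∈ P, u ≠ 1 → T ⊓ cz (Subgroup.zpowers u) = cz P ∧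
      rk 2 (cz (Subgroup.zpowers u)) (f' u) = 1 := by
    intro u hu hu1
    have hTC : T ⊓ cz (Subgroup.zpowers u) = cz P := by
      apply le_antisymm
      · rintro x ⟨hx, hxu⟩
        apply hfree x hx u hu hu1
        exact mul_inv_eq_iff_eq_mul.mpr (mem_cz_zpowers.mp hxu)
      · exact le_inf hCT (cz_anti (by rwa [Subgroup.zpowers_le]))
    refine ⟨hTC, ?_⟩
    have hfu := hf' u hu
    have hPC : P ≤ cz (Subgroup.zpowers u) := by
      intro x hx
      rw [mem_cz_zpowers]
      exact hab x hx u hu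
    obtain ⟨b, hb, hbe⟩ := exists_EH (hfu.isBrP_left hePr).2
    have hnil : IsNilK 2 (cz (Subgroup.zpowers u)) (f' u) := by
      rw [hm.local_nil_iff hfu hab, ← hTs, hTC]
    have hD : IsDef 2 (cz (Subgroup.zpowers u)) (f' u) P :=
      hm.isDef_mid hfu le_rfl (cz_le_stab (hfu.isBrP_left hePr).2) hPC
    rw [← hbe] at hnil hD
    have hD' := (isDefectGroup_iff_EH hb hPC).mpr hD
    rw [← hbe, rk_EH hb]
    refine (nilpotent_abelian 2 M hM (isNilpotentBlock_iff_EH.mpr ⟨hb, hnil⟩) hD' ?_).2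
    rintro ⟨x, hx⟩ hx' ⟨y, hy⟩ hy'
    exact Subtype.ext (hab x (Subgroup.mem_subgroupOf.mp hx') y
      (Subgroup.mem_subgroupOf.mp hy'))
  have hmem1 : (1 : G) ∈ univ.filter (fun u : G => u ∈ P) :=
    Finset.mem_filter.mpr ⟨Finset.mem_univ _, P.one_mem⟩
  rw [← Finset.add_sum_erase _ _ hmem1] at h2
  have h9 : f' 1 = EG M B := by
    have := hf' 1 P.one_mem
    rw [Subgroup.zpowers_one_eq_bot] at this
    exact ple_unique hePr _ this hm.1.ple
  have hrest : ∑ u ∈ (univ.filter (fun u : G => u ∈ P)).erase 1,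
      (Nat.card (T ⊓ cz (Subgroup.zpowers u) : Subgroup G) : ℂ) *
        (rk 2 (cz (Subgroup.zpowers u)) (f' u) : ℂ) = 3 * (Nat.card (cz P) : ℂ) := by
    have e1 : ∀ u ∈ (univ.filter (fun u : G => u ∈ P)).erase 1,
        (Nat.card (T ⊓ cz (Subgroup.zpowers u) : Subgroup G) : ℂ) *
        (rk 2 (cz (Subgroup.zpowers u)) (f' u) : ℂ) = (Nat.card (cz P) : ℂ) := by
      intro u hu
      obtain ⟨hu1, hu2⟩ := Finset.mem_erase.mp hu
      obtain ⟨e2, e3⟩ := hone u (Finset.mem_filter.mp hu2).2 hu1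
      rw [e2, e3, Nat.cast_one, mul_one]
    rw [Finset.sum_congr rfl e1, Finset.sum_const, nsmul_eq_mul]
    congr 1
    have e2 : (univ.filter (fun u : G => u ∈ P)).card = Nat.card P := by
      rw [← Fintype.card_subtype, ← Nat.card_eq_fintype_card]
    have e3 := Finset.card_erase_of_mem hmem1
    rw [e3, e2, hcardP]
    norm_num
  rw [hrest, h9, Subgroup.zpowers_one_eq_bot, rk_bot hM hB, cz_bot, inf_top_eq] at h2
  have hTcard : Nat.card T = e * Nat.card (cz P) := by
    rw [← he, mul_comm]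
    have := Subgroup.card_mul_index ((cz P).subgroupOf T)
    rw [Nat.card_congr (Subgroup.subgroupOfEquivOfLe hCT).toEquiv] at this
    exact this.symm
  have h3 : Nat.card T * 4 = Nat.card T * blockRank 2 B + 3 * Nat.card (cz P) := by
    exact_mod_cast h2
  rw [hTcard] at h3
  have hCpos : 0 < Nat.card (cz P) := Nat.card_pos
  have h4 : e * 4 = e * blockRank 2 B + 3 := by
    apply Nat.eq_of_mul_eq_mul_right hCpos
    calc e * 4 * Nat.card (cz P) = e * Nat.card (cz P) * 4 := by ring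
      _ = _ := h3
      _ = _ := by ring
  rcases he13 with h | h <;> subst h <;> omega

end St

end Cfsg.Agent.H26
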