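import Mathlib
import Cfsg.Agent.H26.Small

set_option autoImplicit false

/-!
# Blocks of rank one; 2-blocks of defect one
-/

namespace Cfsg.Agent.H26

open Cfsg Cfsg.Agent.H3 Cfsg.Agent.H11 Cfsg.Agent.H27 Finset
open scoped ComplexConjugate

universe u

section RankOne

variable {G : Type u} [Group G] [Fintype G]

theorem not_dvd_order_one {p : ℕ} [hp : Fact p.Prime] : ¬ p ∣ orderOf (1 : G) := by
  rw [orderOf_one]; exact hp.out.one_lt.not_ge ∘ Nat.le_of_dvd one_pos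

theorem st4675 (p : ℕ) [hp : Fact p.Prime] (M : Ideal AlgInt) (hM : IsPModular p M)
    (B : Set (IrrCharacter G)) (hB : IsPBlock M B) (P : Subgroup G)
    (hP : IsDefectGroup p M B P) (hl : blockRank p B = 1) :
    ∃ φ : G → ℂ, ∃ d : IrrCharacter G → ℕ,
      (∃ n : IrrCharacter G → ℤ, ∀ x : G, IsPRegular p x →
        φ x = ∑ᶠ ψ ∈ B, (n ψ : ℂ) * (ψ : G → ℂ) x) ∧
      (∀ χ ∈ B, ∀ x : G, IsPRegular p x → (χ : G → ℂ) x = (d χ : ℂ) * φ x) ∧
      ∑ᶠ χ ∈ B, d χ ^ 2 = Nat.card P := by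
  classical
  have := Fintype.ofFinite (IrrCharacter G)
  have hreg : ∀ x : G, IsPRegular p x ↔ ¬ p ∣ orderOf x := fun x => Iff.rfl
  have hdeg : ∀ χ : IrrCharacter G, ∃ n : ℕ, 0 < n ∧ (χ : G → ℂ) 1 = n :=
    fun χ => irr_one_eq_nat χ.2
  choose D hD0 hD using hdeg
  obtain ⟨χ₀, hχ₀, h0⟩ := exists_height_zero hM hB
  -- the gcd of the degrees
  let I : Ideal ℤ := Ideal.span (Set.range (fun χ : B => (D χ.1 : ℤ)))
  obtain ⟨g0, hg0⟩ := (IsPrincipalIdealRing.principal I).principal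
  have hmem : ∀ χ ∈ B, (D χ : ℤ) ∈ I := fun χ hχ => Ideal.subset_span ⟨⟨χ, hχ⟩, rfl⟩
  have hdvd0 : ∀ χ ∈ B, g0 ∣ (D χ : ℤ) := by
    intro χ hχ
    have := hmem χ hχ
    rw [hg0] at this
    exact Ideal.mem_span_singleton.mp this
  set g : ℕ := g0.natAbs with hg
  have hgI : (g : ℤ) ∈ I := by
    rw [hg0, hg]
    change (g0.natAbs : ℤ) ∈ Ideal.span {g0}
    rw [Ideal.mem_span_singleton]
    exact Int.dvd_natAbs_self
  have hdvd : ∀ χ ∈ B, g ∣ D χ := by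
    intro χ hχ
    have := hdvd0 χ hχ
    rw [← Int.natAbs_dvd_natAbs, Int.natAbs_natCast] at this
    exact this
  have hgpos : 0 < g := Nat.pos_of_dvd_of_pos (hdvd χ₀ hχ₀) (hD0 χ₀)
  have := Fintype.ofFinite B
  obtain ⟨n0, hn0⟩ := (Submodule.mem_span_range_iff_exists_fun ℤ).mp hgI
  let n : IrrCharacter G → ℤ := fun χ => if h : χ ∈ B then n0 ⟨χ, h⟩ else 0
  have hn : ∑ χ : IrrCharacter G with χ ∈ B, n χ * D χ = g := by
    rw [← hn0]
    rw [← Finset.sum_subtype_eq_sum_filter]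
    apply Finset.sum_bij' (fun (x : {χ : IrrCharacter G // χ ∈ B}) _ => (⟨x.1, x.2⟩ : B))
      (fun (x : B) _ => (⟨x.1, x.2⟩ : {χ : IrrCharacter G // χ ∈ B}))
    · intro _ _; exact Finset.mem_univ _
    · intro x _
      rw [Finset.mem_subtype]
      exact Finset.mem_univ _
    · intro _ _; rfl
    · intro _ _; rfl
    · intro x _
      change (if h : x.1 ∈ B then n0 ⟨x.1, h⟩ else 0) * (D x.1 : ℤ) = n0 ⟨x.1, x.2⟩ • _
      rw [dif_pos x.2, smul_eq_mul]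
  let d : IrrCharacter G → ℕ := fun χ => D χ / g
  have hd : ∀ χ ∈ B, D χ = d χ * g := fun χ hχ => (Nat.div_mul_cancel (hdvd χ hχ)).symm
  let φ : G → ℂ := fun x => (g : ℂ) / D χ₀ * (χ₀ : G → ℂ) x
  have hDχ₀ : (D χ₀ : ℂ) ≠ 0 := by exact_mod_cast (hD0 χ₀).ne'
  have hgne : (g : ℂ) ≠ 0 := by exact_mod_cast hgpos.ne'
  have hφ : ∀ χ ∈ B, ∀ x : G, ¬ p ∣ orderOf x → (χ : G → ℂ) x = (d χ : ℂ) * φ x := by
    intro χ hχ x hx
    have h1 := rank_one_prop hl hχ hχ₀ hx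
    rw [hD χ₀, hD χ] at h1
    change _ = (d χ : ℂ) * ((g : ℂ) / D χ₀ * (χ₀ : G → ℂ) x)
    have h2 : (D χ : ℂ) = d χ * g := by exact_mod_cast hd χ hχ
    field_simp
    rw [mul_comm, h1, h2]
  have hφn : ∀ x : G, ¬ p ∣ orderOf x →
      φ x = ∑ ψ : IrrCharacter G with ψ ∈ B, (n ψ : ℂ) * (ψ : G → ℂ) x := by
    intro x hx
    have h1 : ∑ ψ : IrrCharacter G with ψ ∈ B, (n ψ : ℂ) * (ψ : G → ℂ) x =
        (∑ ψ : IrrCharacter G with ψ ∈ B, (n ψ : ℂ) * d ψ) * φ x := by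
      rw [Finset.sum_mul]
      apply Finset.sum_congr rfl
      intro ψ hψ
      rw [hφ ψ (Finset.mem_filter.mp hψ).2 x hx]
      ring
    have h2 : ∑ ψ : IrrCharacter G with ψ ∈ B, (n ψ : ℂ) * d ψ = 1 := by
      apply mul_right_cancel₀ hgne
      rw [Finset.sum_mul, one_mul]
      have h3 : ((∑ χ : IrrCharacter G with χ ∈ B, n χ * D χ : ℤ) : ℂ) = g := by
        rw [hn]; push_cast; rfl
      refine Eq.trans ?_ h3
      push_cast
      apply Finset.sum_congr rfl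
      intro χ hχ
      have h4 : (D χ : ℂ) = d χ * g := by exact_mod_cast hd χ (Finset.mem_filter.mp hχ).2
      rw [h4]; ring
    rw [h1, h2, one_mul]
  refine ⟨φ, d, ⟨n, fun x hx => ?_⟩, fun χ hχ x hx => hφ χ hχ x ((hreg x).mp hx), ?_⟩
  · rw [finsum_mem_irr]; exact hφn x ((hreg x).mp hx)
  -- the Cartan invariant
  obtain ⟨c, h1, h2, h3, h4, h5, h6⟩ := exists_cmat hM hB
  have hsq := cmat_sq hM hB h1 h2 h3 hχ₀
  have hφreal : ∀ a : ℕ, conj (a : ℂ) = a := fun a => Complex.conj_natCast a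
  have hmm : ∀ χ ψ : IrrCharacter G, χ ∈ B → ψ ∈ B →
      mm p (χ : G → ℂ) (ψ : G → ℂ) = d χ * d ψ * mm p φ φ := by
    intro χ ψ hχ hψ
    unfold mm classInner
    rw [mul_left_comm]
    congr 1
    rw [Finset.mul_sum]
    apply Finset.sum_congr rfl
    intro x _
    by_cases hx : p ∣ orderOf x
    · rw [pr_sing hx, pr_sing hx]; ring
    · rw [pr_reg hx, pr_reg hx, hφ χ hχ x hx, hφ ψ hψ x hx, map_mul, hφreal]
      ring
  -- m := p^d mm φ φ
  have hmmφ : mm p φ φ = ∑ χ : IrrCharacter G with χ ∈ B, ∑ ψ : IrrCharacter G with ψ ∈ B,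
      (n χ : ℂ) * n ψ * mm p (χ : G → ℂ) (ψ : G → ℂ) := by
    have h7 : ∑ ψ : IrrCharacter G with ψ ∈ B, (n ψ : ℂ) * d ψ = 1 := by
      have h8 := hφn 1 not_dvd_order_one
      have h9 : φ 1 = g := by
        change (g : ℂ) / D χ₀ * (χ₀ : G → ℂ) 1 = g
        rw [hD χ₀]; field_simp
      rw [h9] at h8
      apply mul_right_cancel₀ hgne
      rw [one_mul, Finset.sum_mul]
      nth_rewrite 2 [h8]
      apply Finset.sum_congr rfl
      intro ψ hψ
      rw [hφ ψ (Finset.mem_filter.mp hψ).2 1 not_dvd_order_one, h9]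
      ring
    have h8 : ∀ χ ∈ univ.filter (fun χ : IrrCharacter G => χ ∈ B),
        ∑ ψ : IrrCharacter G with ψ ∈ B, (n χ : ℂ) * n ψ * mm p (χ : G → ℂ) (ψ : G → ℂ) =
        (n χ : ℂ) * d χ * (∑ ψ : IrrCharacter G with ψ ∈ B, (n ψ : ℂ) * d ψ) * mm p φ φ := by
      intro χ hχ
      rw [Finset.mul_sum, Finset.sum_mul]
      apply Finset.sum_congr rfl
      intro ψ hψ
      rw [hmm χ ψ (Finset.mem_filter.mp hχ).2 (Finset.mem_filter.mp hψ).2]
      ring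
    rw [Finset.sum_congr rfl h8, h7]
    rw [← Finset.sum_mul]
    simp only [mul_one]
    rw [h7, one_mul]
  set m : ℤ := ∑ χ : IrrCharacter G with χ ∈ B, ∑ ψ : IrrCharacter G with ψ ∈ B,
      n χ * n ψ * c χ ψ with hm
  have hmc : (p : ℂ) ^ blockDefect p B * mm p φ φ = m := by
    rw [hmmφ, Finset.mul_sum, hm]
    push_cast
    apply Finset.sum_congr rfl
    intro χ hχ
    rw [Finset.mul_sum]
    apply Finset.sum_congr rfl
    intro ψ hψ
    rw [← h1 χ ψ (Finset.mem_filter.mp hχ).2 (Finset.mem_filter.mp hψ).2]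
    ring
  have hcm : ∀ χ ψ, χ ∈ B → ψ ∈ B → c χ ψ = d χ * d ψ * m := by
    intro χ ψ hχ hψ
    have : (c χ ψ : ℂ) = d χ * d ψ * m := by
      rw [← h1 χ ψ hχ hψ, hmm χ ψ hχ hψ, ← hmc]; ring
    exact_mod_cast this
  have hpm : ¬ (p : ℤ) ∣ c χ₀ χ₀ := by
    have := h5 χ₀ χ₀ hχ₀ hχ₀ h0
    rwa [h0, zero_add, pow_one] at this
  have hpm' : ¬ (p : ℤ) ∣ m := by
    intro h
    apply hpm
    rw [hcm χ₀ χ₀ hχ₀ hχ₀]
    exact Dvd.dvd.mul_left h _
  -- sum of squares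
  have hsq2 : (d χ₀ : ℤ) ^ 2 * m ^ 2 * ∑ ψ : IrrCharacter G with ψ ∈ B, (d ψ : ℤ) ^ 2 =
      (p : ℤ) ^ blockDefect p B * ((d χ₀ : ℤ) ^ 2 * m) := by
    have e1 : ∑ ψ : IrrCharacter G, c χ₀ ψ ^ 2 = ∑ ψ : IrrCharacter G with ψ ∈ B,
        c χ₀ ψ ^ 2 := by
      rw [Finset.sum_filter_of_ne]
      intro ψ _ hne
      by_contra hψ
      rw [h2 χ₀ ψ hψ] at hne
      exact hne (by norm_num)
    rw [e1, hcm χ₀ χ₀ hχ₀ hχ₀] at hsq
    rw [Finset.mul_sum]
    calc _ = ∑ ψ : IrrCharacter G with ψ ∈ B, c χ₀ ψ ^ 2 := by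
          apply Finset.sum_congr rfl
          intro ψ hψ
          rw [hcm χ₀ ψ hχ₀ (Finset.mem_filter.mp hψ).2]; ring
      _ = _ := by rw [hsq]; ring
  have hd0 : (d χ₀ : ℤ) ≠ 0 := by
    intro h
    have : D χ₀ = 0 := by
      rw [hd χ₀ hχ₀]
      have : d χ₀ = 0 := by exact_mod_cast h
      rw [this, zero_mul]
    exact (hD0 χ₀).ne' this
  have hm0 : m ≠ 0 := by rintro h; exact hpm' (by rw [h]; exact dvd_zero _)
  have hfin : m * ∑ ψ : IrrCharacter G with ψ ∈ B, (d ψ : ℤ) ^ 2 =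
      (p : ℤ) ^ blockDefect p B := by
    have h7 : (d χ₀ : ℤ) ^ 2 * m ≠ 0 := mul_ne_zero (pow_ne_zero 2 hd0) hm0
    apply mul_left_cancel₀ h7
    linear_combination hsq2
  have hmdvd : m ∣ (p : ℤ) ^ blockDefect p B := ⟨_, hfin.symm⟩
  have hm1 : m = 1 := by
    have hcop : IsCoprime m ((p : ℤ) ^ blockDefect p B) := by
      apply IsCoprime.pow_right
      rw [isCoprime_comm]
      exact (Int.prime_iff_natAbs_prime.mpr (by simpa using hp.out)).coprime_iff_not_dvd.mpr hpm'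
    have h7 : IsUnit m := hcop.isUnit_of_dvd' dvd_rfl hmdvd
    have hpos : 0 ≤ ∑ ψ : IrrCharacter G with ψ ∈ B, (d ψ : ℤ) ^ 2 :=
      Finset.sum_nonneg fun _ _ => sq_nonneg _
    have hpp : 0 < (p : ℤ) ^ blockDefect p B := pow_pos (by exact_mod_cast hp.out.pos) _
    rcases Int.isUnit_iff.mp h7 with h | h
    · exact h
    · rw [h] at hfin; omega
  rw [hm1, one_mul] at hfin
  rw [finsum_mem_irr, card_defect hM hB hP]
  exact_mod_cast hfin

end RankOne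

section DefectOne

variable {G : Type u} [Group G] [Fintype G]

theorem exists_pair_of_card_two {X : Type*} {B : Set X} (h : Nat.card B = 2) {a : X}
    (ha : a ∈ B) : ∃ b ∈ B, b ≠ a ∧ ∀ c ∈ B, c = a ∨ c = b := by
  have h1 : B.ncard = 2 := h
  obtain ⟨x, y, hxy, rfl⟩ := Set.ncard_eq_two.mp h1
  rcases ha with rfl | ha
  · exact ⟨y, by simp, hxy.symm, fun c hc => hc⟩
  · rw [Set.mem_singleton_iff] at ha
    subst ha
    refine ⟨x, by simp, hxy, fun c hc => ?_⟩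
    rcases hc with h | h
    · right; exact h
    · left; exact h

theorem st4513a (M : Ideal AlgInt) (hM : IsPModular 2 M) (x : G) (hx : orderOf x = 2)
    (B : Set (IrrCharacter G)) (hB : IsPBlock M B)
    (hBD : IsDefectGroup 2 M B (Subgroup.zpowers x)) (C : Subgroup G)
    (hC : C = cz (Subgroup.zpowers x))
    (b : Set (IrrCharacter C)) (hb : IsInducedBlock M C b B)
    (θ : IrrCharacter C) (hθ : θ ∈ b)
    (hθx : ∀ z : C, (z : G) = x → (θ : C → ℂ) z = (θ : C → ℂ) 1) :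
    Nat.card B = 2 ∧ (∀ χ ∈ B, ∀ ψ ∈ B, ∀ g : G, ¬ 2 ∣ orderOf g →
      (χ : G → ℂ) g = (ψ : G → ℂ) g) ∧
      ∃ χ₁ ∈ B, ∃ χ₂ ∈ B, χ₁ ≠ χ₂ ∧ ∃ ε₁ ε₂ : ℤ, (ε₁ = 1 ∨ ε₁ = -1) ∧ (ε₂ = 1 ∨ ε₂ = -1) ∧
        ε₁ * ε₂ = -1 ∧ ∀ y : C, ¬ 2 ∣ orderOf y →
          (χ₁ : G → ℂ) (x * y) = (ε₁ : ℂ) * (θ : C → ℂ) y ∧
          (χ₂ : G → ℂ) (x * y) = (ε₂ : ℂ) * (θ : C → ℂ) y := by
  classical
  subst hC
  have hp2 : Fact (Nat.Prime 2) := ⟨Nat.prime_two⟩
  have := Fintype.ofFinite (IrrCharacter G)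
  have := Fintype.ofFinite (cz (Subgroup.zpowers x))
  have := Fintype.ofFinite (IrrCharacter (cz (Subgroup.zpowers x)))
  have := pmod_isPrime hM
  have := charP_KF hM
  have hxp : ∃ k : ℕ, orderOf x = 2 ^ k := ⟨1, by rw [hx, pow_one]⟩
  have hxx : x * x = 1 := by rw [← sq, ← hx]; exact pow_orderOf_eq_one x
  have hx1 : x ≠ 1 := by
    rintro rfl
    rw [orderOf_one] at hx
    omega
  have hcyc : IsCyclic (Subgroup.zpowers x) := inferInstance
  have hab := abelian_of_cyclic hcyc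
  have hcardP : Nat.card (Subgroup.zpowers x) = 2 := by rw [Nat.card_zpowers, hx]
  have hmemP : ∀ y ∈ Subgroup.zpowers x, y = 1 ∨ y = x := by
    intro y hy
    obtain ⟨i, rfl⟩ := Subgroup.mem_zpowers_iff.mp hy
    rcases Int.even_or_odd i with ⟨j, rfl⟩ | ⟨j, rfl⟩
    · left
      rw [← two_mul, zpow_mul]
      have : x ^ (2 : ℤ) = 1 := by rw [zpow_ofNat, sq, hxx]
      rw [this, one_zpow]
    · right
      rw [zpow_add, zpow_mul, zpow_one]
      have : x ^ (2 : ℤ) = 1 := by rw [zpow_ofNat, sq, hxx]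
      rw [this, one_zpow, one_mul]
  have hPC : Subgroup.zpowers x ≤ cz (Subgroup.zpowers x) := by
    intro y hy
    rw [Subgroup.mem_centralizer_iff]
    intro z hz
    exact hab z hz y hy
  have hDf := (isDefectGroup_iff_EG hB).mp hBD
  have hb' := (isInducedBlock_cz_iff (p := 2) (isPGroup_zpowers hxp)).mp hb
  have hbb := hb'.1
  have hm : MaxB 2 (EG M B) (Subgroup.zpowers x) (EH M (cz (Subgroup.zpowers x)) b) :=
    hb'.2.2.maxB_of_isDef hDf
  have hNC : nz (Subgroup.zpowers x) ≤ cz (Subgroup.zpowers x) := by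
    intro g hg
    rw [mem_cz_zpowers]
    have h1 := (Subgroup.mem_normalizer_iff.mp hg x).mp (Subgroup.mem_zpowers x)
    rcases hmemP _ h1 with h | h
    · exfalso; apply hx1
      have : x = g⁻¹ * (g * x * g⁻¹) * g := by group
      rw [this, h]; group
    · exact mul_inv_eq_iff_eq_mul.mp h
  have hn : IsNilK 2 ⊤ (EG M B) := by
    rw [hm.isNil_iff_abelian hab]
    exact (stab_le _ _).trans hNC
  obtain ⟨hk, hl⟩ := nil_abelian hM hB hm hn hab
  rw [hcardP] at hk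
  have hagree : ∀ χ ∈ B, ∀ ψ ∈ B, ∀ g : G, ¬ 2 ∣ orderOf g →
      (χ : G → ℂ) g = (ψ : G → ℂ) g := by
    intro χ hχ ψ hψ g hg
    have h1 := rank_one_prop hl hχ hψ hg
    rw [nil_abelian_deg hM hB hm hn hab hψ hχ] at h1
    exact mul_left_cancel₀ (irr_one_ne_zero χ.2) h1
  refine ⟨hk, hagree, ?_⟩
  -- the local block
  set D : Subgroup (cz (Subgroup.zpowers x)) :=
    (Subgroup.zpowers x).subgroupOf (cz (Subgroup.zpowers x)) with hDdef
  have hbD : IsDefectGroup 2 M b D := (isDefectGroup_iff_EH hbb hPC).mpr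
    (hm.isDef_mid (PLE.refl _ _) le_rfl (cz_le_stab (isBlk_EH hbb)) hPC)
  have hDcard : Nat.card D = 2 := by
    rw [hDdef, Nat.card_congr (Subgroup.subgroupOfEquivOfLe hPC).toEquiv, hcardP]
  have hDZ : D ≤ Subgroup.center (cz (Subgroup.zpowers x)) := by
    rintro ⟨y, hy⟩ hy'
    rw [Subgroup.mem_center_iff]
    rintro ⟨g, hg⟩
    apply Subtype.ext
    exact ((Subgroup.mem_centralizer_iff.mp hg) y (Subgroup.mem_subgroupOf.mp hy')).symm
  have hnilb := nilpotent_of_central 2 M hM hbb hbD hDZ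
  have habD : ∀ y ∈ D, ∀ z ∈ D, y * z = z * y :=
    fun y hy z _ => (Subgroup.mem_center_iff.mp (hDZ hy) z).symm
  have hDefb := (isDefectGroup_iff_EG hbb).mp hbD
  obtain ⟨eb, heb⟩ := hDefb.exists_inB (isBlk_EG hbb)
  have hmb := heb.maxB_of_isDef hDefb
  have hnilb' := (isNilpotentBlock_iff.mp hnilb).2
  obtain ⟨hkb, hlb⟩ := nil_abelian hM hbb hmb hnilb' habD
  rw [hDcard] at hkb
  obtain ⟨θ', hθ', hne, hall⟩ := exists_pair_of_card_two hkb hθ
  have hagreeb : ∀ y : cz (Subgroup.zpowers x), ¬ 2 ∣ orderOf y →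
      (θ' : cz (Subgroup.zpowers x) → ℂ) y = (θ : cz (Subgroup.zpowers x) → ℂ) y := by
    intro g hg
    have h1 := rank_one_prop hlb hθ' hθ hg
    rw [nil_abelian_deg hM hbb hmb hnilb' habD hθ hθ'] at h1
    exact mul_left_cancel₀ (irr_one_ne_zero θ'.2) h1
  have hfil : univ.filter (fun η : IrrCharacter (cz (Subgroup.zpowers x)) => η ∈ b) =
      {θ, θ'} := by
    ext η
    rw [Finset.mem_filter, Finset.mem_insert, Finset.mem_singleton]
    constructor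
    · exact fun h => hall η h.2
    · rintro (h | h)
      · rw [h]; exact ⟨Finset.mem_univ _, hθ⟩
      · rw [h]; exact ⟨Finset.mem_univ _, hθ'⟩
  have hsumb : ∀ F : IrrCharacter (cz (Subgroup.zpowers x)) → ℂ,
      ∑ η : IrrCharacter (cz (Subgroup.zpowers x)) with η ∈ b, F η = F θ + F θ' := by
    intro F
    rw [hfil, Finset.sum_pair (Ne.symm hne)]
  let xC : cz (Subgroup.zpowers x) := ⟨x, mem_cz_zpowers.mpr rfl⟩
  have hxC : ∀ c, xC * c = c * xC := fun c => Subtype.ext (mem_cz_zpowers.mp c.2).symm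
  obtain ⟨m, hm0, hmm⟩ := irr_one_eq_nat θ.2
  have hm' : (θ' : cz (Subgroup.zpowers x) → ℂ) 1 = m := by
    rw [hagreeb 1 not_dvd_order_one, hmm]
  have hmne : (m : ℂ) ≠ 0 := by exact_mod_cast hm0.ne'
  have hθx' : (θ : cz (Subgroup.zpowers x) → ℂ) xC = m := by rw [hθx xC rfl, hmm]
  have hordx : 2 ∣ orderOf xC := by rw [← Subgroup.orderOf_coe]; exact hx ▸ dvd_rfl
  have hθ'x : (θ' : cz (Subgroup.zpowers x) → ℂ) xC = -m := by
    have h1 := kr_eq_zero hM hbb (not_dvd_order_one (p := 2)) hordx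
    rw [kr_eq, hsumb, hmm, hθx', hm', Complex.conj_natCast] at h1
    have h2 : conj ((θ' : cz (Subgroup.zpowers x) → ℂ) xC) = -m := by
      apply mul_left_cancel₀ hmne
      linear_combination h1
    have h3 := congrArg conj h2
    rw [Complex.conj_conj, map_neg, Complex.conj_natCast] at h3
    exact h3
  have hlvθ : lv xC (θ : cz (Subgroup.zpowers x) → ℂ) = 1 := by
    unfold lv; rw [hθx', hmm]; exact div_self hmne
  have hlvθ' : lv xC (θ' : cz (Subgroup.zpowers x) → ℂ) = -1 := by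
    unfold lv; rw [hθ'x, hm']; field_simp
  -- the only block inducing B
  have hC' : cz (Subgroup.zpowers x) = Subgroup.centralizer ({x} : Set G) :=
    centralizer_zpowers x
  have hind : indS M (cz (Subgroup.zpowers x)) B = {b} := by
    ext b'
    rw [mem_indS, Finset.mem_singleton, isInducedBlock_cz_iff (p := 2) (isPGroup_zpowers hxp)]
    constructor
    · rintro ⟨h1, _, h3⟩
      obtain ⟨n, hn1, hn2⟩ := InB.conj_of_isDef hDf h3 hb'.2.2
      rw [h3.2.1.2.isFx n (hNC hn1)] at hn2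
      exact EH_injective h1 hbb hn2
    · rintro rfl; exact hb'
  have hval : ∀ χ : IrrCharacter G, χ ∈ B → ∃ a : ℤ, ∀ y : cz (Subgroup.zpowers x),
      ¬ 2 ∣ orderOf y → (χ : G → ℂ) (x * y) = (a : ℂ) * (θ : cz (Subgroup.zpowers x) → ℂ) y ∧
      ct (cz (Subgroup.zpowers x)) x b (χ : G → ℂ) y =
        (a : ℂ) * (θ : cz (Subgroup.zpowers x) → ℂ) y := by
    intro χ hχ
    have hcc : IsCharacter (cz (Subgroup.zpowers x)) (fun c => (χ : G → ℂ) c) :=
      isChar_restrict' (irr_isChar χ.2)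
    obtain ⟨n1, hn1⟩ := classInner_char_nat hcc (irr_isChar θ.2)
    obtain ⟨n2, hn2⟩ := classInner_char_nat hcc (irr_isChar θ'.2)
    refine ⟨(n1 : ℤ) - n2, fun y hy => ?_⟩
    have h2 : ct (cz (Subgroup.zpowers x)) x b (χ : G → ℂ) y =
        (((n1 : ℤ) - n2 : ℤ) : ℂ) * (θ : cz (Subgroup.zpowers x) → ℂ) y := by
      rw [ct_eq_sum, hfil, Finset.sum_pair (Ne.symm hne)]
      have e1 := ac_eq (irr_isChar χ.2) hxC θ
      have e2 := ac_eq (irr_isChar χ.2) hxC θ'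
      rw [hn1, hlvθ] at e1
      rw [hn2, hlvθ'] at e2
      change ac (cz (Subgroup.zpowers x)) x (χ : G → ℂ) (θ : cz (Subgroup.zpowers x) → ℂ) = _
        at e1
      change ac (cz (Subgroup.zpowers x)) x (χ : G → ℂ) (θ' : cz (Subgroup.zpowers x) → ℂ) = _
        at e2
      rw [e1, e2, Pi.add_apply, Pi.smul_apply, Pi.smul_apply, smul_eq_mul, smul_eq_mul,
        hagreeb y hy]
      push_cast
      ring
    refine ⟨?_, h2⟩
    rw [← h2]
    have := char_eq_sum_ct hM hB hxp hC' hχ y hy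
    rw [hind, Finset.sum_singleton] at this
    exact this
  choose! a ha using hval
  -- B has two members
  obtain ⟨χ₁, hχ₁, -⟩ := exists_height_zero hM hB
  obtain ⟨χ₂, hχ₂, hne2, hall2⟩ := exists_pair_of_card_two hk hχ₁
  have hfil2 : univ.filter (fun η : IrrCharacter G => η ∈ B) = {χ₁, χ₂} := by
    ext η
    rw [Finset.mem_filter, Finset.mem_insert, Finset.mem_singleton]
    constructor
    · exact fun h => hall2 η h.2
    · rintro (h | h)
      · rw [h]; exact ⟨Finset.mem_univ _, hχ₁⟩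
      · rw [h]; exact ⟨Finset.mem_univ _, hχ₂⟩
  have h1a : ∀ χ ∈ B, (χ : G → ℂ) x = (a χ : ℂ) * m := by
    intro χ hχ
    have := (ha χ hχ 1 not_dvd_order_one).1
    rw [Subgroup.coe_one, mul_one, hmm] at this
    exact this
  have hz : a χ₁ + a χ₂ = 0 := by
    have h1 := kr_eq_zero hM hB (not_dvd_order_one (p := 2)) (hx ▸ dvd_rfl : 2 ∣ orderOf x)
    rw [kr_eq, hfil2, Finset.sum_pair (Ne.symm hne2), h1a χ₁ hχ₁, h1a χ₂ hχ₂,
      hagree χ₂ hχ₂ χ₁ hχ₁ 1 not_dvd_order_one] at h1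
    have h2 : (χ₁ : G → ℂ) 1 ≠ 0 := irr_one_ne_zero χ₁.2
    simp only [map_mul, Complex.conj_natCast, map_intCast] at h1
    have h3 : ((a χ₁ : ℂ) + a χ₂) = 0 := by
      apply mul_left_cancel₀ hmne
      apply mul_left_cancel₀ h2
      linear_combination h1
    exact_mod_cast h3
  have hsq : a χ₁ ^ 2 + a χ₂ ^ 2 = 2 := by
    have h1 := ct_pairing hM hB hxp hC' hb (1 : cz (Subgroup.zpowers x)) 1 not_dvd_order_one
      not_dvd_order_one
    rw [kr_eq, hsumb, hfil2, Finset.sum_pair (Ne.symm hne2),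
      (ha χ₁ hχ₁ 1 not_dvd_order_one).2, (ha χ₂ hχ₂ 1 not_dvd_order_one).2, hmm, hm'] at h1
    simp only [map_mul, Complex.conj_natCast, map_intCast] at h1
    have h3 : ((a χ₁ : ℂ) ^ 2 + (a χ₂ : ℂ) ^ 2) = 2 := by
      apply mul_left_cancel₀ (mul_ne_zero hmne hmne)
      linear_combination h1
    exact_mod_cast h3
  have h2' : a χ₂ = -a χ₁ := by omega
  have ha1 : a χ₁ = 1 ∨ a χ₁ = -1 := by
    rw [h2'] at hsq
    have h5 : 2 * ((a χ₁ - 1) * (a χ₁ + 1)) = 0 := by linear_combination hsq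
    rcases mul_eq_zero.mp ((mul_eq_zero.mp h5).resolve_left (by norm_num)) with h | h
    · left; omega
    · right; omega
  refine ⟨χ₁, hχ₁, χ₂, hχ₂, Ne.symm hne2, a χ₁, a χ₂, ha1, by omega, ?_,
    fun y hy => ⟨(ha χ₁ hχ₁ y hy).1, (ha χ₂ hχ₂ y hy).1⟩⟩
  rw [h2']
  rcases ha1 with h | h <;> rw [h] <;> norm_num

theorem st4513 (M : Ideal AlgInt) (hM : IsPModular 2 M) (x : G) (hx : orderOf x = 2)
    (B : Set (IrrCharacter G)) (hB : IsPBlock M B)
    (hBD : IsDefectGroup 2 M B (Subgroup.zpowers x))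
    (b : Set (IrrCharacter (Subgroup.centralizer ({x} : Set G))))
    (hb : IsInducedBlock M (Subgroup.centralizer ({x} : Set G)) b B)
    (θ : IrrCharacter (Subgroup.centralizer ({x} : Set G))) (hθ : θ ∈ b)
    (hθx : ∀ z : Subgroup.centralizer ({x} : Set G), (z : G) = x →
      (θ : Subgroup.centralizer ({x} : Set G) → ℂ) z =
        (θ : Subgroup.centralizer ({x} : Set G) → ℂ) 1) :
    Nat.card B = 2 ∧ (∀ χ ∈ B, ∀ ψ ∈ B, ∀ g : G, ¬ 2 ∣ orderOf g →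
      (χ : G → ℂ) g = (ψ : G → ℂ) g) ∧
      ∃ χ₁ ∈ B, ∃ χ₂ ∈ B, χ₁ ≠ χ₂ ∧ ∃ ε₁ ε₂ : ℤ, (ε₁ = 1 ∨ ε₁ = -1) ∧ (ε₂ = 1 ∨ ε₂ = -1) ∧
        ε₁ * ε₂ = -1 ∧ ∀ y : Subgroup.centralizer ({x} : Set G), ¬ 2 ∣ orderOf y →
          (χ₁ : G → ℂ) (x * y) =
            (ε₁ : ℂ) * (θ : Subgroup.centralizer ({x} : Set G) → ℂ) y ∧
          (χ₂ : G → ℂ) (x * y) =
            (ε₂ : ℂ) * (θ : Subgroup.centralizer ({x} : Set G) → ℂ) y :=
  st4513a M hM x hx B hB hBD _ (centralizer_zpowers x).symm b hb θ hθ hθx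

end DefectOne

end Cfsg.Agent.H26
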