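import Mathlib
import Cfsg.Agent.H26.MajSub3
import Cfsg.Agent.H26.Cover8
import Cfsg.Agent.H26.StabP

set_option autoImplicit false

/-!
# The `*`-construction, III: coefficients of local block idempotents
-/

namespace Cfsg.Agent.H26

open MonoidAlgebra MulAction Cfsg Cfsg.Agent.H11 Cfsg.Agent.H3 Finset
open scoped ComplexConjugate

universe u

section Ty

variable {X : Type u} [Group X] [Fintype X]

/-- Fourier identity for blocks. -/
theorem sum_blockCoeff_conj (B : Set (IrrCharacter X)) (y z : X) :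
    ∑ c : X, blockCoeff B (y⁻¹ * c * z * c⁻¹) = kr B y z := by
  classical
  have := Fintype.ofFinite (IrrCharacter X)
  rw [kr_eq]
  have h1 : ∀ g : X, blockCoeff B g = (Nat.card X : ℂ)⁻¹ *
      ∑ χ : IrrCharacter X with χ ∈ B, (χ : X → ℂ) 1 * conj ((χ : X → ℂ) g) := by
    intro g
    unfold blockCoeff
    rw [finsum_mem_irr]
  rw [Finset.sum_congr rfl fun c _ => h1 _, ← Finset.mul_sum, Finset.sum_comm, Finset.mul_sum]
  apply Finset.sum_congr rfl
  intro χ _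
  have hX : (Nat.card X : ℂ) ≠ 0 := by exact_mod_cast Nat.card_pos.ne'
  have h2 : ∑ c : X, (χ : X → ℂ) (y⁻¹ * c * z * c⁻¹) =
      (Nat.card X : ℂ) * (χ : X → ℂ) z * (χ : X → ℂ) y⁻¹ / (χ : X → ℂ) 1 := by
    rw [← sum_irr_conj_mul χ.2 z y⁻¹]
    apply Finset.sum_congr rfl
    intro c _
    have h3 := irr_classFun χ.2 (c * z * c⁻¹ * y⁻¹) y⁻¹
    rw [← h3]
    congr 1
    group
  have h4 : ∑ c : X, (χ : X → ℂ) 1 * conj ((χ : X → ℂ) (y⁻¹ * c * z * c⁻¹)) =
      (Nat.card X : ℂ) * ((χ : X → ℂ) y * conj ((χ : X → ℂ) z)) := by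
    rw [← Finset.mul_sum, ← map_sum, h2, map_div₀, map_mul, map_mul, Complex.conj_natCast,
      char_inv (irr_isChar χ.2), Complex.conj_conj]
    have h5 : conj ((χ : X → ℂ) 1) = (χ : X → ℂ) 1 := by
      rw [← char_inv (irr_isChar χ.2), inv_one]
    rw [h5]
    have h6 : (χ : X → ℂ) 1 ≠ 0 := H27.isIrr_one_ne_zero χ.2
    field_simp
  rw [h4, ← mul_assoc, inv_mul_cancel₀ hX, one_mul]

end Ty

section Ec

variable {M : Ideal AlgInt} [hM : M.IsPrime] {G : Type u} [Group G] [Fintype G]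

/-- The coefficients of the characteristic zero idempotent of a block. -/
noncomputable def ec (C : Subgroup G) (f : MonoidAlgebra (KF M) G) : G → ℂ :=
  subgroupBlockCoeff C (bs C f)

theorem ec_of_notMem {C : Subgroup G} {f : MonoidAlgebra (KF M) G} {g : G} (hg : g ∉ C) :
    ec C f g = 0 := by
  unfold ec subgroupBlockCoeff
  rw [dif_neg hg]

theorem ec_mem {C : Subgroup G} {f : MonoidAlgebra (KF M) G} {g : G} (hg : g ∈ C) :
    ec C f g = blockCoeff (bs C f) ⟨g, hg⟩ := by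
  unfold ec subgroupBlockCoeff
  rw [dif_pos hg]

open Classical in
theorem sum_ec_conj {C : Subgroup G} {f : MonoidAlgebra (KF M) G} {y z : G} (hy : y ∈ C)
    (hz : z ∈ C) : ∑ c : G with c ∈ C, ec C f (y⁻¹ * c * z * c⁻¹) =
      kr (bs C f) (⟨y, hy⟩ : C) ⟨z, hz⟩ := by
  have := Fintype.ofFinite C
  rw [← sum_blockCoeff_conj, Finset.sum_subtype (univ.filter (· ∈ C)) (p := (· ∈ C)) (by simp)
    (fun c : G => ec C f (y⁻¹ * c * z * c⁻¹))]
  apply Finset.sum_congr rfl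
  intro c _
  have h : y⁻¹ * (c : G) * z * (c : G)⁻¹ ∈ C :=
    C.mul_mem (C.mul_mem (C.mul_mem (C.inv_mem hy) c.2) hz) (C.inv_mem c.2)
  rw [ec_mem h]
  rfl

theorem ec_conv (C : Subgroup G) (f : MonoidAlgebra (KF M) G) (x : G) :
    ∑ y : G, ec C f y * ec C f (y⁻¹ * x) = ec C f x := by
  have h := ext0_mul_self (H := (⊤ : Subgroup G)) (Subgroup.topEquiv.symm : G ≃* (⊤ : Subgroup G))
    (K := C) le_top (bs C f)
  have h2 := congrArg (fun a : MonoidAlgebra ℂ G => a.coeff x) h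
  simp only [coeff_mul_fintype] at h2
  exact h2

theorem ec_cj {C : Subgroup G} {f : MonoidAlgebra (KF M) G} (hf : IsBlk C f) (g x : G) :
    ec (cg C g) (cj g f) (g * x * g⁻¹) = ec C f x := by
  by_cases hx : x ∈ C
  · have hx' : g * x * g⁻¹ ∈ cg C g := ⟨x, hx, rfl⟩
    rw [ec_mem hx', ec_mem hx, bs_cj hf, ← blockCoeff_irrMap (conjE C g) (bs C f)]
    rfl
  · rw [ec_of_notMem hx, ec_of_notMem]
    rintro ⟨y, hy, hyx⟩
    apply hx
    change g * y * g⁻¹ = g * x * g⁻¹ at hyx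
    have : y = x := mul_left_cancel (mul_right_cancel hyx)
    rwa [← this]

theorem ec_inv {C : Subgroup G} {f : MonoidAlgebra (KF M) G} (hf : IsBlk C f) {n : G}
    (hn : n ∈ nz C) (hfn : cj n f = f) (x : G) : ec C f (n * x * n⁻¹) = ec C f x := by
  have h := ec_cj hf n x
  have h2 : cg C n = C := by
    ext y
    rw [mem_cg]
    have h3 := Subgroup.mem_normalizer_iff.mp (Subgroup.inv_mem _ hn) y
    rw [inv_inv] at h3
    exact h3.symm
  rwa [hfn, h2] at h

theorem ec_eq {C K : Subgroup G} (hCK : C ≤ K) (hK : K ≤ nz C) {f : MonoidAlgebra (KF M) G}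
    (hfC : IsBlk C f) (hfK : IsBlk K f) (g : G) : ec K f g = ec C f g := by
  by_cases hg : g ∈ K
  · rw [ec_mem hg]
    exact (EH_eq_iff hCK hK (isPBlock_bs hfK).1 (isPBlock_bs hfC).1).mp
      (by rw [(isPBlock_bs hfK).2, (isPBlock_bs hfC).2]) ⟨g, hg⟩
  · rw [ec_of_notMem hg, ec_of_notMem (fun h => hg (hCK h))]

theorem ec_sub {C K : Subgroup G} [Fintype K] (hCK : C ≤ K) {f : MonoidAlgebra (KF M) G} (hf : IsBlk C f)
    {g : MonoidAlgebra (KF M) K} (hg : up g = f) (x : K) :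
    ec C f (x : G) = ec (C.subgroupOf K) g x := by
  have hb := isPBlock_bs hf
  have h1 := up_EH_sub (M := M) hCK (bs C f)
  rw [hb.2, ← hg] at h1
  have h2 := up_injective h1
  have h3 : bs (C.subgroupOf K) g = irrMap (subE hCK) '' (bs C f) := by
    rw [← h2, hg]
    exact bs_EH (isPBlock_irrMap (subE hCK) hb.1)
  by_cases hx : (x : G) ∈ C
  · have hx' : x ∈ C.subgroupOf K := hx
    rw [ec_mem hx, ec_mem hx', h3, ← blockCoeff_irrMap (subE hCK) (bs C f)]
    congr 1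
  · rw [ec_of_notMem hx, ec_of_notMem (C := C.subgroupOf K) (g := x) (fun h => hx h)]

theorem ec_top {B : Set (IrrCharacter G)} (hB : IsPBlock M B) (g : G) :
    ec (⊤ : Subgroup G) (EG M B) g = blockCoeff B g := by
  have hf : IsBlk (⊤ : Subgroup G) (EG M B) := isBlk_EG hB
  have h := (EG_eq_iff (K := (⊤ : Subgroup G)) inferInstance hB (isPBlock_bs hf).1).mp
    (isPBlock_bs hf).2.symm g
  exact h.symm

/-- The blocks of `C` below a central element. -/
noncomputable def bf (C : Subgroup G) (a : MonoidAlgebra (KF M) G) :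
    Finset (MonoidAlgebra (KF M) G) :=
  (show {f : MonoidAlgebra (KF M) G | IsBlk C f ∧ a * f = f}.Finite from
    (blks_finite (k := KF M) C).subset (fun _ h => h.1)).toFinset

theorem mem_bf {C : Subgroup G} {a f : MonoidAlgebra (KF M) G} :
    f ∈ bf C a ↔ IsBlk C f ∧ a * f = f := by
  unfold bf
  rw [Set.Finite.mem_toFinset]
  rfl

end Ec

section Sec

variable {M : Ideal AlgInt} [hM : M.IsPrime] {p : ℕ} [hp : Fact p.Prime]

open Classical in
/-- Second main theorem, whole group. -/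
theorem sec_top {G : Type u} [Group G] [Fintype G] (hMp : IsPModular p M)
    {f : MonoidAlgebra (KF M) G} (hf : IsBlk (⊤ : Subgroup G) f)
    {u : G} (hu : ∃ k : ℕ, orderOf u = p ^ k) {y z : G} (hy : y ∈ cz (Subgroup.zpowers u))
    (hz : z ∈ cz (Subgroup.zpowers u)) (hyr : ¬ p ∣ orderOf y) (hzr : ¬ p ∣ orderOf z) :
    ∑ k : G, ec (⊤ : Subgroup G) f ((u * y)⁻¹ * k * (u * z) * k⁻¹) =
      ∑ f' ∈ bf (cz (Subgroup.zpowers u)) (br (Subgroup.zpowers u) f),
        ∑ c : G with c ∈ cz (Subgroup.zpowers u),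
          ec (cz (Subgroup.zpowers u)) f' (y⁻¹ * c * z * c⁻¹) := by
  have hch : CharP (KF M) p := charP_KF hMp
  obtain ⟨B, hB, rfl⟩ := exists_EG hf
  have := Fintype.ofFinite (IrrCharacter G)
  rw [Finset.sum_congr rfl fun k _ => ec_top hB _, sum_blockCoeff_conj, kr_eq]
  have h1 := section_pairing' hMp hB hu (C := cz (Subgroup.zpowers u)) (cent_zpowers u).symm
    ⟨y, hy⟩ ⟨z, hz⟩ (by rwa [Subgroup.orderOf_mk]) (by rwa [Subgroup.orderOf_mk])
  rw [h1]
  apply Finset.sum_bij (fun b _ => EH M (cz (Subgroup.zpowers u)) b)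
  · intro b hb
    have h2 := (isInducedBlock_cz_iff (p := p) (isPGroup_zpowers hu)).mp (mem_indS.mp hb)
    exact mem_bf.mpr ⟨h2.2.2.2.1.2, h2.2.2.2.2⟩
  · intro b hb b' hb' h
    exact EH_injective (mem_indS.mp hb).1 (mem_indS.mp hb').1 h
  · intro f' hf'
    obtain ⟨h2, h3⟩ := mem_bf.mp hf'
    obtain ⟨b, hb, rfl⟩ := exists_EH h2
    refine ⟨b, ?_, rfl⟩
    rw [mem_indS, isInducedBlock_cz_iff (p := p) (isPGroup_zpowers hu)]
    exact ⟨hb, hB, isBlk_EG hB, ⟨isPGroup_zpowers hu, h2⟩, h3⟩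
  · intro b hb
    rw [sum_ec_conj hy hz, bs_EH (mem_indS.mp hb).1]

variable {G : Type u} [Group G] [Fintype G]

open Classical in
theorem sum_sub {K : Subgroup G} [Fintype K] (P : G → Prop) (h : ∀ g, P g → g ∈ K) (F : G → ℂ) :
    ∑ c : G with P c, F c =
      ∑ c ∈ (univ : Finset K).filter (fun c : K => P (c : G)), F (c : G) := by
  symm
  apply Finset.sum_bij (fun (c : K) _ => (c : G))
  · intro c hc
    exact Finset.mem_filter.mpr ⟨Finset.mem_univ _, (Finset.mem_filter.mp hc).2⟩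
  · intro a _ b _ hab; exact Subtype.ext hab
  · intro c hc
    have := (Finset.mem_filter.mp hc).2
    exact ⟨⟨c, h c this⟩, Finset.mem_filter.mpr ⟨Finset.mem_univ _, this⟩, rfl⟩
  · intro _ _; rfl

open Classical in
/-- Second main theorem for a subgroup. -/
theorem sec_sub (hMp : IsPModular p M) {K : Subgroup G}
    {f : MonoidAlgebra (KF M) G} (hf : IsBlk K f)
    {u : G} (huK : u ∈ K) (hu : ∃ k : ℕ, orderOf u = p ^ k) {y z : G}
    (hyK : y ∈ K) (hzK : z ∈ K) (hy : y ∈ cz (Subgroup.zpowers u))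
    (hz : z ∈ cz (Subgroup.zpowers u)) (hyr : ¬ p ∣ orderOf y) (hzr : ¬ p ∣ orderOf z) :
    ∑ k : G with k ∈ K, ec K f ((u * y)⁻¹ * k * (u * z) * k⁻¹) =
      ∑ f' ∈ bf (cz (Subgroup.zpowers u) ⊓ K) (br (Subgroup.zpowers u) f),
        ∑ c : G with c ∈ cz (Subgroup.zpowers u) ⊓ K,
          ec (cz (Subgroup.zpowers u) ⊓ K) f' (y⁻¹ * c * z * c⁻¹) := by
  have := Fintype.ofFinite K
  obtain ⟨f0, rfl⟩ := exists_up (K := K) hf.isSup
  have hf0 : IsBlk (⊤ : Subgroup K) f0 := by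
    rw [← isBlk_up, um_top]; exact hf
  have hzp : um (Subgroup.zpowers (⟨u, huK⟩ : K)) = Subgroup.zpowers u := by
    rw [um, MonoidHom.map_zpowers]; rfl
  have hcz : um (cz (Subgroup.zpowers (⟨u, huK⟩ : K))) = cz (Subgroup.zpowers u) ⊓ K := by
    rw [um_cz, hzp]
  have hczs : (cz (Subgroup.zpowers u) ⊓ K).subgroupOf K =
      cz (Subgroup.zpowers (⟨u, huK⟩ : K)) := by
    rw [← hcz]
    exact Subgroup.comap_map_eq_self_of_injective (Subgroup.subtype_injective K) _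
  have hmem : ∀ c : K, c ∈ cz (Subgroup.zpowers (⟨u, huK⟩ : K)) ↔
      (c : G) ∈ cz (Subgroup.zpowers u) ⊓ K := by
    intro c; rw [← hczs]; rfl
  have h := sec_top hMp hf0 (u := (⟨u, huK⟩ : K)) (by rwa [Subgroup.orderOf_mk])
    (y := ⟨y, hyK⟩) (z := ⟨z, hzK⟩) ((hmem _).mpr ⟨hy, hyK⟩) ((hmem _).mpr ⟨hz, hzK⟩)
    (by rwa [Subgroup.orderOf_mk]) (by rwa [Subgroup.orderOf_mk])
  have hL : ∑ k : G with k ∈ K, ec K (up f0) ((u * y)⁻¹ * k * (u * z) * k⁻¹) =
      ∑ k : K, ec (⊤ : Subgroup K) f0 (((⟨u, huK⟩ : K) * ⟨y, hyK⟩)⁻¹ * k *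
        (⟨u, huK⟩ * ⟨z, hzK⟩) * k⁻¹) := by
    rw [sum_sub (K := K) (fun g => g ∈ K) (fun _ h => h)]
    rw [Finset.filter_true_of_mem (fun k _ => k.2)]
    apply Finset.sum_congr rfl
    intro k _
    have h1 := ec_sub (le_refl K) hf (g := f0) rfl (((⟨u, huK⟩ : K) * ⟨y, hyK⟩)⁻¹ * k *
        (⟨u, huK⟩ * ⟨z, hzK⟩) * k⁻¹)
    rw [Subgroup.subgroupOf_self] at h1
    exact h1
  rw [hL, h]
  apply Finset.sum_bij (fun g _ => up g)
  · intro g hg
    obtain ⟨h1, h2⟩ := mem_bf.mp hg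
    refine mem_bf.mpr ⟨?_, ?_⟩
    · rw [← hcz, isBlk_up]; exact h1
    · rw [← hzp, br_up, ← up_mul, h2]
  · intro g _ g' _ hgg; exact up_injective hgg
  · intro f' hf'
    obtain ⟨h1, h2⟩ := mem_bf.mp hf'
    obtain ⟨g, rfl⟩ := exists_up (K := K) (h1.isSup.mono inf_le_right)
    refine ⟨g, mem_bf.mpr ⟨?_, ?_⟩, rfl⟩
    · rw [← isBlk_up, hcz]; exact h1
    · apply up_injective
      rw [up_mul, ← br_up, hzp]; exact h2
  · intro g hg
    obtain ⟨h1, h2⟩ := mem_bf.mp hg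
    rw [sum_sub (K := K) (fun c => c ∈ cz (Subgroup.zpowers u) ⊓ K) (fun _ h => h.2)]
    have hfilt : (univ.filter fun c : K => c ∈ cz (Subgroup.zpowers (⟨u, huK⟩ : K))) =
        univ.filter fun c : K => (c : G) ∈ cz (Subgroup.zpowers u) ⊓ K := by
      ext c
      simp only [Finset.mem_filter, Finset.mem_univ, true_and, hmem]
    rw [hfilt]
    apply Finset.sum_congr rfl
    intro c _
    have h3 := ec_sub (C := cz (Subgroup.zpowers u) ⊓ K) (K := K) inf_le_right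
      (f := up g) (by rw [← hcz, isBlk_up]; exact h1) rfl
      ((⟨y, hyK⟩ : K)⁻¹ * c * ⟨z, hzK⟩ * c⁻¹)
    rw [hczs] at h3
    exact h3.symm

open Classical in
/-- Block orthogonality for a subgroup. -/
theorem sec_zero (hMp : IsPModular p M) {K : Subgroup G}
    {f : MonoidAlgebra (KF M) G} (hf : IsBlk K f) {u v y z : G} (huK : u ∈ K) (hvK : v ∈ K)
    (hyK : y ∈ K) (hzK : z ∈ K)
    (hu : ∃ k : ℕ, orderOf u = p ^ k) (hv : ∃ k : ℕ, orderOf v = p ^ k)
    (hy : u * y = y * u) (hz : v * z = z * v) (hyr : ¬ p ∣ orderOf y) (hzr : ¬ p ∣ orderOf z)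
    (hne : ∀ k ∈ K, k * u * k⁻¹ ≠ v) :
    ∑ k : G with k ∈ K, ec K f ((u * y)⁻¹ * k * (v * z) * k⁻¹) = 0 := by
  have := Fintype.ofFinite K
  rw [sum_ec_conj (K.mul_mem huK hyK) (K.mul_mem hvK hzK)]
  have h := block_orthogonality (G := K) hMp (g := ⟨u * y, K.mul_mem huK hyK⟩)
    (h := ⟨v * z, K.mul_mem hvK hzK⟩) (x := ⟨u, huK⟩) (y := ⟨v, hvK⟩)
    ⟨⟨y, hyK⟩, rfl, Subtype.ext hy, by rwa [Subgroup.orderOf_mk], by rwa [Subgroup.orderOf_mk]⟩
    ⟨⟨z, hzK⟩, rfl, Subtype.ext hz, by rwa [Subgroup.orderOf_mk], by rwa [Subgroup.orderOf_mk]⟩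
    (by
      intro hc
      obtain ⟨k, hk⟩ := isConj_iff.mp hc
      exact hne k k.2 (congrArg Subtype.val hk)) (isPBlock_bs hf).1
  unfold kr
  rw [← h]
  apply finsum_mem_congr rfl
  intro χ _
  rw [char_inv (irr_isChar χ.2)]

end Sec

section Avg

variable {G : Type u} [Group G] [Fintype G]

open Classical in
/-- averaging over a subgroup which together with a centralizer generates -/
theorem avg_conj {C K : Subgroup G} (hCK : C ≤ K) {w : G}
    (h : ∀ k ∈ K, ∃ c ∈ C, k * w * k⁻¹ = c * w * c⁻¹) (F : G → ℂ) :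
    (Nat.card K : ℂ) * ∑ c : G with c ∈ C, F (c * w * c⁻¹) =
      (Nat.card C : ℂ) * ∑ k : G with k ∈ K, F (k * w * k⁻¹) := by
  have hcard : ∀ H : Subgroup G, (Nat.card H : ℂ) = ((univ.filter (· ∈ H) : Finset G).card : ℂ) := by
    intro H
    rw [Nat.card_eq_fintype_card, Fintype.card_subtype]
  -- double sum over `K × C`
  have h1 : ∑ k : G with k ∈ K, ∑ c : G with c ∈ C, F ((c * k) * w * (c * k)⁻¹) =
      (Nat.card C : ℂ) * ∑ k : G with k ∈ K, F (k * w * k⁻¹) := by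
    rw [Finset.sum_comm, hcard, ← nsmul_eq_mul, ← Finset.sum_const]
    apply Finset.sum_congr rfl
    intro c hc
    have hc' := (Finset.mem_filter.mp hc).2
    apply Finset.sum_bij (fun k _ => c * k)
    · intro k hk
      exact Finset.mem_filter.mpr ⟨Finset.mem_univ _,
        K.mul_mem (hCK hc') (Finset.mem_filter.mp hk).2⟩
    · intro a _ b _ hab; exact mul_left_cancel hab
    · intro k hk
      exact ⟨c⁻¹ * k, Finset.mem_filter.mpr ⟨Finset.mem_univ _,
        K.mul_mem (K.inv_mem (hCK hc')) (Finset.mem_filter.mp hk).2⟩, by group⟩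
    · intro _ _; rfl
  have h2 : ∑ k : G with k ∈ K, ∑ c : G with c ∈ C, F ((c * k) * w * (c * k)⁻¹) =
      (Nat.card K : ℂ) * ∑ c : G with c ∈ C, F (c * w * c⁻¹) := by
    rw [hcard, ← nsmul_eq_mul, ← Finset.sum_const]
    apply Finset.sum_congr rfl
    intro k hk
    obtain ⟨c0, hc0, hk0⟩ := h k (Finset.mem_filter.mp hk).2
    apply Finset.sum_bij (fun c _ => c * c0)
    · intro c hc
      exact Finset.mem_filter.mpr ⟨Finset.mem_univ _, C.mul_mem (Finset.mem_filter.mp hc).2 hc0⟩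
    · intro a _ b _ hab; exact mul_right_cancel hab
    · intro c hc
      exact ⟨c * c0⁻¹, Finset.mem_filter.mpr ⟨Finset.mem_univ _,
        C.mul_mem (Finset.mem_filter.mp hc).2 (C.inv_mem hc0)⟩, by group⟩
    · intro c _
      congr 1
      calc (c * k) * w * (c * k)⁻¹ = c * (k * w * k⁻¹) * c⁻¹ := by group
        _ = _ := by rw [hk0]; group
  rw [← h1, h2]

end Avg

end Cfsg.Agent.H26
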